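import Cfsg.Agent.Lib.Transfer.PGroupNormal
import Cfsg.Agent.Lib.Solvable.Frattini2
import Cfsg.Agent.Lib.StructC.SectionalFour
import Cfsg.Prelude.Def_CaseTheorems

/-!
Elementary lemmas on sections of `p`-groups.
-/

set_option autoImplicit false
set_option linter.style.haveILetI false
set_option linter.unusedSectionVars false

namespace CfsgLib.RankThree

open Subgroup
open scoped commutatorElement

variable {G : Type*} [Group G] [Finite G] {p : ℕ} [hp : Fact p.Prime]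

/-- A relative chief step. -/
theorem exists_chief_rel (hG : IsPGroup p G) {D A : Subgroup G} [D.Normal] [A.Normal] (h : D < A) :
    ∃ B : Subgroup G, B.Normal ∧ D ≤ B ∧ B ≤ A ∧ B.relIndex A = p ∧
      (∀ g : G, ∀ a ∈ A, ⁅g, a⁆ ∈ B) ∧ ∀ a ∈ A, a ^ p ∈ B := by
  set π := QuotientGroup.mk' D with hπ
  haveI : (A.map π).Normal := Subgroup.Normal.map inferInstance _ (QuotientGroup.mk'_surjective D)
  have hne : A.map π ≠ ⊥ := by
    rw [Ne, Subgroup.map_eq_bot_iff, QuotientGroup.ker_mk']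
    exact h.not_ge
  obtain ⟨M, hM, hMA, hcard, hcomm, hpow⟩ :=
    CfsgLib.Transfer.exists_chief_below (hG.to_quotient D) _ hne
  have hcA : (A.map π).comap π = A := by
    rw [Subgroup.comap_map_eq, QuotientGroup.ker_mk', sup_eq_left.2 h.le]
  refine ⟨M.comap π, hM.comap π, ?_, (Subgroup.comap_mono hMA).trans hcA.le, ?_, fun g a ha => ?_,
    fun a ha => ?_⟩
  · intro d hd
    rw [Subgroup.mem_comap, show π d = 1 from (QuotientGroup.eq_one_iff d).2 hd]
    exact one_mem M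
  · have h1 := Subgroup.relIndex_comap M π A
    rw [h1]
    have h2 := Subgroup.card_mul_index (M.subgroupOf (A.map π))
    rw [Nat.card_congr (Subgroup.subgroupOfEquivOfLe hMA).toEquiv, hcard, mul_comm p] at h2
    exact Nat.eq_of_mul_eq_mul_left Nat.card_pos h2
  · show π ⁅g, a⁆ ∈ M
    rw [map_commutatorElement, commutatorElement_def]
    exact hcomm _ (mem_map_of_mem π ha) _
  · show π (a ^ p) ∈ M
    rw [map_pow]
    exact hpow _ (mem_map_of_mem π ha)

/-- The elements of a section of prime order. -/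
theorem exists_pow_mul {A B : Subgroup G} [A.Normal] (h : A.relIndex B = p) {x : G} (hx : x ∈ B)
    (hxA : x ∉ A) {y : G} (hy : y ∈ B) : ∃ i < p, ∃ a ∈ A, y = x ^ i * a := by
  haveI : (A.subgroupOf B).Normal := inferInstance
  have hc : Nat.card (B ⧸ A.subgroupOf B) = p := by rw [← Subgroup.index_eq_card]; exact h
  set q : B ⧸ A.subgroupOf B := QuotientGroup.mk ⟨x, hx⟩ with hq
  have hq1 : q ≠ 1 := fun e => hxA (((QuotientGroup.eq_one_iff (⟨x, hx⟩ : B)).1 e :))
  have hord : orderOf q = p :=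
    orderOf_eq_prime (by rw [← hc]; exact pow_card_eq_one') hq1
  have hmem := mem_powers_iff_mem_zpowers.2
    ((zpowers_eq_top_of_prime_card hc hq1).ge (Subgroup.mem_top (QuotientGroup.mk ⟨y, hy⟩)))
  obtain ⟨i, hi⟩ := (Submonoid.mem_powers_iff _ _).1 hmem
  refine ⟨i % p, Nat.mod_lt _ hp.out.pos, (x ^ (i % p))⁻¹ * y, ?_, by group⟩
  have h1 : (QuotientGroup.mk (⟨x, hx⟩ ^ (i % p) : B) : B ⧸ A.subgroupOf B) =
      QuotientGroup.mk ⟨y, hy⟩ := by
    rw [QuotientGroup.mk_pow, ← hord, pow_mod_orderOf, hi]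
  exact (QuotientGroup.eq.1 h1 :)

omit [Finite G] in
theorem dvd_of_pow_mem {A : Subgroup G} {x : G} (hxp : x ^ p ∈ A) (hx : x ∉ A) {i : ℕ}
    (hi : x ^ i ∈ A) : p ∣ i := by
  by_contra h
  obtain ⟨u, v, huv⟩ : ∃ u v : ℤ, (p : ℤ) * u + (i : ℤ) * v = 1 :=
    by
      obtain ⟨u, v, huv⟩ := (Int.isCoprime_iff_gcd_eq_one.2 (by
        simpa [Int.gcd] using (hp.out.coprime_iff_not_dvd.2 h)) : IsCoprime (p : ℤ) (i : ℤ))
      exact ⟨u, v, by rw [mul_comm (p : ℤ), mul_comm (i : ℤ)]; exact huv⟩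
  refine hx ?_
  have h1 : x = (x ^ p) ^ u * (x ^ i) ^ v := by
    rw [← zpow_natCast x p, ← zpow_natCast x i, ← zpow_mul, ← zpow_mul, ← zpow_add, huv, zpow_one]
  rw [h1]
  exact mul_mem (zpow_mem hxp u) (zpow_mem hi v)

omit [Finite G] in
theorem pow_eq_pow_zmod {x : G} (hx : x ^ p = 1) {a b : ℕ} (h : (a : ZMod p) = b) :
    x ^ a = x ^ b := by
  rw [ZMod.natCast_eq_natCast_iff] at h
  exact pow_eq_pow_iff_modEq.2 (h.of_dvd (orderOf_dvd_of_pow_eq_one hx))

omit [Finite G] in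
theorem comm_pow_left {a b : G} (hc : Commute a ⁅a, b⁆) (k : ℕ) : ⁅a ^ k, b⁆ = ⁅a, b⁆ ^ k := by
  induction k with
  | zero => simp
  | succ k ih =>
    have e : ⁅a * a ^ k, b⁆ = a * ⁅a ^ k, b⁆ * a⁻¹ * ⁅a, b⁆ := by
      simp only [commutatorElement_def]; group
    rw [pow_succ', e, ih, (hc.pow_right k).eq, mul_inv_cancel_right, pow_succ]

omit [Finite G] in
theorem comm_pow_right {a b : G} (hc : Commute b ⁅a, b⁆) (k : ℕ) : ⁅a, b ^ k⁆ = ⁅a, b⁆ ^ k := by
  rw [← commutatorElement_inv,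
    comm_pow_left (by rw [← commutatorElement_inv]; exact hc.inv_right) k,
    ← commutatorElement_inv, inv_pow, inv_inv]

omit [Finite G] in
theorem comm_mul_right {g a b : G} (h : Commute a ⁅g, b⁆) : ⁅g, a * b⁆ = ⁅g, a⁆ * ⁅g, b⁆ := by
  have e : ⁅g, a * b⁆ = ⁅g, a⁆ * (a * ⁅g, b⁆ * a⁻¹) := by simp only [commutatorElement_def]; group
  rw [e, h.eq, mul_inv_cancel_right]

omit [Finite G] in
theorem comm_mul_left {g a b : G} (h : Commute a ⁅b, g⁆) : ⁅a * b, g⁆ = ⁅b, g⁆ * ⁅a, g⁆ := by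
  have e : ⁅a * b, g⁆ = a * ⁅b, g⁆ * a⁻¹ * ⁅a, g⁆ := by simp only [commutatorElement_def]; group
  rw [e, h.eq, mul_inv_cancel_right]

theorem commutator_mem_frattini (hG : IsPGroup p G) (a b : G) : ⁅a, b⁆ ∈ frattini G := by
  haveI := hG.isNilpotent
  exact CfsgLib.Solvable.commutator_le_frattini
    (Subgroup.commutator_mem_commutator (mem_top a) (mem_top b))

theorem frattini_le_of_index {M : Subgroup G} (h : M.index = p) : frattini G ≤ M := by
  refine frattini_le_coatom ⟨fun e => hp.out.ne_one (by rw [← h, e, index_top]), fun K hK => ?_⟩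
  have h1 := relIndex_mul_index hK.le
  rw [h] at h1
  rcases (Nat.dvd_prime hp.out).mp (Dvd.intro_left _ h1) with h2 | h2
  · exact index_eq_one.mp h2
  · rw [h2, Nat.mul_eq_right hp.out.ne_zero] at h1
    exact absurd (relIndex_eq_one.mp h1) hK.not_ge

/-- An abelian section of exponent `p`. -/
theorem relIndex_le {k : ℕ} (hr : Cfsg.SectionalPRankLE p k G) {H K : Subgroup G} [K.Normal]
    (hc : ∀ a ∈ H, ∀ b ∈ H, ⁅a, b⁆ ∈ K) (hpow : ∀ a ∈ H, a ^ p ∈ K) :
    K.relIndex H ≤ p ^ k := by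
  haveI : (K.subgroupOf H).Normal := inferInstance
  show (K.subgroupOf H).index ≤ p ^ k
  rw [Subgroup.index_eq_card]
  refine CfsgLib.StructC.SectionalFour.card_le_of_hom hr H.subtype (QuotientGroup.mk' (K.subgroupOf H))
    (QuotientGroup.mk'_surjective _) ?_ ?_ ?_
  · rw [(MonoidHom.ker_eq_bot_iff _).2 H.subtype_injective]
    exact bot_le
  · intro a b
    obtain ⟨⟨a, ha⟩, rfl⟩ := QuotientGroup.mk'_surjective _ a
    obtain ⟨⟨b, hb⟩, rfl⟩ := QuotientGroup.mk'_surjective _ b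
    rw [← commutatorElement_eq_one_iff_mul_comm, ← map_commutatorElement,
      QuotientGroup.mk'_apply, QuotientGroup.eq_one_iff]
    exact hc a ha b hb
  · intro a
    obtain ⟨⟨a, ha⟩, rfl⟩ := QuotientGroup.mk'_surjective _ a
    rw [← map_pow, QuotientGroup.mk'_apply, QuotientGroup.eq_one_iff]
    exact hpow a ha

end CfsgLib.RankThree
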