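import Cfsg.Agent.Lib.RankThree.Frame
import Cfsg.Agent.Lib.Transfer.PPrimeAut

/-!
An essential subgroup with a transvection outside has characteristic Frattini subgroup in its
normalizer, in sectional rank three.
-/

set_option autoImplicit false
set_option linter.style.haveILetI false
set_option linter.unusedSectionVars false

namespace CfsgLib.RankThree

open Subgroup
open scoped commutatorElement

theorem sectional_of {p k : ℕ} {S G Q : Type*} [Group S] [Group G] [Group Q]
    (hr : Cfsg.SectionalPRankLE p k S) (ι : G →* S) (hι : Function.Injective ι) (π : G →* Q)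
    (hπ : Function.Surjective π) : Cfsg.SectionalPRankLE p k Q := by
  intro H K _ A hA hpow
  let q : H →* H ⧸ K := QuotientGroup.mk' K
  let X : Subgroup G := ((A.comap q).map H.subtype).comap π
  have hmem : ∀ x : X, ∃ h : π x ∈ H, q ⟨π x, h⟩ ∈ A := by
    rintro ⟨x, hx⟩
    obtain ⟨⟨y, hy⟩, hyA, hyx⟩ := hx
    have hy' : y = π x := hyx
    subst hy'
    exact ⟨hy, hyA⟩
  let π₁ : X →* H := (π.comp X.subtype).codRestrict H fun x => (hmem x).1
  let f : X →* A := (q.comp π₁).codRestrict A fun x => (hmem x).2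
  have hf : Function.Surjective f := by
    rintro ⟨a, ha⟩
    obtain ⟨⟨y, hy⟩, rfl⟩ := QuotientGroup.mk'_surjective K a
    obtain ⟨x, rfl⟩ := hπ y
    exact ⟨⟨x, ⟨⟨π x, hy⟩, ha, rfl⟩⟩, rfl⟩
  refine CfsgLib.StructC.SectionalFour.card_le_of_hom hr (ι.comp X.subtype) f hf ?_
    (fun a b => hA.is_comm.comm a b) fun a => Subtype.ext (by rw [Subgroup.coe_pow]; exact hpow a a.2)
  rw [(MonoidHom.ker_eq_bot_iff (ι.comp X.subtype)).2 fun _ _ h => X.subtype_injective (hι h)]
  exact bot_le

variable {N : Type*} [Group N] [Finite N] {p : ℕ} [hp : Fact p.Prime]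

/-- A maximal subgroup with elementary quotient of order `p³` on which the outside acts as
transvections, and a torus. -/
structure TransData (p : ℕ) (E D : Subgroup N) (θ : MulAut N) (x e u : N) (a a' : ℕ) : Prop where
  index : E.index = p
  normal : E.Normal
  normalD : D.Normal
  le : D ≤ E
  comm : ∀ a ∈ E, ∀ b ∈ E, ⁅a, b⁆ ∈ D
  pow : ∀ a ∈ E, a ^ p ∈ D
  minimal : ∀ L : Subgroup N, L.Normal → (∀ a ∈ E, ∀ b ∈ E, ⁅a, b⁆ ∈ L) → (∀ a ∈ E, a ^ p ∈ L) →
    D ≤ L
  x_not : x ∉ E
  gen : E = closure {⁅x, e⁆, u, e}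
  indep : ∀ i j k : ℕ, ⁅x, e⁆ ^ i * u ^ j * e ^ k ∈ D → p ∣ i ∧ p ∣ j ∧ p ∣ k
  xu : ⁅x, u⁆ ∈ D
  xl : ⁅x, ⁅x, e⁆⁆ ∈ D
  map_D : ∀ d ∈ D, θ d ∈ D
  θx : (x ^ (a * a))⁻¹ * θ x ∈ E
  θl : (⁅x, e⁆ ^ a)⁻¹ * θ ⁅x, e⁆ ∈ D
  θu : u⁻¹ * θ u ∈ D
  θe : (e ^ a')⁻¹ * θ e ∈ D
  haa : (a : ZMod p) * a' = 1
  ha1 : (a : ZMod p) ^ 2 ≠ 1

variable {E D : Subgroup N} {θ : MulAut N} {x e u : N} {a a' : ℕ}

theorem TransData.facts (h : TransData p E D θ x e u a a') :
    e ∈ E ∧ u ∈ E ∧ ⁅x, e⁆ ∈ E ∧
    (∀ g : N, ∀ b ∈ E, ∃ i < p, ∃ d ∈ D, ⁅g, b⁆ = ⁅x, e⁆ ^ i * d) ∧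
    (∀ g : N, ⁅g, ⁅x, e⁆⁆ ∈ D) := by
  haveI := h.normal
  haveI := h.normalD
  have he : e ∈ E := h.gen ▸ subset_closure (by simp)
  have hu : u ∈ E := h.gen ▸ subset_closure (by simp)
  have hl : ⁅x, e⁆ ∈ E := h.gen ▸ subset_closure (by simp)
  have htop : E.relIndex ⊤ = p := by rw [Subgroup.relIndex_top_right]; exact h.index
  set π := QuotientGroup.mk' D
  have hone : ∀ {g : N}, g ∈ D → π g = 1 := fun hg => (QuotientGroup.eq_one_iff _).2 hg
  have hcomm : ∀ {g g' : N}, ⁅g, g'⁆ ∈ D → Commute (π g) (π g') := fun hg => by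
    rw [← commutatorElement_eq_one_iff_commute, ← map_commutatorElement]
    exact hone hg
  have hlc : ∀ g : N, Commute (π g) (π ⁅x, e⁆) := fun g => by
    obtain ⟨i, -, v, hv, rfl⟩ := exists_pow_mul htop (mem_top x) h.x_not (mem_top g)
    rw [map_mul, map_pow]
    exact ((hcomm h.xl).pow_left i).mul_left (hcomm (h.comm v hv _ hl))
  refine ⟨he, hu, hl, fun g b hb => ?_, fun g => (QuotientGroup.eq_one_iff _).1 (by
    rw [← QuotientGroup.mk'_apply, map_commutatorElement]
    exact commutatorElement_eq_one_iff_commute.2 (hlc g))⟩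
  -- commutators with `x`
  have hlp : π ⁅x, e⁆ ^ p = 1 := by rw [← map_pow]; exact hone (h.pow _ hl)
  have hx : ∀ b ∈ E, ∃ m : ℕ, ⁅π x, π b⁆ = π ⁅x, e⁆ ^ m := by
    intro b hb
    rw [h.gen] at hb
    induction hb using Subgroup.closure_induction with
    | mem b hb =>
      rcases hb with rfl | rfl | rfl
      · exact ⟨0, by rw [pow_zero, commutatorElement_eq_one_iff_commute]; exact hcomm h.xl⟩
      · exact ⟨0, by rw [pow_zero, commutatorElement_eq_one_iff_commute]; exact hcomm h.xu⟩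
      · exact ⟨1, by rw [pow_one, map_commutatorElement]⟩
    | one => exact ⟨0, by simp⟩
    | mul b c hb hc ihb ihc =>
      obtain ⟨m, hm⟩ := ihb
      obtain ⟨n, hn⟩ := ihc
      refine ⟨m + n, ?_⟩
      rw [map_mul, comm_mul_right (by rw [hn]; exact (hlc b).pow_right n), hm, hn, ← pow_add]
    | inv b hb ih =>
      obtain ⟨m, hm⟩ := ih
      refine ⟨(p - 1) * m, ?_⟩
      have h1 : ⁅π x, (π b)⁻¹ * π b⁆ = ⁅π x, (π b)⁻¹⁆ * ⁅π x, π b⁆ :=
        comm_mul_right (by rw [hm]; exact ((hlc b).inv_left).pow_right m)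
      rw [inv_mul_cancel, commutatorElement_one_right, hm] at h1
      rw [map_inv, eq_inv_of_mul_eq_one_left h1.symm]
      refine inv_eq_of_mul_eq_one_right ?_
      rw [← pow_add, show m + (p - 1) * m = p * m by
        rw [← one_add_mul, Nat.add_sub_cancel' hp.out.one_le], pow_mul, hlp, one_pow]
  obtain ⟨i, -, v, hv, rfl⟩ := exists_pow_mul htop (mem_top x) h.x_not (mem_top g)
  obtain ⟨m, hm⟩ := hx b hb
  have hz : ⁅π v, π b⁆ = 1 := commutatorElement_eq_one_iff_commute.2 (hcomm (h.comm v hv b hb))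
  have h1 : ⁅π (x ^ i * v), π b⁆ = π ⁅x, e⁆ ^ (m * i) := by
    rw [map_mul, map_pow, comm_mul_left (by rw [hz]; exact Commute.one_right _), hz, one_mul,
      comm_pow_left (by rw [hm]; exact (hlc x).pow_right m), hm, ← pow_mul]
  rw [← map_commutatorElement, ← map_pow] at h1
  refine ⟨m * i % p, Nat.mod_lt _ hp.out.pos, _, ?_, (mul_inv_cancel_left _ _).symm⟩
  refine QuotientGroup.eq.1 ?_
  show π (⁅x, e⁆ ^ (m * i % p)) = π _
  rw [h1, map_pow, map_pow]
  exact pow_eq_pow_zmod hlp (by simp)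

theorem TransData.comm_mem (h : TransData p E D θ x e u a a') (g g' w : N) :
    ⁅w, ⁅g, g'⁆⁆ ∈ D := by
  haveI := h.normal
  haveI := h.normalD
  obtain ⟨he, hu, hl, hb, hlD⟩ := h.facts
  have htop : E.relIndex ⊤ = p := by rw [Subgroup.relIndex_top_right]; exact h.index
  set π := QuotientGroup.mk' D
  have hcl : ∀ (g : N) (b : N), b ∈ E → ∀ w : N, Commute (π w) ⁅π g, π b⁆ := by
    intro g b hbE w
    obtain ⟨i, -, d, hd, hgb⟩ := hb g b hbE
    rw [← map_commutatorElement, hgb, map_mul, map_pow, show π d = 1 from (QuotientGroup.eq_one_iff d).2 hd,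
      mul_one]
    refine Commute.pow_right ?_ i
    rw [← commutatorElement_eq_one_iff_commute, ← map_commutatorElement]
    exact (QuotientGroup.eq_one_iff _).2 (hlD w)
  rw [← QuotientGroup.eq_one_iff, ← QuotientGroup.mk'_apply, map_commutatorElement,
    commutatorElement_eq_one_iff_commute, map_commutatorElement]
  obtain ⟨i, -, v, hv, rfl⟩ := exists_pow_mul htop (mem_top x) h.x_not (mem_top g')
  have hxi : ∀ w : N, Commute (π w) ⁅π g, π (x ^ i)⁆ := by
    intro w
    obtain ⟨j, -, v', hv', rfl⟩ := exists_pow_mul htop (mem_top x) h.x_not (mem_top g)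
    have h2 : ∀ w : N, Commute (π w) ⁅π v', π (x ^ i)⁆ := fun w => by
      rw [← commutatorElement_inv]
      exact (hcl (x ^ i) v' hv' w).inv_right
    rw [map_mul, comm_mul_left (h2 (x ^ j)), map_pow π x j, map_pow π x i,
      commutatorElement_eq_one_iff_commute.2 ((Commute.refl (π x)).pow_pow j i), mul_one,
      ← map_pow π x i]
    exact h2 w
  rw [map_mul, comm_mul_right (hcl g v hv (x ^ i))]
  exact (hxi w).mul_right (hcl g v hv w)

theorem TransData.pow_mem (hp5 : 5 ≤ p) (h : TransData p E D θ x e u a a') (g : N) : g ^ p ∈ D := by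
  haveI := h.normal
  haveI := h.normalD
  obtain ⟨he, hu, hl, hb, hlD⟩ := h.facts
  have hpp := hp.out
  have htop : E.relIndex ⊤ = p := by rw [Subgroup.relIndex_top_right]; exact h.index
  set π := QuotientGroup.mk' D
  have hone : ∀ {g : N}, g ∈ D → π g = 1 := fun hg => (QuotientGroup.eq_one_iff _).2 hg
  have hcl : ∀ q r : N ⧸ D, ⁅q, r⁆ ∈ center (N ⧸ D) := by
    intro q r
    obtain ⟨q, rfl⟩ := QuotientGroup.mk'_surjective D q
    obtain ⟨r, rfl⟩ := QuotientGroup.mk'_surjective D r
    refine Subgroup.mem_center_iff.2 fun w => ?_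
    obtain ⟨w, rfl⟩ := QuotientGroup.mk'_surjective D w
    rw [← commutatorElement_eq_one_iff_mul_comm, ← map_commutatorElement, ← map_commutatorElement]
    exact hone (h.comm_mem q r w)
  have hpowv : ∀ v ∈ E, π v ^ p = 1 := fun v hv => by rw [← map_pow]; exact hone (h.pow v hv)
  have hcp : ∀ (q : N) (v : N), v ∈ E → ⁅π v, π q⁆ ^ p = 1 := by
    intro q v hv
    obtain ⟨i, -, d, hd, hqv⟩ := hb q v hv
    rw [← commutatorElement_inv, inv_pow, ← map_commutatorElement, hqv, map_mul, hone hd, mul_one,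
      map_pow, ← pow_mul, mul_comm, pow_mul, hpowv _ hl, one_pow, inv_one]
  have hsplit : ∀ (q : N) (v : N), v ∈ E → (π q * π v) ^ p = π q ^ p := fun q v hv => by
    rw [CfsgLib.Transfer.mul_pow_prime_class_two hcl hpp (by omega) _ _ (hcp q v hv), hpowv v hv,
      mul_one]
  -- `x ^ p` has trivial image
  have hxp : π x ^ p = 1 := by
    have hxpE : x ^ p ∈ E := by
      have h1 : (QuotientGroup.mk x : N ⧸ E) ^ p = 1 := by
        rw [← h.index, Subgroup.index_eq_card]
        exact pow_card_eq_one'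
      rwa [← QuotientGroup.mk_pow, QuotientGroup.eq_one_iff] at h1
    have hdec : ∀ b ∈ E, ∃ i j k : ℕ, π b = π ⁅x, e⁆ ^ i * π u ^ j * π e ^ k := by
      intro b hbE
      rw [h.gen] at hbE
      have cE : ∀ v ∈ E, ∀ w ∈ E, Commute (π v) (π w) := fun v hv w hw => by
        rw [← commutatorElement_eq_one_iff_commute, ← map_commutatorElement]
        exact hone (h.comm v hv w hw)
      induction hbE using Subgroup.closure_induction with
      | mem b hb =>
        rcases hb with rfl | rfl | rfl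
        · exact ⟨1, 0, 0, by simp⟩
        · exact ⟨0, 1, 0, by simp⟩
        · exact ⟨0, 0, 1, by simp⟩
      | one => exact ⟨0, 0, 0, by simp⟩
      | mul b c hb hc ihb ihc =>
        obtain ⟨i, j, k, h1⟩ := ihb
        obtain ⟨i', j', k', h2⟩ := ihc
        refine ⟨i + i', j + j', k + k', ?_⟩
        rw [map_mul, h1, h2, pow_add, pow_add, pow_add]
        rw [(((cE _ he _ hl).pow_pow k i').mul_right
            ((cE _ he _ hu).pow_pow k j')).mul_mul_mul_comm,
          ((cE _ hu _ hl).pow_pow j i').mul_mul_mul_comm]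
      | inv b hb ih =>
        obtain ⟨i, j, k, h1⟩ := ih
        refine ⟨(p - 1) * i, (p - 1) * j, (p - 1) * k, ?_⟩
        have hinvp : ∀ {w : N ⧸ D} (i : ℕ), w ^ p = 1 → w ^ ((p - 1) * i) = (w ^ i)⁻¹ :=
          fun {w} i hw => eq_inv_of_mul_eq_one_left (by
            rw [← pow_add, show (p - 1) * i + i = p * i by
              rw [← add_one_mul, Nat.sub_add_cancel hpp.one_le], pow_mul, hw, one_pow])
        rw [map_inv, h1, hinvp i (hpowv _ hl), hinvp j (hpowv _ hu), hinvp k (hpowv _ he),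
          mul_inv_rev, mul_inv_rev, ((cE _ hu _ hl).pow_pow j i).inv_inv.eq,
          (((cE _ he _ hl).pow_pow k i).inv_inv.mul_right ((cE _ he _ hu).pow_pow k j).inv_inv).eq]
    obtain ⟨i, j, k, hijk⟩ := hdec _ hxpE
    rw [map_pow] at hijk
    -- commuting with `x` kills the last coordinate
    have hlc : ∀ w : N, Commute (π w) (π ⁅x, e⁆) := fun w => by
      rw [← commutatorElement_eq_one_iff_commute, ← map_commutatorElement]
      exact hone (hlD w)
    have huc : Commute (π x) (π u) := by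
      rw [← commutatorElement_eq_one_iff_commute, ← map_commutatorElement]
      exact hone h.xu
    have hxc : Commute (π x) (π x ^ p) := (Commute.refl _).pow_right p
    have hk : p ∣ k := by
      rw [hijk, commutatorElement_eq_one_iff_commute.symm] at hxc
      rw [comm_mul_right (by
          rw [comm_pow_right (by rw [← map_commutatorElement]; exact hlc e),
            ← map_commutatorElement]
          exact (((hlc ⁅x, e⁆).pow_left i).mul_left ((hlc u).pow_left j)).pow_right k),
        commutatorElement_eq_one_iff_commute.2 (((hlc x).pow_right i).mul_right (huc.pow_right j)),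
        one_mul, comm_pow_right (by rw [← map_commutatorElement]; exact hlc e),
        ← map_commutatorElement, ← map_pow] at hxc
      exact (h.indep k 0 0 (by
        rw [pow_zero, pow_zero, mul_one, mul_one]; exact (QuotientGroup.eq_one_iff _).1 hxc)).1
    obtain ⟨t, rfl⟩ := hk
    rw [pow_mul, hpowv _ he, one_pow, mul_one] at hijk
    -- the weights
    have hθ : π (θ (x ^ p)) = (π x ^ p) ^ (a * a) := by
      have e1 : θ x = x ^ (a * a) * ((x ^ (a * a))⁻¹ * θ x) := by rw [mul_inv_cancel_left]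
      rw [map_pow θ, e1, map_pow, map_mul, hsplit _ _ h.θx, map_pow, ← pow_mul, mul_comm, pow_mul]
    have hθ' : π (θ (x ^ p)) = π ⁅x, e⁆ ^ (a * i) * π u ^ j := by
      have e1 : (⁅x, e⁆ ^ i * u ^ j)⁻¹ * x ^ p ∈ D := by
        refine QuotientGroup.eq.1 ?_
        show π (⁅x, e⁆ ^ i * u ^ j) = π (x ^ p)
        rw [map_pow π x p, hijk, map_mul, map_pow, map_pow]
      have e2 := hone (h.map_D _ e1)
      rw [map_mul θ, map_inv θ, map_mul π, map_inv π, inv_mul_eq_one, map_mul θ, map_pow θ,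
        map_pow θ, map_mul π, map_pow π, map_pow π] at e2
      have e3 : π (θ ⁅x, e⁆) = π ⁅x, e⁆ ^ a := by
        rw [← map_pow]; exact (QuotientGroup.eq.2 h.θl).symm
      have e4 : π (θ u) = π u := (QuotientGroup.eq.2 h.θu).symm
      rw [← e2, e3, e4, ← pow_mul]
    rw [hθ', hijk, ((hlc u).symm.pow_pow i j).mul_pow, ← pow_mul, ← pow_mul] at hθ
    have hcast : ∀ {i j i' j' : ℕ},
        π ⁅x, e⁆ ^ i * π u ^ j = π ⁅x, e⁆ ^ i' * π u ^ j' →
        (i : ZMod p) = i' ∧ (j : ZMod p) = j' := by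
      intro i j i' j' heq
      have hl' : π ⁅x, e⁆ ^ i' * π ⁅x, e⁆ ^ ((p - 1) * i') = 1 := by
        rw [← pow_add, show i' + (p - 1) * i' = p * i' by
          rw [← one_add_mul, Nat.add_sub_cancel' hpp.one_le], pow_mul, hpowv _ hl, one_pow]
      have hu' : π u ^ j' * π u ^ ((p - 1) * j') = 1 := by
        rw [← pow_add, show j' + (p - 1) * j' = p * j' by
          rw [← one_add_mul, Nat.add_sub_cancel' hpp.one_le], pow_mul, hpowv _ hu, one_pow]
      have h1 : π ⁅x, e⁆ ^ (i + (p - 1) * i') * π u ^ (j + (p - 1) * j') = 1 := by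
        rw [pow_add, pow_add, ((hlc u).symm.pow_pow ((p - 1) * i') j).mul_mul_mul_comm, heq,
          ((hlc u).pow_pow j' ((p - 1) * i')).mul_mul_mul_comm, hl', hu', one_mul]
      rw [← map_pow, ← map_pow, ← map_mul] at h1
      obtain ⟨h2, h3, -⟩ := h.indep (i + (p - 1) * i') (j + (p - 1) * j') 0 (by
        rw [pow_zero, mul_one]; exact (QuotientGroup.eq_one_iff _).1 h1)
      rw [← ZMod.natCast_eq_zero_iff] at h2 h3
      push_cast [Nat.cast_sub hpp.one_le, ZMod.natCast_self] at h2 h3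
      constructor
      · linear_combination h2
      · linear_combination h3
    obtain ⟨hi, hj⟩ := hcast hθ
    push_cast at hi hj
    have ha0 : (a : ZMod p) ≠ 0 := left_ne_zero_of_mul_eq_one h.haa
    have hi0 : (i : ZMod p) = 0 := by
      have h1 : (i : ZMod p) * (a * ((a : ZMod p) - 1)) = 0 := by linear_combination -hi
      refine (mul_eq_zero.1 h1).resolve_right (mul_ne_zero ha0 (sub_ne_zero.2 fun h' => h.ha1 ?_))
      rw [h', one_pow]
    have hj0 : (j : ZMod p) = 0 := by
      have h1 : (j : ZMod p) * ((a : ZMod p) ^ 2 - 1) = 0 := by linear_combination -hj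
      exact (mul_eq_zero.1 h1).resolve_right (sub_ne_zero.2 h.ha1)
    obtain ⟨i', rfl⟩ := (ZMod.natCast_eq_zero_iff _ _).1 hi0
    obtain ⟨j', rfl⟩ := (ZMod.natCast_eq_zero_iff _ _).1 hj0
    rw [hijk, pow_mul, pow_mul, hpowv _ hl, hpowv _ hu, one_pow, one_pow, one_mul]
  obtain ⟨i, -, v, hv, rfl⟩ := exists_pow_mul htop (mem_top x) h.x_not (mem_top g)
  rw [← QuotientGroup.eq_one_iff, ← QuotientGroup.mk'_apply, map_pow, map_mul, hsplit _ _ hv,
    map_pow, ← pow_mul, mul_comm, pow_mul, hxp, one_pow]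

/-- The Frattini subgroup of `E` is invariant under all automorphisms. -/
theorem TransData.invariant (hN : IsPGroup p N) (hp5 : 5 ≤ p)
    (hsr : Cfsg.SectionalPRankLE p 3 N) (h : TransData p E D θ x e u a a') (σ : MulAut N) :
    ∀ d ∈ D, σ d ∈ D := by
  classical
  haveI := h.normal
  haveI := h.normalD
  have hpp := hp.out
  obtain ⟨he, hu, hl, hb, hlD⟩ := h.facts
  set l := ⁅x, e⁆ with hldef
  set K : Subgroup N := closure ({g | ∃ q : N, g = q ^ p} ∪ {g | ∃ q r w : N, g = ⁅w, ⁅q, r⁆⁆})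
    with hK
  have hKσ : ∀ σ : MulAut N, ∀ g ∈ K, σ g ∈ K := by
    intro σ g hg
    induction hg using Subgroup.closure_induction with
    | mem g hg =>
      rcases hg with ⟨q, rfl⟩ | ⟨q, r, w, rfl⟩
      · exact subset_closure (Or.inl ⟨σ q, map_pow σ q p⟩)
      · exact subset_closure (Or.inr ⟨σ q, σ r, σ w, by simp only [map_commutatorElement]⟩)
    | one => rw [map_one]; exact one_mem _
    | mul g g' _ _ ih ih' => rw [map_mul]; exact mul_mem ih ih'
    | inv g _ ih => rw [map_inv]; exact inv_mem ih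
  haveI : K.Normal := ⟨fun g hg q => hKσ (MulAut.conj q) g hg⟩
  have hKD : K ≤ D := (closure_le _).2 (by
    rintro g (⟨q, rfl⟩ | ⟨q, r, w, rfl⟩)
    · exact h.pow_mem hp5 q
    · exact h.comm_mem q r w)
  suffices hDK : D ≤ K from fun d hd => hKD (hKσ σ d (hDK hd))
  set π := QuotientGroup.mk' K
  have hone : ∀ {g : N}, g ∈ K → π g = 1 := fun hg => (QuotientGroup.eq_one_iff _).2 hg
  have hexp : ∀ q : N ⧸ K, q ^ p = 1 := fun q => by
    obtain ⟨q, rfl⟩ := QuotientGroup.mk'_surjective K q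
    rw [← map_pow]
    exact hone (subset_closure (Or.inl ⟨q, rfl⟩))
  have hcl : ∀ q r : N ⧸ K, ⁅q, r⁆ ∈ center (N ⧸ K) := by
    intro q r
    obtain ⟨q, rfl⟩ := QuotientGroup.mk'_surjective K q
    obtain ⟨r, rfl⟩ := QuotientGroup.mk'_surjective K r
    refine Subgroup.mem_center_iff.2 fun w => ?_
    obtain ⟨w, rfl⟩ := QuotientGroup.mk'_surjective K w
    rw [← commutatorElement_eq_one_iff_mul_comm, ← map_commutatorElement, ← map_commutatorElement]
    exact hone (subset_closure (Or.inr ⟨q, r, w, rfl⟩))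
  have cc : ∀ (q r w : N ⧸ K), Commute w ⁅q, r⁆ := fun q r w =>
    Subgroup.mem_center_iff.1 (hcl q r) w
  have hL : ∀ w : N, Commute (π w) (π l) := fun w => by
    rw [hldef, map_commutatorElement]; exact cc _ _ _
  set w0 := π ⁅e, u⁆ with hw0
  have hW : ∀ w : N ⧸ K, Commute w w0 := fun w => by
    rw [hw0, map_commutatorElement]; exact cc _ _ _
  set L : Subgroup N := (zpowers w0).comap π with hLdef
  have hLn : L.Normal := by
    refine Subgroup.Normal.comap ⟨fun q hq g => ?_⟩ π
    obtain ⟨k, rfl⟩ := Subgroup.mem_zpowers_iff.1 hq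
    rw [((hW g).zpow_right k).eq, mul_inv_cancel_right]
    exact Subgroup.zpow_mem_zpowers w0 k
  have hDL : D ≤ L := by
    refine h.minimal L hLn ?_ fun b _ => ?_
    · set π2 := QuotientGroup.mk' L
      have c2 : ∀ {b c : N}, π ⁅b, c⁆ ∈ zpowers w0 → Commute (π2 b) (π2 c) := fun hbc => by
        rw [← commutatorElement_eq_one_iff_commute, ← map_commutatorElement]
        exact (QuotientGroup.eq_one_iff _).2 hbc
      have hgen : ∀ b ∈ ({l, u, e} : Set N), ∀ c ∈ ({l, u, e} : Set N), Commute (π2 b) (π2 c) := by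
        have hle : ∀ b : N, Commute (π2 b) (π2 l) := fun b => c2 (by
          rw [map_commutatorElement, commutatorElement_eq_one_iff_commute.2 (hL b)]
          exact one_mem _)
        have heu : Commute (π2 e) (π2 u) := c2 (Subgroup.mem_zpowers w0)
        rintro b (rfl | rfl | rfl) c (rfl | rfl | rfl)
        all_goals first
          | exact Commute.refl _
          | exact hle _
          | exact (hle _).symm
          | exact heu
          | exact heu.symm
      intro b hbE c hcE
      rw [h.gen, ← hldef] at hbE hcE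
      have h1 : Commute (π2 b) (π2 c) := by
        have hc' : ∀ g ∈ ({l, u, e} : Set N), Commute (π2 g) (π2 c) := by
          intro g hg
          induction hcE using Subgroup.closure_induction with
          | mem c hc => exact hgen g hg c hc
          | one => rw [map_one]; exact Commute.one_right _
          | mul c d _ _ ih ih' => rw [map_mul]; exact ih.mul_right ih'
          | inv c _ ih => rw [map_inv]; exact ih.inv_right
        induction hbE using Subgroup.closure_induction with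
        | mem b hb => exact hc' b hb
        | one => rw [map_one]; exact Commute.one_left _
        | mul b d _ _ ih ih' => rw [map_mul]; exact ih.mul_left ih'
        | inv b _ ih => rw [map_inv]; exact ih.inv_left
      rw [← commutatorElement_eq_one_iff_commute, ← map_commutatorElement] at h1
      exact (QuotientGroup.eq_one_iff _).1 h1
    · show π (b ^ p) ∈ zpowers w0
      rw [map_pow, hexp]
      exact one_mem _
  by_cases hw : w0 = 1
  · intro d hd
    have h1 := hDL hd
    rw [hLdef, hw, Subgroup.zpowers_one_eq_bot] at h1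
    exact (QuotientGroup.eq_one_iff _).1 (Subgroup.mem_bot.1 h1)
  exfalso
  -- an abelian section of order `p⁴`
  obtain ⟨r, hr⟩ : ∃ r : ℕ, π ⁅x, u⁆ = w0 ^ r := by
    have h1 : π ⁅x, u⁆ ∈ zpowers w0 := hDL h.xu
    rw [← mem_powers_iff_mem_zpowers] at h1
    obtain ⟨r, hr⟩ := h1
    exact ⟨r, hr.symm⟩
  set x' := x * e ^ ((p - 1) * r) with hx'
  have hx'u : Commute (π x') (π u) := by
    rw [← commutatorElement_eq_one_iff_commute, hx', map_mul, map_pow,
      CfsgLib.Transfer.commutatorElement_mul_left hcl, CfsgLib.Transfer.commutatorElement_pow_left hcl,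
      ← map_commutatorElement, ← map_commutatorElement, hr, ← hw0, ← pow_add,
      show r + (p - 1) * r = p * r by rw [← one_add_mul, Nat.add_sub_cancel' hpp.one_le],
      pow_mul, hexp, one_pow]
  have hcomm : Commute (π x') (π l) ∧ Commute (π u) (π l) := ⟨hL _, hL _⟩
  let ι : Multiplicative (ZMod p × ZMod p × ZMod p × ZMod p) →* N ⧸ K :=
    { toFun := fun q => pw (π x') q.toAdd.1 * (pw (π u) q.toAdd.2.1 *
        (pw (π l) q.toAdd.2.2.1 * pw w0 q.toAdd.2.2.2))
      map_one' := by simp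
      map_mul' := fun v w => by
        have p1 : ∀ {q r : N ⧸ K} (s t : ZMod p), Commute q r → Commute (pw q s) (pw r t) :=
          fun s t h => h.pow_pow _ _
        simp only [toAdd_mul, Prod.fst_add, Prod.snd_add, pw_add (hexp _)]
        rw [(p1 w.toAdd.2.2.1 v.toAdd.2.2.2 (hW (π l))).mul_mul_mul_comm,
          ((p1 w.toAdd.2.1 v.toAdd.2.2.1 hcomm.2).mul_right
            (p1 w.toAdd.2.1 v.toAdd.2.2.2 (hW _))).mul_mul_mul_comm,
          ((p1 w.toAdd.1 v.toAdd.2.1 hx'u).mul_right ((p1 w.toAdd.1 v.toAdd.2.2.1 hcomm.1).mul_right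
            (p1 w.toAdd.1 v.toAdd.2.2.2 (hW _)))).mul_mul_mul_comm] }
  have hinj : Function.Injective ι := by
    rw [← MonoidHom.ker_eq_bot_iff, Subgroup.eq_bot_iff_forall]
    intro q hq
    set i := q.toAdd.1
    set j := q.toAdd.2.1
    set k := q.toAdd.2.2.1
    set m := q.toAdd.2.2.2
    have hq' : π (x' ^ i.val * (u ^ j.val * (l ^ k.val * ⁅e, u⁆ ^ m.val))) = 1 := by
      simp only [map_mul, map_pow]
      exact hq
    have h1 := hKD ((QuotientGroup.eq_one_iff _).1 hq')
    have hD' : ⁅e, u⁆ ^ m.val ∈ D := Subgroup.pow_mem _ (h.comm e he u hu) _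
    have hEi : x ^ i.val ∈ E := by
      have h2 : x' ^ i.val ∈ E := by
        have h3 : u ^ j.val * (l ^ k.val * ⁅e, u⁆ ^ m.val) ∈ E :=
          mul_mem (Subgroup.pow_mem _ hu _) (mul_mem (Subgroup.pow_mem _ hl _) (h.le hD'))
        have h4 := mul_mem (h.le h1) (inv_mem h3)
        rwa [mul_inv_cancel_right] at h4
      have h3 : (QuotientGroup.mk x' : N ⧸ E) = QuotientGroup.mk x :=
        (QuotientGroup.eq.2 (by rw [hx', inv_mul_cancel_left]; exact Subgroup.pow_mem _ he _)).symm
      rw [← QuotientGroup.eq_one_iff, QuotientGroup.mk_pow, h3, ← QuotientGroup.mk_pow,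
        QuotientGroup.eq_one_iff] at h2
      exact h2
    have hxp : x ^ p ∈ E := h.le (h.pow_mem hp5 x)
    have hi : i = 0 := (ZMod.val_eq_zero i).1
      (Nat.eq_zero_of_dvd_of_lt (dvd_of_pow_mem hxp h.x_not hEi) (ZMod.val_lt i))
    rw [hi, ZMod.val_zero, pow_zero, one_mul] at h1
    have h2 : l ^ k.val * u ^ j.val * e ^ 0 ∈ D := by
      rw [pow_zero, mul_one]
      have h3 : u ^ j.val * l ^ k.val ∈ D := by
        have := mul_mem h1 (inv_mem hD')
        rwa [mul_assoc (u ^ j.val), mul_inv_cancel_right] at this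
      exact h.normalD.mem_comm h3
    obtain ⟨hk, hj, -⟩ := h.indep _ _ _ h2
    have hk0 : k = 0 := (ZMod.val_eq_zero k).1 (Nat.eq_zero_of_dvd_of_lt hk (ZMod.val_lt k))
    have hj0 : j = 0 := (ZMod.val_eq_zero j).1 (Nat.eq_zero_of_dvd_of_lt hj (ZMod.val_lt j))
    have hm : m = 0 := by
      rw [hi, hk0, hj0] at hq'
      simp only [ZMod.val_zero, pow_zero, one_mul, map_pow] at hq'
      exact eq_zero_of_pw_eq_one (hexp _) hw hq'
    exact toAdd_eq_zero.1 (Prod.ext hi (Prod.ext hj0 (Prod.ext hk0 hm)))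
  have hcard := CfsgLib.StructC.SectionalFour.card_le_of_hom
    (sectional_of hsr (MonoidHom.id N) Function.injective_id π (QuotientGroup.mk'_surjective K)) ι
    (MonoidHom.id (Multiplicative (ZMod p × ZMod p × ZMod p × ZMod p))) Function.surjective_id
    (by rw [(MonoidHom.ker_eq_bot_iff _).2 hinj]; exact bot_le) mul_comm fun w =>
      Multiplicative.toAdd.injective (by rw [toAdd_pow, toAdd_one]; ext <;> simp)
  rw [Nat.card_congr Multiplicative.toAdd, Nat.card_prod, Nat.card_prod, Nat.card_prod,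
    Nat.card_zmod, show p * (p * (p * p)) = p ^ 4 by ring] at hcard
  exact absurd hcard (not_le.2 (Nat.pow_lt_pow_right hpp.one_lt (by norm_num)))

end CfsgLib.RankThree
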