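import Cfsg.Agent.Lib.RankThree.Basic

/-!
Frames of `p^(1+2) × C_p` and their automorphisms.
-/

set_option autoImplicit false
set_option linter.style.haveILetI false
set_option linter.unusedSectionVars false

namespace CfsgLib.RankThree

open Subgroup
open scoped commutatorElement

/-- Powers with exponents in `ZMod p`. -/
def pw {G : Type*} [Group G] {p : ℕ} (g : G) (s : ZMod p) : G := g ^ s.val

section Pw

variable {G : Type*} [Group G] {p : ℕ} [hp : Fact p.Prime] {g g' : G}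

@[simp] theorem pw_zero : pw g (0 : ZMod p) = 1 := by simp [pw]

@[simp] theorem pw_one : pw g (1 : ZMod p) = g := by
  haveI : Fact (1 < p) := ⟨hp.out.one_lt⟩
  simp [pw, ZMod.val_one]

@[simp] theorem one_pw (s : ZMod p) : pw (1 : G) s = 1 := by simp [pw]

theorem pw_natCast (hg : g ^ p = 1) (n : ℕ) : pw g (n : ZMod p) = g ^ n :=
  pow_eq_pow_zmod hg (ZMod.natCast_zmod_val _)

theorem pw_add (hg : g ^ p = 1) (s t : ZMod p) : pw g (s + t) = pw g s * pw g t := by
  rw [pw, pw, pw, ← pow_add]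
  exact pow_eq_pow_zmod hg (by push_cast [ZMod.natCast_zmod_val]; rfl)

theorem pw_pow (hg : g ^ p = 1) (s : ZMod p) (n : ℕ) : pw g s ^ n = pw g ((n : ZMod p) * s) := by
  rw [pw, pw, ← pow_mul]
  exact pow_eq_pow_zmod hg (by push_cast [ZMod.natCast_zmod_val]; ring)

theorem pw_pw (hg : g ^ p = 1) (s t : ZMod p) : pw (pw g s) t = pw g (s * t) := by
  rw [show pw (pw g s) t = pw g s ^ t.val from rfl, pw_pow hg, ZMod.natCast_zmod_val, mul_comm]

theorem pw_neg (hg : g ^ p = 1) (s : ZMod p) : pw g (-s) = (pw g s)⁻¹ :=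
  eq_inv_of_mul_eq_one_left (by rw [← pw_add hg, neg_add_cancel, pw_zero])

theorem pw_exp (hg : g ^ p = 1) (s : ZMod p) : pw g s ^ p = 1 := by
  rw [pw_pow hg, ZMod.natCast_self, zero_mul, pw_zero]

theorem map_pw {H F : Type*} [Group H] [FunLike F G H] [MonoidHomClass F G H] (f : F)
    (s : ZMod p) : f (pw g s) = pw (f g) s := map_pow f g _

theorem commute_pw (h : Commute g g') (s : ZMod p) : Commute g (pw g' s) := h.pow_right _

theorem mul_pw (h : Commute g g') (s : ZMod p) : pw (g * g') s = pw g s * pw g' s := h.mul_pow _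

theorem eq_zero_of_pw_eq_one (hg : g ^ p = 1) (hg1 : g ≠ 1) {s : ZMod p} (h : pw g s = 1) :
    s = 0 := by
  have h1 : p ∣ s.val := by
    have := orderOf_dvd_of_pow_eq_one h
    rwa [orderOf_eq_prime hg hg1] at this
  rwa [← ZMod.natCast_eq_zero_iff, ZMod.natCast_zmod_val] at h1

theorem pw_injective (hg : g ^ p = 1) (hg1 : g ≠ 1) {s t : ZMod p} (h : pw g s = pw g t) :
    s = t :=
  sub_eq_zero.1 (eq_zero_of_pw_eq_one hg hg1 (by rw [sub_eq_add_neg, pw_add hg, pw_neg hg, h,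
    mul_inv_cancel]))

end Pw

theorem twist_scalars {K : Type*} [Field K] {p1 p2 κ A B D : K} (h1 : p1 ≠ 0) (hκ : κ ≠ 0)
    (e1 : p1 * A + p2 * κ = p1) (e2 : p2 * A - p1 * B = p2 * 1 - p1 * 0)
    (e3 : p2 * κ - p1 * D = p2 * 0 - p1 * 1) :
    ∃ lam : K, lam ≠ 0 ∧ A = 1 + lam * p2 * p1 ∧ B = lam * p2 * p2 ∧ κ = -(lam * p1 * p1) ∧
      D = 1 - lam * p1 * p2 := by
  refine ⟨-κ / (p1 * p1), div_ne_zero (neg_ne_zero.2 hκ) (mul_ne_zero h1 h1), ?_, ?_, ?_, ?_⟩
  · field_simp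
    linear_combination e1
  · field_simp
    linear_combination p2 * e1 - p1 * e2
  · field_simp
  · field_simp
    linear_combination -e3

/-- Coordinates of a group `⟨x, e⟩ × ⟨u⟩` isomorphic to `p^(1+2) × C_p`. -/
structure QFrame (p : ℕ) (Q : Type*) [Group Q] where
  x : Q
  e : Q
  u : Q
  l : Q
  cx : Q → ZMod p
  ce : Q → ZMod p
  cu : Q → ZMod p
  exp : ∀ q : Q, q ^ p = 1
  l_ne : l ≠ 1
  comm : ⁅x, e⁆ = l
  u_central : ∀ q : Q, Commute u q
  l_central : ∀ q : Q, Commute l q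
  cx_mul : ∀ q r, cx (q * r) = cx q + cx r
  ce_mul : ∀ q r, ce (q * r) = ce q + ce r
  cu_mul : ∀ q r, cu (q * r) = cu q + cu r
  cx_x : cx x = 1
  cx_e : cx e = 0
  cx_u : cx u = 0
  ce_x : ce x = 0
  ce_e : ce e = 1
  ce_u : ce u = 0
  cu_x : cu x = 0
  cu_e : cu e = 0
  cu_u : cu u = 1
  ker : ∀ q, cx q = 0 → ce q = 0 → cu q = 0 → ∃ m : ZMod p, q = pw l m

namespace QFrame

variable {Q : Type*} [Group Q] {p : ℕ} [hp : Fact p.Prime] (F : QFrame p Q)

theorem add_pow {c : Q → ZMod p} (h : ∀ q r, c (q * r) = c q + c r) (q : Q) (n : ℕ) :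
    c (q ^ n) = (n : ZMod p) * c q := by
  induction n with
  | zero =>
    rw [pow_zero, Nat.cast_zero, zero_mul]
    simpa using h 1 1
  | succ n ih => rw [pow_succ, h, ih, Nat.cast_succ]; ring

theorem add_pw {c : Q → ZMod p} (h : ∀ q r, c (q * r) = c q + c r) (q : Q) (s : ZMod p) :
    c (pw q s) = s * c q := by
  rw [pw, add_pow h, ZMod.natCast_zmod_val]

theorem add_inv {c : Q → ZMod p} (h : ∀ q r, c (q * r) = c q + c r) (q : Q) :
    c q⁻¹ = - c q := by
  have h1 := h q⁻¹ q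
  have h0 := add_pow h q 0
  rw [pow_zero, Nat.cast_zero, zero_mul] at h0
  rw [inv_mul_cancel, h0] at h1
  exact eq_neg_of_add_eq_zero_left h1.symm

theorem cx_l : F.cx F.l = 0 := by
  rw [← F.comm, commutatorElement_def]
  simp [F.cx_mul, add_inv F.cx_mul]

theorem ce_l : F.ce F.l = 0 := by
  rw [← F.comm, commutatorElement_def]
  simp [F.ce_mul, add_inv F.ce_mul]

theorem cu_l : F.cu F.l = 0 := by
  rw [← F.comm, commutatorElement_def]
  simp [F.cu_mul, add_inv F.cu_mul]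

theorem cx_pw (q : Q) (s : ZMod p) : F.cx (pw q s) = s * F.cx q := add_pw F.cx_mul q s

theorem ce_pw (q : Q) (s : ZMod p) : F.ce (pw q s) = s * F.ce q := add_pw F.ce_mul q s

theorem cu_pw (q : Q) (s : ZMod p) : F.cu (pw q s) = s * F.cu q := add_pw F.cu_mul q s

theorem decomp (q : Q) :
    ∃ m : ZMod p, q = pw F.x (F.cx q) * pw F.e (F.ce q) * pw F.u (F.cu q) * pw F.l m := by
  obtain ⟨m, hm⟩ := F.ker ((pw F.x (F.cx q) * pw F.e (F.ce q) * pw F.u (F.cu q))⁻¹ * q)
    (by simp [F.cx_mul, add_inv F.cx_mul, F.cx_pw, F.cx_x, F.cx_e, F.cx_u])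
    (by simp [F.ce_mul, add_inv F.ce_mul, F.ce_pw, F.ce_x, F.ce_e, F.ce_u])
    (by simp [F.cu_mul, add_inv F.cu_mul, F.cu_pw, F.cu_x, F.cu_e, F.cu_u])
  exact ⟨m, by rw [← hm]; group⟩

theorem central_of_coord {q : Q} (hx : F.cx q = 0) (he : F.ce q = 0) :
    ∃ k m : ZMod p, q = pw F.u k * pw F.l m := by
  obtain ⟨m, hm⟩ := F.decomp q
  exact ⟨F.cu q, m, by rw [hx, he] at hm; simpa using hm⟩

theorem commute_ul (k m : ZMod p) (q : Q) : Commute (pw F.u k * pw F.l m) q :=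
  ((F.u_central q).pow_left _).mul_left ((F.l_central q).pow_left _)

theorem x_mul_e : F.x * F.e = F.l * (F.e * F.x) := by
  rw [← F.comm, commutatorElement_def]
  group

theorem coord_of_central {q : Q} (hx : Commute q F.x) (he : Commute q F.e) :
    F.cx q = 0 ∧ F.ce q = 0 := by
  obtain ⟨m, hm⟩ := F.decomp q
  have hcl : Commute F.x ⁅F.x, F.e⁆ := F.comm ▸ (F.l_central F.x).symm
  have hcl' : Commute F.e ⁅F.e, F.x⁆ := by
    rw [← commutatorElement_inv, F.comm]
    exact (F.l_central F.e).symm.inv_right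
  have hz : ∀ w : Q, ⁅pw F.u (F.cu q) * pw F.l m, w⁆ = 1 := fun w =>
    commutatorElement_eq_one_iff_commute.2 (F.commute_ul _ _ w)
  constructor
  · have h1 := commutatorElement_eq_one_iff_commute.2 he
    rw [hm, mul_assoc _ (pw F.u (F.cu q)),
      comm_mul_left (by rw [hz]; exact Commute.one_right _), hz, one_mul,
      comm_mul_left (by
        rw [commutatorElement_eq_one_iff_commute.2
        (show Commute (pw F.e (F.ce q)) F.e from (Commute.refl F.e).pow_left _)]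
        exact Commute.one_right _),
      commutatorElement_eq_one_iff_commute.2
        (show Commute (pw F.e (F.ce q)) F.e from (Commute.refl F.e).pow_left _), one_mul,
      show pw F.x (F.cx q) = F.x ^ (F.cx q).val from rfl, comm_pow_left hcl, F.comm] at h1
    exact eq_zero_of_pw_eq_one (F.exp _) F.l_ne h1
  · have h1 := commutatorElement_eq_one_iff_commute.2 hx
    rw [hm, mul_assoc _ (pw F.u (F.cu q)),
      comm_mul_left (by rw [hz]; exact Commute.one_right _), hz, one_mul,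
      comm_mul_left (by
        rw [show pw F.e (F.ce q) = F.e ^ (F.ce q).val from rfl, comm_pow_left hcl',
          ← commutatorElement_inv, F.comm]
        exact ((F.l_central _).symm.inv_right).pow_right _),
      commutatorElement_eq_one_iff_commute.2
        (show Commute (pw F.x (F.cx q)) F.x from (Commute.refl F.x).pow_left _), mul_one,
      show pw F.e (F.ce q) = F.e ^ (F.ce q).val from rfl, comm_pow_left hcl',
      ← commutatorElement_inv, F.comm, inv_pow, inv_eq_one] at h1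
    exact eq_zero_of_pw_eq_one (F.exp _) F.l_ne h1

/-- The frame moved by an automorphism. -/
def map (α : MulAut Q) : QFrame p Q where
  x := α F.x
  e := α F.e
  u := α F.u
  l := α F.l
  cx q := F.cx (α.symm q)
  ce q := F.ce (α.symm q)
  cu q := F.cu (α.symm q)
  exp := F.exp
  l_ne h := F.l_ne (α.injective (by rw [h, map_one]))
  comm := by rw [← map_commutatorElement, F.comm]
  u_central q := by simpa using (F.u_central (α.symm q)).map α.toMonoidHom
  l_central q := by simpa using (F.l_central (α.symm q)).map α.toMonoidHom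
  cx_mul q r := by rw [map_mul, F.cx_mul]
  ce_mul q r := by rw [map_mul, F.ce_mul]
  cu_mul q r := by rw [map_mul, F.cu_mul]
  cx_x := by rw [α.symm_apply_apply, F.cx_x]
  cx_e := by rw [α.symm_apply_apply, F.cx_e]
  cx_u := by rw [α.symm_apply_apply, F.cx_u]
  ce_x := by rw [α.symm_apply_apply, F.ce_x]
  ce_e := by rw [α.symm_apply_apply, F.ce_e]
  ce_u := by rw [α.symm_apply_apply, F.ce_u]
  cu_x := by rw [α.symm_apply_apply, F.cu_x]
  cu_e := by rw [α.symm_apply_apply, F.cu_e]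
  cu_u := by rw [α.symm_apply_apply, F.cu_u]
  ker q h1 h2 h3 := by
    obtain ⟨m, hm⟩ := F.ker _ h1 h2 h3
    exact ⟨m, by rw [← map_pw, ← hm, α.apply_symm_apply]⟩

/-- Automorphisms act linearly on the coordinates modulo the centre. -/
theorem linear_x (α : MulAut Q) (q : Q) :
    F.cx (α q) = F.cx q * F.cx (α F.x) + F.ce q * F.cx (α F.e) := by
  obtain ⟨m, hm⟩ := F.decomp q
  have hz := F.coord_of_central (q := α (pw F.u (F.cu q) * pw F.l m))
    (by simpa using (F.commute_ul (F.cu q) m (α.symm F.x)).map α.toMonoidHom)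
    (by simpa using (F.commute_ul (F.cu q) m (α.symm F.e)).map α.toMonoidHom)
  conv_lhs => rw [hm, mul_assoc _ (pw F.u (F.cu q)), map_mul, map_mul, map_pw, map_pw]
  rw [F.cx_mul, F.cx_mul, hz.1, F.cx_pw, F.cx_pw, add_zero]

theorem linear_e (α : MulAut Q) (q : Q) :
    F.ce (α q) = F.cx q * F.ce (α F.x) + F.ce q * F.ce (α F.e) := by
  obtain ⟨m, hm⟩ := F.decomp q
  have hz := F.coord_of_central (q := α (pw F.u (F.cu q) * pw F.l m))
    (by simpa using (F.commute_ul (F.cu q) m (α.symm F.x)).map α.toMonoidHom)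
    (by simpa using (F.commute_ul (F.cu q) m (α.symm F.e)).map α.toMonoidHom)
  conv_lhs => rw [hm, mul_assoc _ (pw F.u (F.cu q)), map_mul, map_mul, map_pw, map_pw]
  rw [F.ce_mul, F.ce_mul, hz.2, F.ce_pw, F.ce_pw, add_zero]

set_option maxHeartbeats 300000 in
/-- A torus with a transvection moving `e` allows a change of frame fixing a given line. -/
theorem exists_twist {θ c : MulAut Q} {a a' : ZMod p} (haa : a * a' = 1) (ha3 : a ^ 3 ≠ 1)
    (hx : θ F.x = pw F.x (a * a)) (he : θ F.e = pw F.e a') {n : Q}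
    (hn : F.ce n ≠ 0) (hnx : F.cx (c n) = F.cx n) (hne : F.ce (c n) = F.ce n)
    (hinv : ∀ q, F.ce n * F.cx (c q) - F.cx n * F.ce (c q) = F.ce n * F.cx q - F.cx n * F.ce q)
    (hce : F.cx (c F.e) ≠ 0) :
    ∃ α ∈ Subgroup.closure ({θ, c} : Set (MulAut Q)), ∃ s : ZMod p,
      F.cx (α F.x) = s * F.cx n ∧ F.ce (α F.x) = s * F.ce n := by
  set p1 := F.cx n with hp1
  set p2 := F.ce n with hp2
  set κ := F.cx (c F.e) with hκ
  have hinve := hinv F.e
  rw [F.cx_e, F.ce_e, ← hκ] at hinve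
  have hlx := F.linear_x c n
  have hly := F.linear_e c n
  rw [hnx, ← hp1, ← hp2, ← hκ] at hlx
  rw [hne, ← hp1, ← hp2] at hly
  have hp1ne : p1 ≠ 0 := fun h0 => by
    rw [h0, zero_mul, zero_add] at hlx
    exact hce ((mul_eq_zero.1 hlx.symm).resolve_left hn)
  have ha0 : a ≠ 0 := left_ne_zero_of_mul_eq_one haa
  have ha'0 : a' ≠ 0 := right_ne_zero_of_mul_eq_one haa
  set A := F.cx (c F.x)
  set B := F.ce (c F.x)
  set D := F.ce (c F.e)
  have hinvx := hinv F.x
  rw [F.cx_x, F.ce_x] at hinvx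
  -- the displacement of `c`
  set φ : ZMod p → ZMod p → ZMod p := fun u v => p2 * u - p1 * v with hφ
  obtain ⟨lam, hlam0, hA, hB, hκ', hD⟩ :=
    twist_scalars hp1ne hce hlx.symm hinvx hinve
  have hc : ∀ q, F.cx (c q) = F.cx q + lam * φ (F.cx q) (F.ce q) * p1 ∧
      F.ce (c q) = F.ce q + lam * φ (F.cx q) (F.ce q) * p2 := fun q => by
    rw [F.linear_x c q, F.linear_e c q]
    simp only [hφ]
    constructor
    · linear_combination F.cx q * hA + F.ce q * hκ'
    · linear_combination F.cx q * hB + F.ce q * hD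
  have hθx : ∀ q, F.cx (θ q) = a * a * F.cx q ∧ F.ce (θ q) = a' * F.ce q := fun q => by
    rw [F.linear_x θ q, F.linear_e θ q, hx, he, F.cx_pw, F.ce_pw, F.cx_pw, F.ce_pw, F.cx_x,
      F.ce_x, F.cx_e, F.ce_e]
    constructor <;> ring
  set s := θ * c * θ⁻¹ with hs
  have hθi : ∀ q, F.cx (θ⁻¹ q) = a' * a' * F.cx q ∧ F.ce (θ⁻¹ q) = a * F.ce q := fun q => by
    obtain ⟨h1, h2⟩ := hθx (θ⁻¹ q)
    rw [MulAut.apply_inv_self] at h1 h2
    constructor
    · linear_combination -(a' * a') * h1 - F.cx (θ⁻¹ q) * (a * a' + 1) * haa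
    · linear_combination -a * h2 - F.ce (θ⁻¹ q) * haa
  set ψ : Q → ZMod p := fun q => φ (a' * a' * F.cx q) (a * F.ce q) with hψ
  have hsq : ∀ q, F.cx (s q) = F.cx q + lam * ψ q * (a * a * p1) ∧
      F.ce (s q) = F.ce q + lam * ψ q * (a' * p2) := fun q => by
    obtain ⟨h1, h2⟩ := hc (θ⁻¹ q)
    obtain ⟨h3, h4⟩ := hθx (c (θ⁻¹ q))
    obtain ⟨h5, h6⟩ := hθi q
    rw [hs, MulAut.mul_apply, MulAut.mul_apply, h3, h4, h1, h2, h5, h6]
    simp only [hψ]
    constructor
    · linear_combination F.cx q * (a * a' + 1) * haa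
    · linear_combination F.ce q * haa
  have hψs : ∀ q, ψ (s q) = ψ q := fun q => by
    obtain ⟨h1, h2⟩ := hsq q
    simp only [hψ, hφ] at h1 h2 ⊢
    linear_combination p2 * (a' * a') * h1 - p1 * a * h2 +
      lam * (p2 * (a' * a' * F.cx q) - p1 * (a * F.ce q)) * p1 * p2 * (a * a') * haa
  have hpow : ∀ (j : ℕ) q, F.cx ((s ^ j) q) = F.cx q + (j : ZMod p) * lam * ψ q * (a * a * p1) ∧
      F.ce ((s ^ j) q) = F.ce q + (j : ZMod p) * lam * ψ q * (a' * p2) := by
    intro j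
    induction j with
    | zero => intro q; simp
    | succ j ih =>
      intro q
      obtain ⟨h1, h2⟩ := ih (s q)
      obtain ⟨h3, h4⟩ := hsq q
      rw [pow_succ, MulAut.mul_apply, h1, h2, h3, h4, hψs]
      push_cast
      constructor <;> ring
  have hψn : ψ n ≠ 0 := by
    simp only [hψ, hφ, ← hp1, ← hp2]
    intro h0
    have h1 : p1 * p2 * (a' * a' - a) = 0 := by linear_combination h0
    have h2 := (mul_eq_zero.1 h1).resolve_left (mul_ne_zero hp1ne hn)
    apply ha3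
    linear_combination -(a * a) * h2 + (a * a' + 1) * haa
  obtain ⟨j, hj⟩ : ∃ j : ℕ, (j : ZMod p) = -1 / (lam * ψ n * a') := ⟨_, ZMod.natCast_zmod_val _⟩
  obtain ⟨h1, h2⟩ := hpow j n
  rw [hj, ← hp2] at h2
  have h2' : F.ce ((s ^ j) n) = 0 := by
    rw [h2]
    field_simp
    ring
  set t := F.cx ((s ^ j) n) with ht
  have ht0 : t ≠ 0 := fun h => by
    obtain ⟨k, m, hkm⟩ := F.central_of_coord h h2'
    have h3 := F.coord_of_central (q := n)
      (by
        have := (F.commute_ul k m ((s ^ j) F.x)).map (s ^ j).symm.toMonoidHom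
        rw [← hkm] at this
        simpa using this)
      (by
        have := (F.commute_ul k m ((s ^ j) F.e)).map (s ^ j).symm.toMonoidHom
        rw [← hkm] at this
        simpa using this)
    exact hn h3.2
  have hmθ : θ ∈ Subgroup.closure ({θ, c} : Set (MulAut Q)) :=
    Subgroup.subset_closure (Set.mem_insert θ _)
  have hmc : c ∈ Subgroup.closure ({θ, c} : Set (MulAut Q)) :=
    Subgroup.subset_closure (Set.mem_insert_of_mem θ (Set.mem_singleton c))
  have hms : s ∈ Subgroup.closure ({θ, c} : Set (MulAut Q)) := by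
    rw [hs]
    exact Subgroup.mul_mem _ (Subgroup.mul_mem _ hmθ hmc) (Subgroup.inv_mem _ hmθ)
  refine ⟨(s ^ j)⁻¹, Subgroup.inv_mem _ (Subgroup.pow_mem _ hms j), t⁻¹, ?_, ?_⟩
  · have h := F.linear_x (s ^ j)⁻¹ ((s ^ j) n)
    rw [MulAut.inv_apply_self, h2', zero_mul, add_zero, ← ht] at h
    rw [hp1, h, ← mul_assoc, inv_mul_cancel₀ ht0, one_mul]
  · have h := F.linear_e (s ^ j)⁻¹ ((s ^ j) n)
    rw [MulAut.inv_apply_self, h2', zero_mul, add_zero, ← ht] at h
    rw [hp2, h, ← mul_assoc, inv_mul_cancel₀ ht0, one_mul]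

/-- Automorphisms unipotent on the flag. -/
structure Uni (β : MulAut Q) : Prop where
  xx : F.cx (β F.x) = 1
  ex : F.ce (β F.x) = 0
  ee : F.ce (β F.e) = 1
  xu : F.cx (β F.u) = 0
  eu : F.ce (β F.u) = 0
  uu : F.cu (β F.u) = 1

variable {F}

theorem linear_u (α : MulAut Q) (q : Q) :
    F.cu (α q) = F.cx q * F.cu (α F.x) + F.ce q * F.cu (α F.e) + F.cu q * F.cu (α F.u) := by
  obtain ⟨m, hm⟩ := F.decomp q
  have hl : F.cu (α F.l) = 0 := by
    rw [← F.comm, map_commutatorElement, commutatorElement_def]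
    simp [F.cu_mul, add_inv F.cu_mul]
  conv_lhs => rw [hm, map_mul, map_mul, map_mul, map_pw, map_pw, map_pw, map_pw]
  rw [F.cu_mul, F.cu_mul, F.cu_mul, F.cu_pw, F.cu_pw, F.cu_pw, F.cu_pw, hl, mul_zero, add_zero]

theorem Uni.one : F.Uni 1 := by
  refine ⟨?_, ?_, ?_, ?_, ?_, ?_⟩ <;>
    simp [F.cx_x, F.ce_x, F.ce_e, F.cx_u, F.ce_u, F.cu_u]

theorem Uni.mul {β γ : MulAut Q} (hβ : F.Uni β) (hγ : F.Uni γ) : F.Uni (β * γ) := by
  refine ⟨?_, ?_, ?_, ?_, ?_, ?_⟩ <;>
    simp only [MulAut.mul_apply, F.linear_x β (γ _), F.linear_e β (γ _), linear_u β (γ _), hβ.xx,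
      hβ.ex, hβ.ee, hβ.uu, hγ.xx, hγ.ex, hγ.ee, hγ.xu, hγ.eu, hγ.uu] <;>
    ring

theorem Uni.cu_pow {β : MulAut Q} (hβ : F.Uni β) (j : ℕ) (q : Q) :
    F.cx ((β ^ j) q) = F.cx q + (j : ZMod p) * F.cx (β F.e) * F.ce q ∧
    F.ce ((β ^ j) q) = F.ce q ∧
    F.cu ((β ^ j) q) = F.cu q + (j : ZMod p) * F.cu (β F.x) * F.cx q +
      ((j : ZMod p) * F.cu (β F.e) +
        ((j.choose 2 : ℕ) : ZMod p) * F.cu (β F.x) * F.cx (β F.e)) * F.ce q := by
  induction j generalizing q with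
  | zero => simp
  | succ j ih =>
    obtain ⟨h1, h2, h3⟩ := ih (β q)
    rw [pow_succ, MulAut.mul_apply, h1, h2, h3, F.linear_x β q, F.linear_e β q, linear_u β q,
      hβ.xx, hβ.ex, hβ.ee, hβ.uu, Nat.choose_succ_succ' j 1, Nat.choose_one_right]
    push_cast
    refine ⟨?_, ?_, ?_⟩ <;> ring

theorem Uni.pow_prime (hp2 : p ≠ 2) {β : MulAut Q} (hβ : F.Uni β) (q : Q) :
    ∃ m : ZMod p, q⁻¹ * (β ^ p) q = pw F.l m := by
  obtain ⟨h1, h2, h3⟩ := hβ.cu_pow p q
  have hc : ((p.choose 2 : ℕ) : ZMod p) = 0 := (ZMod.natCast_eq_zero_iff _ _).2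
    (Nat.Prime.dvd_choose_self hp.out (by norm_num) (lt_of_le_of_ne hp.out.two_le (Ne.symm hp2)))
  simp only [ZMod.natCast_self, hc, zero_mul, add_zero, zero_add] at h1 h2 h3
  refine F.ker _ ?_ ?_ ?_
  · rw [F.cx_mul, add_inv F.cx_mul, h1, neg_add_cancel]
  · rw [F.ce_mul, add_inv F.ce_mul, h2, neg_add_cancel]
  · rw [F.cu_mul, add_inv F.cu_mul, h3, neg_add_cancel]

theorem Uni.conj {θ β : MulAut Q} {a a' : ZMod p} (haa : a * a' = 1)
    (hx : θ F.x = pw F.x (a * a)) (he : θ F.e = pw F.e a') (hu : θ F.u = F.u) (hβ : F.Uni β) :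
    F.Uni (θ * β * θ⁻¹) := by
  have hinv : θ⁻¹ F.x = pw F.x (a' * a') ∧ θ⁻¹ F.e = pw F.e a ∧ θ⁻¹ F.u = F.u := by
    refine ⟨θ.injective ?_, θ.injective ?_, θ.injective ?_⟩ <;> rw [MulAut.apply_inv_self]
    · rw [map_pw, hx, pw_pw (F.exp _),
        show a * a * (a' * a') = 1 by linear_combination (a * a' + 1) * haa, pw_one]
    · rw [map_pw, he, pw_pw (F.exp _), show a' * a = 1 by rw [mul_comm]; exact haa, pw_one]
    · rw [hu]
  have hθ : ∀ q, F.cx (θ q) = a * a * F.cx q ∧ F.ce (θ q) = a' * F.ce q ∧ F.cu (θ q) = F.cu q :=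
    fun q => by
      rw [F.linear_x θ q, F.linear_e θ q, linear_u θ q, hx, he, hu, F.cx_pw, F.ce_pw, F.cu_pw,
        F.cx_pw, F.ce_pw, F.cu_pw, F.cx_x, F.ce_x, F.cx_e, F.ce_e, F.cu_x, F.cu_e, F.cu_u]
      refine ⟨?_, ?_, ?_⟩ <;> ring
  refine ⟨?_, ?_, ?_, ?_, ?_, ?_⟩ <;>
    simp only [MulAut.mul_apply, (hθ _).1, (hθ _).2.1, (hθ _).2.2, hinv.1, hinv.2.1, hinv.2.2,
      map_pw, F.cx_pw, F.ce_pw, hβ.xx, hβ.ex, hβ.ee, hβ.xu, hβ.eu, hβ.uu, mul_zero, mul_one]
  · linear_combination (a * a' + 1) * haa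
  · linear_combination haa

end QFrame

end CfsgLib.RankThree
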