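import Cfsg.Agent.Lib.RankThree.Collapse

/-!
The frame of the quotient by the Frattini subgroup, and eigenvectors for a torus.
-/

set_option autoImplicit false
set_option linter.style.haveILetI false
set_option linter.unusedSectionVars false

namespace CfsgLib.RankThree

open Subgroup
open scoped commutatorElement

variable {N : Type*} [Group N] [Finite N] {p : ℕ} [hp : Fact p.Prime]
  {E D : Subgroup N} {θ : MulAut N} {x e u : N} {a a' : ℕ}

theorem TransData.exists_frame (hp5 : 5 ≤ p) (h : TransData p E D θ x e u a a') {Q : Type*}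
    [Group Q] (q : N →* Q) (hq : Function.Surjective q) (hk : ∀ n, q n = 1 ↔ n ∈ D) :
    ∃ F : QFrame p Q, F.x = q x ∧ F.e = q e ∧ F.u = q u ∧ F.l = q ⁅x, e⁆ ∧
      ∀ n, F.cx (q n) = 0 ↔ n ∈ E := by
  classical
  haveI := h.normal
  haveI := h.normalD
  obtain ⟨he, hu, hl, hb, hlD⟩ := h.facts
  have hexp : ∀ r : Q, r ^ p = 1 := fun r => by
    obtain ⟨n, rfl⟩ := hq r
    rw [← map_pow]
    exact (hk _).2 (h.pow_mem hp5 n)
  have hcomm : ∀ {n m : N}, ⁅n, m⁆ ∈ D → Commute (q n) (q m) := fun hnm => by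
    rw [← commutatorElement_eq_one_iff_commute, ← map_commutatorElement]
    exact (hk _).2 hnm
  have hlc : ∀ r : Q, Commute (q ⁅x, e⁆) r := fun r => by
    obtain ⟨n, rfl⟩ := hq r
    exact (hcomm (hlD n)).symm
  have htop : E.relIndex ⊤ = p := by rw [Subgroup.relIndex_top_right]; exact h.index
  have huc : ∀ r : Q, Commute (q u) r := fun r => by
    obtain ⟨n, rfl⟩ := hq r
    obtain ⟨i, -, v, hv, rfl⟩ := exists_pow_mul htop (mem_top x) h.x_not (mem_top n)
    rw [map_mul, map_pow]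
    exact ((hcomm h.xu).symm.pow_right i).mul_right (hcomm (h.comm u hu v hv))
  have hE : ∀ v ∈ E, ∃ j k m : ZMod p, q v = pw (q e) j * pw (q u) k * pw (q ⁅x, e⁆) m := by
    intro v hv
    rw [h.gen] at hv
    induction hv using Subgroup.closure_induction with
    | mem v hv =>
      rcases hv with rfl | rfl | rfl
      · exact ⟨0, 0, 1, by simp⟩
      · exact ⟨0, 1, 0, by simp⟩
      · exact ⟨1, 0, 0, by simp⟩
    | one => exact ⟨0, 0, 0, by simp⟩
    | mul v w _ _ ihv ihw =>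
      obtain ⟨j, k, m, h1⟩ := ihv
      obtain ⟨j', k', m', h2⟩ := ihw
      refine ⟨j + j', k + k', m + m', ?_⟩
      rw [map_mul, h1, h2, pw_add (hexp _), pw_add (hexp _), pw_add (hexp _)]
      have c1 : ∀ (m : ZMod p) (r : Q), Commute (pw (q ⁅x, e⁆) m) r := fun m r =>
        (hlc r).pow_left _
      have c2 : ∀ (m : ZMod p) (r : Q), Commute (pw (q u) m) r := fun m r => (huc r).pow_left _
      rw [(c1 m (pw (q e) j' * pw (q u) k')).mul_mul_mul_comm,
        (c2 k (pw (q e) j')).mul_mul_mul_comm]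
    | inv v _ ih =>
      obtain ⟨j, k, m, h1⟩ := ih
      refine ⟨-j, -k, -m, ?_⟩
      have cm : ∀ w : Q, Commute (pw (q ⁅x, e⁆) m) w := fun w => (hlc w).pow_left _
      have ck : ∀ w : Q, Commute (pw (q u) k) w := fun w => (huc w).pow_left _
      rw [map_inv, h1, pw_neg (hexp _), pw_neg (hexp _), pw_neg (hexp _), mul_inv_rev, mul_inv_rev,
        ← mul_assoc, (cm (pw (q u) k)).inv_inv.eq, mul_assoc, (cm (pw (q e) j)).inv_inv.eq,
        ← mul_assoc, (ck (pw (q e) j)).inv_inv.eq]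
  have hdec : ∀ r : Q, ∃ i j k m : ZMod p,
      r = pw (q x) i * (pw (q e) j * pw (q u) k * pw (q ⁅x, e⁆) m) := by
    intro r
    obtain ⟨n, rfl⟩ := hq r
    obtain ⟨i, -, v, hv, rfl⟩ := exists_pow_mul htop (mem_top x) h.x_not (mem_top n)
    obtain ⟨j, k, m, hv'⟩ := hE v hv
    exact ⟨i, j, k, m, by rw [map_mul, map_pow, hv', pw_natCast (hexp _)]⟩
  have hxpE : x ^ p ∈ E := h.le (h.pow_mem hp5 x)
  have hker : ∀ i j k m : ZMod p,
      pw (q x) i * (pw (q e) j * pw (q u) k * pw (q ⁅x, e⁆) m) = 1 →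
      i = 0 ∧ j = 0 ∧ k = 0 := by
    intro i j k m hh
    have h1 : x ^ i.val * (e ^ j.val * u ^ k.val * ⁅x, e⁆ ^ m.val) ∈ D := by
      rw [← hk]
      simp only [map_mul, map_pow]
      exact hh
    have hv : e ^ j.val * u ^ k.val * ⁅x, e⁆ ^ m.val ∈ E :=
      mul_mem (mul_mem (Subgroup.pow_mem _ he _) (Subgroup.pow_mem _ hu _)) (Subgroup.pow_mem _ hl _)
    have h2 : x ^ i.val ∈ E := by
      have := mul_mem (h.le h1) (inv_mem hv)
      rwa [mul_inv_cancel_right] at this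
    have hi : i = 0 := (ZMod.val_eq_zero i).1
      (Nat.eq_zero_of_dvd_of_lt (dvd_of_pow_mem hxpE h.x_not h2) (ZMod.val_lt i))
    subst hi
    rw [pw_zero, one_mul] at hh
    have h3 : ⁅x, e⁆ ^ m.val * u ^ k.val * e ^ j.val ∈ D := by
      rw [← hk]
      simp only [map_mul, map_pow]
      rw [(((hlc (q u ^ k.val)).pow_left m.val)).eq, mul_assoc,
        ((hlc (q e ^ j.val)).pow_left m.val).eq, ← mul_assoc,
        ((huc (q e ^ j.val)).pow_left k.val).eq]
      exact hh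
    obtain ⟨-, hk', hj'⟩ := h.indep _ _ _ h3
    exact ⟨rfl, (ZMod.val_eq_zero j).1 (Nat.eq_zero_of_dvd_of_lt hj' (ZMod.val_lt j)),
      (ZMod.val_eq_zero k).1 (Nat.eq_zero_of_dvd_of_lt hk' (ZMod.val_lt k))⟩
  -- products
  have hprod : ∀ i j k m i' j' k' m' : ZMod p, ∃ m'' : ZMod p,
      (pw (q x) i * (pw (q e) j * pw (q u) k * pw (q ⁅x, e⁆) m)) *
        (pw (q x) i' * (pw (q e) j' * pw (q u) k' * pw (q ⁅x, e⁆) m')) =
      pw (q x) (i + i') * (pw (q e) (j + j') * pw (q u) (k + k') * pw (q ⁅x, e⁆) m'') := by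
    intro i j k m i' j' k' m'
    have c1 : ∀ (m : ZMod p) (r : Q), Commute (pw (q ⁅x, e⁆) m) r := fun m r => (hlc r).pow_left _
    have c2 : ∀ (m : ZMod p) (r : Q), Commute (pw (q u) m) r := fun m r => (huc r).pow_left _
    obtain ⟨t, ht⟩ : ∃ t : ZMod p, ⁅pw (q e) j, pw (q x) i'⁆ = pw (q ⁅x, e⁆) t := by
      refine ⟨-((j.val : ZMod p) * (i'.val : ZMod p)), ?_⟩
      have e1 : ⁅q e, q x⁆ = (q ⁅x, e⁆)⁻¹ := by
        rw [← commutatorElement_inv, map_commutatorElement]
      have cl : ∀ r : Q, Commute r ⁅q e, q x⁆ := fun r => by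
        rw [e1]; exact (hlc r).symm.inv_right
      rw [show pw (q e) j = q e ^ j.val from rfl, show pw (q x) i' = q x ^ i'.val from rfl,
        comm_pow_left (by rw [comm_pow_right (cl _)]; exact (cl _).pow_right _),
        comm_pow_right (cl _), ← pow_mul, e1, inv_pow, pw_neg (hexp _), ← Nat.cast_mul,
        pw_natCast (hexp _), mul_comm]
    refine ⟨t + m + m', ?_⟩
    have hmove : pw (q e) j * pw (q u) k * pw (q ⁅x, e⁆) m * pw (q x) i' =
        pw (q x) i' * (pw (q e) j * pw (q u) k * (pw (q ⁅x, e⁆) t * pw (q ⁅x, e⁆) m)) := by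
      have e2 : pw (q e) j * pw (q x) i' = pw (q ⁅x, e⁆) t * (pw (q x) i' * pw (q e) j) := by
        rw [← ht, commutatorElement_def]; group
      rw [mul_assoc (pw (q e) j * pw (q u) k), (c1 m _).eq, ← mul_assoc, mul_assoc (pw (q e) j),
        (c2 k _).eq, ← mul_assoc, e2, (c1 t _).eq]
      simp only [mul_assoc]
      congr 2
      rw [← mul_assoc, (c1 t _).eq, mul_assoc]
    rw [← mul_assoc (pw (q x) i * _), mul_assoc (pw (q x) i), hmove, ← mul_assoc (pw (q x) i),
      ← pw_add (hexp _), mul_assoc, pw_add (hexp _) j, pw_add (hexp _) k, pw_add (hexp _) (t + m),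
      pw_add (hexp _) t, (c1 t _).eq]
    congr 1
    rw [((c1 m (pw (q e) j' * pw (q u) k')).mul_left (c1 t _)).mul_mul_mul_comm,
      (c2 k _).mul_mul_mul_comm]
  choose cx ce cu cl hc using hdec
  have huniq : ∀ {r : Q} {i j k m : ZMod p},
      r = pw (q x) i * (pw (q e) j * pw (q u) k * pw (q ⁅x, e⁆) m) →
      cx r = i ∧ ce r = j ∧ cu r = k := by
    intro r i j k m hr
    obtain ⟨t, ht⟩ := hprod (cx r - i) (ce r - j) (cu r - k) 0 i j k m
    rw [sub_add_cancel, sub_add_cancel, sub_add_cancel, ← hr] at ht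
    have h4 : pw (q x) (cx r - i) * (pw (q e) (ce r - j) * pw (q u) (cu r - k) *
        pw (q ⁅x, e⁆) (cl r - t)) = 1 := by
      have hP : pw (q x) (cx r) * (pw (q e) (ce r) * pw (q u) (cu r) * pw (q ⁅x, e⁆) t) =
          pw (q ⁅x, e⁆) (t - cl r) * r := by
        have cr : Commute (pw (q ⁅x, e⁆) (t - cl r)) r := (hlc r).pow_left _
        rw [cr.eq]
        conv_rhs => arg 1; rw [hc r]
        simp only [mul_assoc, ← pw_add (hexp _)]
        rw [add_sub_cancel]
      rw [hP] at ht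
      have h5 := mul_right_cancel ht
      rw [pw_zero, mul_one] at h5
      rw [← mul_assoc, h5, ← pw_add (hexp _), sub_add_sub_cancel, sub_self, pw_zero]
    obtain ⟨h1, h2, h3⟩ := hker _ _ _ _ h4
    exact ⟨sub_eq_zero.1 h1, sub_eq_zero.1 h2, sub_eq_zero.1 h3⟩
  have hadd : ∀ r s : Q, cx (r * s) = cx r + cx s ∧ ce (r * s) = ce r + ce s ∧
      cu (r * s) = cu r + cu s := fun r s => by
    obtain ⟨m, hm⟩ := hprod (cx r) (ce r) (cu r) (cl r) (cx s) (ce s) (cu s) (cl s)
    rw [← hc r, ← hc s] at hm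
    exact huniq hm
  have hX := huniq (r := q x) (i := 1) (j := 0) (k := 0) (m := 0) (by simp)
  have hEc := huniq (r := q e) (i := 0) (j := 1) (k := 0) (m := 0) (by simp)
  have hU := huniq (r := q u) (i := 0) (j := 0) (k := 1) (m := 0) (by simp)
  refine ⟨{
    x := q x, e := q e, u := q u, l := q ⁅x, e⁆, cx := cx, ce := ce, cu := cu
    exp := hexp
    l_ne := fun h' => hp.out.ne_one (Nat.eq_one_of_dvd_one (h.indep 1 0 0 (by
      rw [pow_one, pow_zero, pow_zero, mul_one, mul_one]; exact (hk _).1 h')).1)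
    comm := (map_commutatorElement q x e).symm
    u_central := huc
    l_central := hlc
    cx_mul := fun r s => (hadd r s).1
    ce_mul := fun r s => (hadd r s).2.1
    cu_mul := fun r s => (hadd r s).2.2
    cx_x := hX.1, cx_e := hEc.1, cx_u := hU.1
    ce_x := hX.2.1, ce_e := hEc.2.1, ce_u := hU.2.1
    cu_x := hX.2.2, cu_e := hEc.2.2, cu_u := hU.2.2
    ker := fun r h1 h2 h3 => ⟨cl r, by
      conv_lhs => rw [hc r, h1, h2, h3]
      simp⟩ }, rfl, rfl, rfl, rfl, fun n => ?_⟩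
  constructor
  · intro h0
    obtain ⟨i, hip, v, hv, rfl⟩ := exists_pow_mul htop (mem_top x) h.x_not (mem_top n)
    obtain ⟨j, k, m, hv'⟩ := hE v hv
    have h1 := (huniq (r := q (x ^ i * v)) (i := (i : ZMod p))
      (by rw [map_mul, map_pow, hv', pw_natCast (hexp _)])).1
    change cx _ = 0 at h0
    rw [h0] at h1
    rw [Nat.eq_zero_of_dvd_of_lt ((ZMod.natCast_eq_zero_iff _ _).1 h1.symm) hip, pow_zero, one_mul]
    exact hv
  · intro hn
    obtain ⟨j, k, m, hv'⟩ := hE n hn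
    exact (huniq (r := q n) (i := 0) (by rw [hv', pw_zero, one_mul])).1

/-- Choosing `x` as an eigenvector. -/
theorem QFrame.exists_eigen {Q : Type*} [Group Q] (F : QFrame p Q) (θ : MulAut Q) {a a' : ZMod p}
    (haa : a * a' = 1) (ha2 : a ^ 2 ≠ 1) (ha3 : a ^ 3 ≠ 1)
    (hx : F.cx (θ F.x) = a * a) (he : θ F.e = pw F.e a') (hu : θ F.u = F.u)
    (hl : θ F.l = pw F.l a) :
    ∃ F' : QFrame p Q, F'.e = F.e ∧ F'.u = F.u ∧ F'.l = F.l ∧ F'.cx = F.cx ∧
      θ F'.x = pw F'.x (a * a) := by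
  have ha0 : a ≠ 0 := left_ne_zero_of_mul_eq_one haa
  have hAa' : a * a - a' ≠ 0 := fun h => ha3 (by linear_combination a * h + haa)
  have hA1 : a * a - 1 ≠ 0 := by rw [← pow_two]; exact sub_ne_zero.2 ha2
  have hAa : a * a - a ≠ 0 := fun h => ha2 (by
    have h1 : a = 1 := mul_left_cancel₀ ha0 (by linear_combination h)
    rw [h1, one_pow])
  set i := F.ce (θ F.x) / (a * a - a') with hi
  set j := F.cu (θ F.x) / (a * a - 1) with hj
  set x1 := F.x * pw F.e i * pw F.u j with hx1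
  have cl : ∀ (m : ZMod p) (r : Q), Commute (pw F.l m) r := fun m r => (F.l_central r).pow_left _
  have cu' : ∀ (m : ZMod p) (r : Q), Commute (pw F.u m) r := fun m r => (F.u_central r).pow_left _
  have hθ1 : θ x1 = θ F.x * pw (pw F.e a') i * pw F.u j := by
    rw [hx1, map_mul, map_mul, map_pw, map_pw, he, hu]
  obtain ⟨m, hm⟩ := F.ker ((pw x1 (a * a))⁻¹ * θ x1)
    (by
      rw [hθ1, hx1]
      simp only [F.cx_mul, QFrame.add_inv F.cx_mul, F.cx_pw, hx, F.cx_x, F.cx_e, F.cx_u]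
      ring)
    (by
      rw [hθ1, hx1]
      simp only [F.ce_mul, QFrame.add_inv F.ce_mul, F.ce_pw, F.ce_x, F.ce_e, F.ce_u]
      have : i * (a * a - a') = F.ce (θ F.x) := div_mul_cancel₀ _ hAa'
      linear_combination -this)
    (by
      rw [hθ1, hx1]
      simp only [F.cu_mul, QFrame.add_inv F.cu_mul, F.cu_pw, F.cu_x, F.cu_e, F.cu_u]
      have : j * (a * a - 1) = F.cu (θ F.x) := div_mul_cancel₀ _ hA1
      linear_combination -this)
  rw [inv_mul_eq_iff_eq_mul] at hm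
  set k := m / (a * a - a) with hk
  set x2 := x1 * pw F.l k with hx2
  have hx2e : ⁅x2, F.e⁆ = F.l := by
    have h1 : ∀ w : Q, Commute w F.e → ⁅F.x * w, F.e⁆ = F.l := fun w hw => by
      rw [comm_mul_left (by rw [commutatorElement_eq_one_iff_commute.2 hw]; exact Commute.one_right _),
        commutatorElement_eq_one_iff_commute.2 hw, one_mul, F.comm]
    rw [hx2, hx1, mul_assoc F.x, mul_assoc F.x]
    exact h1 _ ((((Commute.refl F.e).pow_left _).mul_left (cu' j F.e)).mul_left (cl k F.e))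
  refine ⟨{
    x := x2, e := F.e, u := F.u, l := F.l
    cx := F.cx
    ce := fun r => F.ce r - i * F.cx r
    cu := fun r => F.cu r - j * F.cx r
    exp := F.exp, l_ne := F.l_ne, comm := hx2e
    u_central := F.u_central, l_central := F.l_central
    cx_mul := F.cx_mul
    ce_mul := fun r s => by rw [F.ce_mul, F.cx_mul]; ring
    cu_mul := fun r s => by rw [F.cu_mul, F.cx_mul]; ring
    cx_x := by simp [hx2, hx1, F.cx_mul, F.cx_pw, F.cx_x, F.cx_e, F.cx_u, F.cx_l]
    cx_e := F.cx_e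
    cx_u := F.cx_u
    ce_x := by
      simp [hx2, hx1, F.cx_mul, F.ce_mul, F.cx_pw, F.ce_pw, F.cx_x, F.cx_e, F.cx_u, F.cx_l,
        F.ce_x, F.ce_e, F.ce_u, F.ce_l]
    ce_e := by rw [F.ce_e, F.cx_e, mul_zero, sub_zero]
    ce_u := by rw [F.ce_u, F.cx_u, mul_zero, sub_zero]
    cu_x := by
      simp [hx2, hx1, F.cx_mul, F.cu_mul, F.cx_pw, F.cu_pw, F.cx_x, F.cx_e, F.cx_u, F.cx_l,
        F.cu_x, F.cu_e, F.cu_u, F.cu_l]
    cu_e := by rw [F.cu_e, F.cx_e, mul_zero, sub_zero]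
    cu_u := by rw [F.cu_u, F.cx_u, mul_zero, sub_zero]
    ker := fun r h1 h2 h3 => F.ker r h1 (by simpa [h1] using h2) (by simpa [h1] using h3) },
    rfl, rfl, rfl, rfl, ?_⟩
  show θ x2 = pw x2 (a * a)
  rw [hx2, map_mul, map_pw, hl, hm, pw_pw (F.exp _), mul_assoc, ← pw_add (F.exp _),
    mul_pw (cl k x1).symm, pw_pw (F.exp _)]
  congr 2
  have : k * (a * a - a) = m := div_mul_cancel₀ _ hAa
  linear_combination -this

end CfsgLib.RankThree
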