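import Cfsg.Agent.Lib.Fusion.CubeGL
import Cfsg.Agent.Lib.Fusion.EssentialTransvection
import Cfsg.Agent.Lib.Invol.EssentialSmall

/-!
Linear groups of degree three with trivial `p`-core and a strongly `p`-embedded subgroup.
-/

set_option autoImplicit false
set_option linter.style.haveILetI false
set_option linter.unusedSectionVars false

namespace CfsgLib.RankThree.Linear

open Matrix CfsgLib.Fusion CfsgLib.Fusion.CubeGL

variable {p : ℕ} [hp : Fact p.Prime] {X : Subgroup (GL (Fin 3) (ZMod p))}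

theorem tr_ne_one {a α : Fin 3 → ZMod p} (ha : a ≠ 0) (hα : α ≠ 0) : tr a α ≠ 1 := by
  intro h
  refine hα (dotProduct_eq_zero α fun x => ?_)
  have h1 := congrArg (· *ᵥ x) h
  simp only [tr_apply, one_mulVec, add_eq_left, smul_eq_zero] at h1
  exact h1.resolve_right ha

theorem tr_comm {a α c γ : Fin 3 → ZMod p} (h1 : α ⬝ᵥ c = 0) (h2 : γ ⬝ᵥ a = 0) :
    tr a α * tr c γ = tr c γ * tr a α := by
  refine ext_mulVec fun x => ?_
  simp only [← mulVec_mulVec, tr_apply, dotProduct_add, dotProduct_smul, h1, h2, smul_eq_mul,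
    mul_zero, add_zero]
  abel

theorem noPair_of_locals
    (hloc : ∀ T : Sylow p X, ∃ Y : Subgroup X, Y ≠ ⊤ ∧ ContainsLocals (T : Subgroup X) Y) :
    NoPair X := by
  intro a α b β hαa hβb hαb hβa hα hb hA hB
  obtain ⟨K, hKX, hKp, -, hK⟩ := exists_cube hαa hβb hαb hβa hα hb hA hB
  obtain ⟨T, hT⟩ := (hKp.comap_of_injective X.subtype X.subtype_injective).exists_le_sylow
  obtain ⟨Y, hY, hY'⟩ := hloc T
  have hex : ∀ w : Fin 3 → ZMod p, ∃ t ∈ (T : Subgroup X), t ≠ 1 ∧ ∃ ψ : Fin 3 → ZMod p,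
      ψ ⬝ᵥ w = 0 ∧ ((t : GL (Fin 3) (ZMod p)) : Matrix (Fin 3) (Fin 3) (ZMod p)) = tr b ψ := by
    intro w
    have hind : ∀ x z : ZMod p, x • α + z • β = 0 → x = 0 ∧ z = 0 := fun x z h => by
      have h1 := congrArg (· ⬝ᵥ a) h
      simp only [add_dotProduct, smul_dotProduct, hαa, zero_dotProduct, smul_eq_mul, mul_zero,
        zero_add, mul_eq_zero] at h1
      rw [h1.resolve_right hβa, zero_smul, add_zero, smul_eq_zero] at h
      exact ⟨h.resolve_right hα, h1.resolve_right hβa⟩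
    obtain ⟨x, z, hxz, hzero⟩ : ∃ x z : ZMod p, x • α + z • β ≠ 0 ∧
        (x • α + z • β) ⬝ᵥ w = 0 := by
      by_cases hz : α ⬝ᵥ w = 0
      · exact ⟨1, 0, fun h => one_ne_zero (hind 1 0 h).1, by simp [hz]⟩
      · refine ⟨-(β ⬝ᵥ w), α ⬝ᵥ w, fun h => hz (hind _ _ h).2, ?_⟩
        simp only [add_dotProduct, smul_dotProduct, smul_eq_mul]
        ring
    obtain ⟨k, hkK, hk⟩ := hK x z
    refine ⟨⟨k, hKX hkK⟩, hT hkK, fun h => tr_ne_one hb hxz ?_, _, hzero, hk⟩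
    rw [← hk, show k = 1 from congrArg Subtype.val h, Units.val_one]
  refine false_of_commuting_pairs hY hY' fun g => ?_
  obtain ⟨t, ht, ht1, ψ, hψ, htm⟩ :=
    hex (((g : GL (Fin 3) (ZMod p)) : Matrix (Fin 3) (Fin 3) (ZMod p)) *ᵥ b)
  obtain ⟨s, hs, hs1, ψ', hψ', hsm⟩ :=
    hex ((↑(g : GL (Fin 3) (ZMod p))⁻¹ : Matrix (Fin 3) (Fin 3) (ZMod p)) *ᵥ b)
  refine ⟨t, ht, s, hs, ht1, hs1, Subtype.ext (Units.ext ?_)⟩
  simp only [Subgroup.coe_mul, Subgroup.coe_inv, Units.val_mul, htm, hsm, mul_tr]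
  exact tr_comm hψ (by rw [← dotProduct_mulVec, hψ'])

/-- A nontrivial unipotent element is a transvection or has a single block. -/
theorem tr_or_regular {z : GL (Fin 3) (ZMod p)} {k : ℕ} (hz : z ^ p ^ k = 1) (hz1 : z ≠ 1) :
    ((z : Matrix (Fin 3) (Fin 3) (ZMod p)) - 1) ^ 3 = 0 ∧
    ((∃ v φ : Fin 3 → ZMod p, v ≠ 0 ∧ φ ≠ 0 ∧ φ ⬝ᵥ v = 0 ∧
        (z : Matrix (Fin 3) (Fin 3) (ZMod p)) = tr v φ) ∨
      ∃ w : Fin 3 → ZMod p, ((z : Matrix (Fin 3) (Fin 3) (ZMod p)) - 1) *ᵥ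
        (((z : Matrix (Fin 3) (Fin 3) (ZMod p)) - 1) *ᵥ w) ≠ 0) := by
  set n : Matrix (Fin 3) (Fin 3) (ZMod p) := (z : Matrix (Fin 3) (Fin 3) (ZMod p)) - 1 with hn
  have hzn : (z : Matrix (Fin 3) (Fin 3) (ZMod p)) = 1 + n := by rw [hn, add_sub_cancel]
  have hnp : n ^ p ^ k = 0 := by
    rw [hn, sub_pow_char_pow_of_commute _ _ (Commute.one_right _), one_pow,
      ← Units.val_pow_eq_pow_val, hz, Units.val_one, sub_self]
  have hn3 : n ^ 3 = 0 := by
    set f : Module.End (ZMod p) (Fin 3 → ZMod p) := Matrix.toLinAlgEquiv' n with hf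
    have h1 : f ^ (max 3 (p ^ k)) = 0 := by
      rw [hf, ← map_pow, pow_eq_zero_of_le (le_max_right _ _) hnp, map_zero]
    have h2 : LinearMap.ker (f ^ (3 : ℕ)) = LinearMap.ker (f ^ (max 3 (p ^ k))) := by
      have h3 : Module.finrank (ZMod p) (Fin 3 → ZMod p) = 3 := by simp
      have h4 := Module.End.ker_pow_eq_ker_pow_finrank_of_le (f := f) (m := max 3 (p ^ k))
        (by rw [h3]; exact le_max_left _ _)
      rw [h3] at h4
      exact h4.symm
    rw [h1, LinearMap.ker_zero, LinearMap.ker_eq_top] at h2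
    apply Matrix.toLinAlgEquiv'.injective
    rw [map_pow, map_zero]
    exact h2
  refine ⟨hn3, ?_⟩
  by_cases h2 : ∃ w, n *ᵥ (n *ᵥ w) ≠ 0
  · exact Or.inr h2
  push Not at h2
  left
  obtain ⟨a, ha⟩ : ∃ a, n *ᵥ a ≠ 0 := by
    by_contra h
    push Not at h
    refine hz1 (Units.ext ?_)
    rw [hzn, Units.val_one]
    exact ext_mulVec fun x => by rw [add_mulVec, one_mulVec, h, add_zero]
  set v := n *ᵥ a with hv
  have hline : ∀ b, ∃ c : ZMod p, n *ᵥ b = c • v := by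
    intro b
    by_contra hc
    push Not at hc
    have hli : LinearIndependent (ZMod p) ![a, b, v, n *ᵥ b] := by
      rw [Fintype.linearIndependent_iff]
      intro c hc'
      simp [Fin.sum_univ_four] at hc'
      have h1 := congrArg (n *ᵥ ·) hc'
      simp [mulVec_add, mulVec_smul, ← hv, h2, hv ▸ h2 a] at h1
      have hzero : ∀ r s : ZMod p, r • v + s • (n *ᵥ b) = 0 → r = 0 ∧ s = 0 := by
        intro r s hrs
        by_cases hs : s = 0
        · subst hs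
          rw [zero_smul, add_zero, smul_eq_zero] at hrs
          exact ⟨hrs.resolve_right ha, rfl⟩
        · refine absurd ?_ (hc (-(s⁻¹ * r)))
          rw [add_eq_zero_iff_eq_neg'] at hrs
          calc n *ᵥ b = s⁻¹ • (s • (n *ᵥ b)) := by rw [smul_smul, inv_mul_cancel₀ hs, one_smul]
            _ = _ := by rw [hrs, smul_neg, smul_smul, neg_smul]
      obtain ⟨h01, h11⟩ := hzero _ _ h1
      rw [h01, h11, zero_smul, zero_smul, zero_add, zero_add] at hc'
      obtain ⟨h21, h31⟩ := hzero _ _ hc'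
      intro i
      fin_cases i <;> assumption
    have := hli.fintype_card_le_finrank
    simp at this
  obtain ⟨i₀, hi₀⟩ := Function.ne_iff.1 ha
  rw [Pi.zero_apply] at hi₀
  set φ : Fin 3 → ZMod p := (v i₀)⁻¹ • (fun j => n i₀ j) with hφdef
  have hM : (z : Matrix (Fin 3) (Fin 3) (ZMod p)) = tr v φ := ext_mulVec fun x => by
    obtain ⟨c, hc⟩ := hline x
    rw [hzn, tr_apply, add_mulVec, one_mulVec, hc]
    congr 2
    rw [hφdef, smul_dotProduct, show (fun j => n i₀ j) ⬝ᵥ x = (n *ᵥ x) i₀ from rfl, hc]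
    simp [mul_comm c (v i₀), ← mul_assoc, inv_mul_cancel₀ hi₀]
  have hnv : ∀ x, n *ᵥ x = (φ ⬝ᵥ x) • v := fun x => by
    rw [hn, sub_mulVec, hM, tr_apply, one_mulVec, add_sub_cancel_left]
  refine ⟨v, φ, ha, fun h => ha ?_, ?_, hM⟩
  · rw [hv, hnv, h, zero_dotProduct, zero_smul]
  · have h3 := h2 a
    rw [← hv, hnv, smul_eq_zero] at h3
    exact h3.resolve_right ha

section Regular

variable {n : Matrix (Fin 3) (Fin 3) (ZMod p)} {w : Fin 3 → ZMod p}

theorem regular_indep (hn3 : n ^ 3 = 0) (hw : n *ᵥ (n *ᵥ w) ≠ 0) {a b c : ZMod p}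
    (h : a • w + b • (n *ᵥ w) + c • (n *ᵥ (n *ᵥ w)) = 0) : a = 0 ∧ b = 0 ∧ c = 0 := by
  have h3 : ∀ x, n *ᵥ (n *ᵥ (n *ᵥ x)) = 0 := fun x => by
    have h1 : n * n * n = 0 := by rw [← hn3]; noncomm_ring
    rw [mulVec_mulVec, mulVec_mulVec, h1, zero_mulVec]
  have h1 := congrArg (fun x => n *ᵥ (n *ᵥ x)) h
  simp [-mulVec_mulVec, mulVec_add, mulVec_smul, h3, hw] at h1
  rw [h1, zero_smul, zero_add] at h
  have h2 := congrArg (fun x => n *ᵥ x) h
  simp [-mulVec_mulVec, mulVec_add, mulVec_smul, h3, hw] at h2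
  rw [h2, zero_smul, zero_add, smul_eq_zero] at h
  exact ⟨h1, h2, h.resolve_right hw⟩

theorem regular_span (hn3 : n ^ 3 = 0) (hw : n *ᵥ (n *ᵥ w) ≠ 0) (x : Fin 3 → ZMod p) :
    ∃ a b c : ZMod p, x = a • w + b • (n *ᵥ w) + c • (n *ᵥ (n *ᵥ w)) := by
  have hli : LinearIndependent (ZMod p) ![w, n *ᵥ w, n *ᵥ (n *ᵥ w)] := by
    rw [Fintype.linearIndependent_iff]
    intro c hc
    simp only [Fin.sum_univ_three, Matrix.cons_val_zero, Matrix.cons_val_one, Matrix.cons_val] at hc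
    obtain ⟨h1, h2, h3⟩ := regular_indep hn3 hw hc
    intro i
    fin_cases i <;> assumption
  have htop : x ∈ Submodule.span (ZMod p) (Set.range ![w, n *ᵥ w, n *ᵥ (n *ᵥ w)]) := by
    rw [hli.span_eq_top_of_card_eq_finrank (by simp)]
    trivial
  obtain ⟨c, rfl⟩ := Submodule.mem_span_range_iff_exists_fun _ |>.1 htop
  exact ⟨c 0, c 1, c 2, by simp [Fin.sum_univ_three]⟩

end Regular

/-- The Sylow subgroups have order `p`. -/
theorem card_eq_prime (hnormal : ∀ N : Subgroup X, N.Normal → IsPGroup p N → N = ⊥)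
    (hpair : NoPair X) {T : Subgroup (GL (Fin 3) (ZMod p))} (hTX : T ≤ X) (hT : IsPGroup p T)
    (hne : T ≠ ⊥) : Nat.card T = p := by
  classical
  haveI : Nontrivial T := (Subgroup.nontrivial_iff_ne_bot T).2 hne
  have hge : p ≤ Nat.card T := by
    obtain ⟨m, hm, hcard⟩ := hT.nontrivial_iff_card.1 inferInstance
    rw [hcard]
    exact Nat.le_self_pow hm.ne' p
  refine le_antisymm ?_ hge
  haveI := hT.center_nontrivial
  obtain ⟨⟨⟨z, hzT⟩, hzc⟩, hz1⟩ := exists_ne (1 : Subgroup.center T)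
  have hz1' : z ≠ 1 := fun h => hz1 (Subtype.ext (Subtype.ext h))
  have hcomm : ∀ σ ∈ T, σ * z = z * σ := fun σ hσ =>
    congrArg Subtype.val (Subgroup.mem_center_iff.1 hzc ⟨σ, hσ⟩)
  obtain ⟨k, hk⟩ := hT ⟨z, hzT⟩
  have hk' : z ^ p ^ k = 1 := congrArg Subtype.val hk
  have hsingle : ∀ σ ∈ T, ∀ {v φ : Fin 3 → ZMod p}, v ≠ 0 → φ ≠ 0 → φ ⬝ᵥ v = 0 →
      Mem X (tr v φ) →
      (σ : Matrix (Fin 3) (Fin 3) (ZMod p)) * tr v φ =
        tr v φ * (σ : Matrix (Fin 3) (Fin 3) (ZMod p)) →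
      ∃ s : ZMod p, (σ : Matrix (Fin 3) (Fin 3) (ZMod p)) = tr v (s • φ) := by
    intro σ hσ v φ hv hφ hφv ht hc
    by_contra hne'
    push Not at hne'
    obtain ⟨f⟩ := exists_opposite hφv hv hφ ht hnormal hpair
    obtain ⟨j, hj⟩ := hT ⟨σ, hσ⟩
    exact false_of_commute hφv hv ht f (hTX hσ) (k := j) (congrArg Subtype.val hj) hc hne' hpair
  suffices H : ∃ c : T → ZMod p, Function.Injective c by
    obtain ⟨c, hc⟩ := H
    exact (Nat.card_le_card_of_injective c hc).trans (Nat.card_zmod p).le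
  obtain ⟨hn3, ⟨v, φ, hv, hφ, hφv, hztr⟩ | ⟨w, hw⟩⟩ := tr_or_regular hk' hz1'
  · have h := fun σ : T => hsingle σ σ.2 hv hφ hφv ⟨z, hTX hzT, hztr⟩ (by
      rw [← hztr, ← Units.val_mul, hcomm σ σ.2, Units.val_mul])
    choose c hc using h
    exact ⟨c, fun σ τ he => Subtype.ext (Units.ext (by rw [hc, hc, he]))⟩
  set n : Matrix (Fin 3) (Fin 3) (ZMod p) := (z : Matrix (Fin 3) (Fin 3) (ZMod p)) - 1 with hn
  have h3 : ∀ x, n *ᵥ (n *ᵥ (n *ᵥ x)) = 0 := fun x => by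
    have h1 : n * n * n = 0 := by rw [← hn3]; noncomm_ring
    rw [mulVec_mulVec, mulVec_mulVec, h1, zero_mulVec]
  have hcn : ∀ σ ∈ T, ∀ x, (σ : Matrix (Fin 3) (Fin 3) (ZMod p)) *ᵥ (n *ᵥ x) =
      n *ᵥ ((σ : Matrix (Fin 3) (Fin 3) (ZMod p)) *ᵥ x) := by
    intro σ hσ x
    rw [mulVec_mulVec, mulVec_mulVec]
    congr 1
    rw [hn, mul_sub, sub_mul, mul_one, one_mul, ← Units.val_mul, hcomm σ hσ, Units.val_mul]
  have hform : ∀ σ : T, ∃ b c : ZMod p,
      ((σ : GL (Fin 3) (ZMod p)) : Matrix (Fin 3) (Fin 3) (ZMod p)) *ᵥ w =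
        w + b • (n *ᵥ w) + c • (n *ᵥ (n *ᵥ w)) := by
    rintro ⟨σ, hσ⟩
    obtain ⟨a, b, c, habc⟩ := regular_span hn3 hw ((σ : Matrix (Fin 3) (Fin 3) (ZMod p)) *ᵥ w)
    set M : Matrix (Fin 3) (Fin 3) (ZMod p) := (σ : Matrix (Fin 3) (Fin 3) (ZMod p))
    have hMu : M *ᵥ (n *ᵥ (n *ᵥ w)) = a • (n *ᵥ (n *ᵥ w)) := by
      rw [hcn σ hσ, hcn σ hσ, habc]
      simp [-mulVec_mulVec, mulVec_add, mulVec_smul, h3]
    have hpow : ∀ j : ℕ, (M ^ j) *ᵥ (n *ᵥ (n *ᵥ w)) = a ^ j • (n *ᵥ (n *ᵥ w)) := fun j => by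
      induction j with
      | zero => simp
      | succ j ih =>
        rw [pow_succ, ← mulVec_mulVec, hMu, mulVec_smul, ih, smul_smul, ← pow_succ']
    obtain ⟨j, hj⟩ := hT ⟨σ, hσ⟩
    have hMj : M ^ p ^ j = 1 := by
      rw [← Units.val_pow_eq_pow_val, show σ ^ p ^ j = 1 from congrArg Subtype.val hj,
        Units.val_one]
    have ha : a = 1 := eq_one_of_pow_eq_one (k := j) (smul_left_injective (R := ZMod p) hw (by
      show a ^ p ^ j • (n *ᵥ (n *ᵥ w)) = (1 : ZMod p) • (n *ᵥ (n *ᵥ w))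
      rw [← hpow, hMj, one_mulVec, one_smul]))
    exact ⟨b, c, by rw [habc, ha, one_smul]⟩
  choose b c hbc using hform
  refine ⟨b, fun σ τ he => ?_⟩
  by_contra hστ
  set q : T := σ⁻¹ * τ with hq
  set M : Matrix (Fin 3) (Fin 3) (ZMod p) :=
    ((q : GL (Fin 3) (ZMod p)) : Matrix (Fin 3) (Fin 3) (ZMod p)) with hMdef
  have hb0 : b q = 0 := by
    have h2 := congrArg ((((σ : GL (Fin 3) (ZMod p)) : Matrix (Fin 3) (Fin 3) (ZMod p))) *ᵥ ·)
      (hbc q)
    have h1 : ((σ : GL (Fin 3) (ZMod p)) : Matrix (Fin 3) (Fin 3) (ZMod p)) * M =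
        ((τ : GL (Fin 3) (ZMod p)) : Matrix (Fin 3) (Fin 3) (ZMod p)) := by
      rw [hMdef, ← Units.val_mul, ← Subgroup.coe_mul, hq, mul_inv_cancel_left]
    simp only [mulVec_add, mulVec_smul, hcn (σ : GL (Fin 3) (ZMod p)) σ.2, hbc σ] at h2
    rw [mulVec_mulVec, h1, hbc τ, ← he] at h2
    simp only [mulVec_add, mulVec_smul, h3, mulVec_zero, smul_zero, add_zero] at h2
    refine (regular_indep hn3 hw (a := 0) (b := b q) (c := c σ + b q * b σ + c q - c τ) ?_).2.1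
    have h4 := sub_eq_zero.2 h2.symm
    rw [← h4, zero_smul, zero_add]
    module
  have hMx : ∀ x, M *ᵥ x = x + c q • (n *ᵥ (n *ᵥ x)) := by
    have hw' : M *ᵥ w = w + c q • (n *ᵥ (n *ᵥ w)) := by rw [hMdef, hbc, hb0, zero_smul, add_zero]
    intro x
    obtain ⟨r, s, t, rfl⟩ := regular_span hn3 hw x
    simp only [mulVec_add, mulVec_smul, hMdef, hcn _ q.2]
    simp only [← hMdef, hw', mulVec_add, mulVec_smul, h3, mulVec_zero, smul_zero, add_zero]
    module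
  have hq1 : (q : GL (Fin 3) (ZMod p)) ≠ 1 := fun h => hστ (inv_mul_eq_one.1 (Subtype.ext h))
  obtain ⟨j, hj⟩ := hT q
  obtain ⟨-, ⟨v, φ, hv, hφ, hφv, hqtr⟩ | ⟨w', hw'⟩⟩ :=
    tr_or_regular (congrArg Subtype.val hj) hq1
  · obtain ⟨s, hs⟩ := hsingle z hzT hv hφ hφv ⟨_, hTX q.2, hqtr⟩ (by
      rw [← hqtr, ← Units.val_mul, ← hcomm _ q.2, Units.val_mul])
    refine hw ?_
    have hnx : ∀ x, n *ᵥ x = (s • φ ⬝ᵥ x) • v := fun x => by
      rw [hn, sub_mulVec, hs, tr_apply, one_mulVec, add_sub_cancel_left]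
    rw [hnx, hnx, dotProduct_smul, smul_dotProduct, smul_dotProduct, hφv]
    simp
  · refine hw' ?_
    rw [← hMdef]
    simp [-mulVec_mulVec, sub_mulVec, hMx, mulVec_add, mulVec_smul, h3]

/-- A single block does not fix the line of its vectors fixed. -/
theorem regular_line (hp2 : p ≠ 2)
    (hnormal : ∀ N : Subgroup X, N.Normal → IsPGroup p N → N = ⊥) {t : GL (Fin 3) (ZMod p)}
    (htX : t ∈ X) {k : ℕ} (htp : t ^ p ^ k = 1) {w : Fin 3 → ZMod p}
    (hw : ((t : Matrix (Fin 3) (Fin 3) (ZMod p)) - 1) *ᵥ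
      (((t : Matrix (Fin 3) (Fin 3) (ZMod p)) - 1) *ᵥ w) ≠ 0)
    (hfix : ∀ g ∈ X, ∃ c : ZMod p, (g : Matrix (Fin 3) (Fin 3) (ZMod p)) *ᵥ
        (((t : Matrix (Fin 3) (Fin 3) (ZMod p)) - 1) *ᵥ
          (((t : Matrix (Fin 3) (Fin 3) (ZMod p)) - 1) *ᵥ w)) =
      c • (((t : Matrix (Fin 3) (Fin 3) (ZMod p)) - 1) *ᵥ
          (((t : Matrix (Fin 3) (Fin 3) (ZMod p)) - 1) *ᵥ w))) : False := by
  classical
  have ht1 : t ≠ 1 := fun h => hw (by simp [h])
  have hn3 := (tr_or_regular htp ht1).1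
  set n : Matrix (Fin 3) (Fin 3) (ZMod p) := (t : Matrix (Fin 3) (Fin 3) (ZMod p)) - 1 with hn
  have h3 : n *ᵥ (n *ᵥ (n *ᵥ w)) = 0 := by
    have h1 : n * n * n = 0 := by rw [← hn3]; noncomm_ring
    rw [mulVec_mulVec, mulVec_mulVec, h1, zero_mulVec]
  -- the basis of the block
  set Pm : Matrix (Fin 3) (Fin 3) (ZMod p) :=
    (Matrix.of ![n *ᵥ (n *ᵥ w), n *ᵥ w, w]).transpose with hPm
  have hPe : ∀ x : Fin 3 → ZMod p,
      Pm *ᵥ x = x 2 • w + x 1 • (n *ᵥ w) + x 0 • (n *ᵥ (n *ᵥ w)) := fun x => by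
    ext i
    simp [hPm, mulVec, dotProduct, Fin.sum_univ_three]
    ring
  have hPinj : Function.Injective (Pm *ᵥ ·) := fun x y h => by
    have h1 : Pm *ᵥ (x - y) = 0 := by rw [mulVec_sub]; exact sub_eq_zero.2 h
    rw [hPe] at h1
    obtain ⟨e2, e1, e0⟩ := regular_indep hn3 hw h1
    refine sub_eq_zero.1 (funext fun i => ?_)
    fin_cases i
    · exact e0
    · exact e1
    · exact e2
  have hPunit : IsUnit Pm := Matrix.mulVec_injective_iff_isUnit.1 hPinj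
  set P : GL (Fin 3) (ZMod p) := hPunit.unit with hPdef
  have hPv : (P : Matrix (Fin 3) (Fin 3) (ZMod p)) = Pm := hPunit.unit_spec
  let h : GL (Fin 3) (ZMod p) → Matrix (Fin 3) (Fin 3) (ZMod p) := fun g =>
    ((P⁻¹ * g * P : GL (Fin 3) (ZMod p)) : Matrix (Fin 3) (Fin 3) (ZMod p))
  have hh1 : h 1 = 1 := by simp [h]
  have hhmul : ∀ g g', h (g * g') = h g * h g' := fun g g' => by
    show ((P⁻¹ * (g * g') * P : GL (Fin 3) (ZMod p)) : Matrix (Fin 3) (Fin 3) (ZMod p)) = ((P⁻¹ * g * P : GL (Fin 3) (ZMod p)) : Matrix (Fin 3) (Fin 3) (ZMod p)) *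
      ((P⁻¹ * g' * P : GL (Fin 3) (ZMod p)) : Matrix (Fin 3) (Fin 3) (ZMod p))
    rw [← Units.val_mul]
    congr 1
    group
  have hhinj : ∀ g g', h g = h g' → g = g' := fun g g' he => by
    simpa using (Units.ext he : P⁻¹ * g * P = P⁻¹ * g' * P)
  -- the matrix of `t`
  have hJ : h t = !![1, 1, 0; 0, 1, 1; 0, 0, 1] := by
    have h1 : (t : Matrix (Fin 3) (Fin 3) (ZMod p)) * Pm = Pm * !![1, 1, 0; 0, 1, 1; 0, 0, 1] := by
      refine ext_mulVec fun x => ?_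
      have hJx : !![(1 : ZMod p), 1, 0; 0, 1, 1; 0, 0, 1] *ᵥ x = ![x 0 + x 1, x 1 + x 2, x 2] := by
        ext i
        fin_cases i <;> simp [mulVec, dotProduct, Fin.sum_univ_three]
      rw [← mulVec_mulVec, ← mulVec_mulVec, hPe, hPe, hJx,
        show (t : Matrix (Fin 3) (Fin 3) (ZMod p)) = 1 + n by rw [hn, add_sub_cancel]]
      simp [-mulVec_mulVec, add_mulVec, mulVec_add, mulVec_smul, h3]
      module
    show ((P⁻¹ * t * P : GL (Fin 3) (ZMod p)) : Matrix (Fin 3) (Fin 3) (ZMod p)) = _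
    rw [Units.val_mul, Units.val_mul, mul_assoc, hPv, h1, ← mul_assoc, ← hPv, Units.inv_mul,
      one_mul]
  have hcol : ∀ g ∈ X, h g 1 0 = 0 ∧ h g 2 0 = 0 := by
    intro g hg
    obtain ⟨c, hc⟩ := hfix g hg
    have h1 : Pm *ᵥ ![1, 0, 0] = n *ᵥ (n *ᵥ w) := by simp [hPe]
    have h2 : h g *ᵥ ![1, 0, 0] = c • ![1, 0, 0] := by
      show ((P⁻¹ * g * P : GL (Fin 3) (ZMod p)) : Matrix (Fin 3) (Fin 3) (ZMod p)) *ᵥ _ = _
      rw [Units.val_mul, Units.val_mul, ← mulVec_mulVec, ← mulVec_mulVec, hPv, h1, hc,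
        mulVec_smul, ← h1, ← hPv, mulVec_mulVec, Units.inv_mul, one_mulVec]
    have e1 := congrFun h2 1
    have e2 := congrFun h2 2
    simp [mulVec, dotProduct, Fin.sum_univ_three] at e1 e2
    exact ⟨e1, e2⟩
  let χ : X →* ZMod p :=
    { toFun := fun g => h g 0 0
      map_one' := by simp [hh1]
      map_mul' := fun g g' => by
        simp [hhmul, Matrix.mul_apply, Fin.sum_univ_three, hcol _ g'.2] }
  let B : X →* Matrix (Fin 2) (Fin 2) (ZMod p) :=
    { toFun := fun g => !![h g 1 1, h g 1 2; h g 2 1, h g 2 2]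
      map_one' := by ext i j; fin_cases i <;> fin_cases j <;> simp [hh1]
      map_mul' := fun g g' => by
        ext i j
        fin_cases i <;> fin_cases j <;>
          simp [hhmul, Matrix.mul_apply, Fin.sum_univ_three, hcol _ g.2] }
  have hχB : Function.Injective (χ.prod B) := by
    rw [← MonoidHom.ker_eq_bot_iff]
    refine hnormal _ inferInstance fun g => ⟨1, ?_⟩
    have hg := MonoidHom.mem_ker.1 g.2
    rw [MonoidHom.prod_apply, Prod.mk_eq_one] at hg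
    have e00 : h (g : X) 0 0 = 1 := hg.1
    have eB : !![h (g : X) 1 1, h (g : X) 1 2; h (g : X) 2 1, h (g : X) 2 2] = 1 := hg.2
    have e11 := congrFun (congrFun eB 0) 0
    have e12 := congrFun (congrFun eB 0) 1
    have e21 := congrFun (congrFun eB 1) 0
    have e22 := congrFun (congrFun eB 1) 1
    simp at e11 e12 e21 e22
    set a := h (g : X) 0 1
    set b := h (g : X) 0 2
    have hform : h (g : X) = !![1, a, b; 0, 1, 0; 0, 0, 1] := by
      ext i j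
      fin_cases i <;> fin_cases j <;> simp [e00, e11, e12, e21, e22, hcol _ (g : X).2, a, b]
    have hpw : ∀ j : ℕ, h ((g : GL (Fin 3) (ZMod p)) ^ j) =
        !![1, j * a, j * b; 0, 1, 0; 0, 0, 1] := by
      intro j
      induction j with
      | zero =>
        rw [pow_zero, hh1]
        ext i l
        fin_cases i <;> fin_cases l <;> simp
      | succ j ih =>
        rw [pow_succ, hhmul, ih, hform]
        ext i l
        fin_cases i <;> fin_cases l <;> simp [Matrix.mul_apply, Fin.sum_univ_three] <;> ring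
    rw [pow_one]
    refine Subtype.ext (Subtype.ext (hhinj _ _ ?_))
    simp only [Subgroup.coe_pow, Subgroup.coe_one, hpw, ZMod.natCast_self, zero_mul, hh1]
    ext i l
    fin_cases i <;> fin_cases l <;> simp
  -- the kernel of the first character, inside `GL(2, p)`
  let ρ : χ.ker →* GL (Fin 2) (ZMod p) := (B.comp χ.ker.subtype).toHomUnits
  have hρ : ∀ g : χ.ker, (ρ g : Matrix (Fin 2) (Fin 2) (ZMod p)) = B (g : X) := fun g => rfl
  have hpel : ∀ g : X, (∃ j : ℕ, g ^ p ^ j = 1) → ∃ hg : g ∈ χ.ker,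
      (ρ ⟨g, hg⟩ : Matrix (Fin 2) (Fin 2) (ZMod p)).det = 1 := by
    rintro g ⟨j, hj⟩
    have h1 : χ g = 1 := eq_one_of_pow_eq_one (k := j) (by rw [← map_pow, hj, map_one])
    refine ⟨h1, eq_one_of_pow_eq_one (k := j) ?_⟩
    rw [← Matrix.det_pow, hρ, ← map_pow, hj, map_one, Matrix.det_one]
  set H : Subgroup (SpecialLinearGroup (Fin 2) (ZMod p)) :=
    ρ.range.comap SpecialLinearGroup.toGL with hH
  have hlift : ∀ g : X, (∃ j : ℕ, g ^ p ^ j = 1) → ∃ (hg : g ∈ χ.ker) (y : H),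
      SpecialLinearGroup.toGL (y : SpecialLinearGroup (Fin 2) (ZMod p)) = ρ ⟨g, hg⟩ := by
    intro g hg
    obtain ⟨hgk, hdet⟩ := hpel g hg
    have e : SpecialLinearGroup.toGL (⟨_, hdet⟩ : SpecialLinearGroup (Fin 2) (ZMod p)) =
        ρ ⟨g, hgk⟩ := Units.ext rfl
    exact ⟨hgk, ⟨⟨_, hdet⟩, ⟨⟨g, hgk⟩, e.symm⟩⟩, e⟩
  have htp' : (⟨t, htX⟩ : X) ^ p ^ k = 1 := Subtype.ext htp
  have htop : H = ⊤ := by
    refine CfsgLib.Invol.EssentialSmall.slTwo_eq_top H ?_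
    by_contra hc
    haveI : Subsingleton (Sylow p H) := Finite.card_le_one_iff_subsingleton.1 (not_lt.1 hc)
    obtain ⟨W⟩ : Nonempty (Sylow p H) := inferInstance
    set E : Set X := {g | ∃ j : ℕ, g ^ p ^ j = 1}
    set K : Subgroup χ.ker := (((W : Subgroup H).map H.subtype).map SpecialLinearGroup.toGL).comap ρ
    have hE : E ⊆ ↑(K.map χ.ker.subtype) := by
      intro g hg
      obtain ⟨hgk, y, hy⟩ := hlift g hg
      refine ⟨⟨g, hgk⟩, ⟨y, ⟨y, ?_, rfl⟩, hy⟩, rfl⟩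
      obtain ⟨j, hj⟩ := hg
      have hyp : IsPGroup p (Subgroup.zpowers y) := by
        have hy1 : y ^ p ^ j = 1 := by
          refine Subtype.ext (Subtype.ext ?_)
          have := congrArg (fun u : GL (Fin 2) (ZMod p) => (u ^ p ^ j : GL (Fin 2) (ZMod p))) hy
          simp only [← map_pow] at this
          rw [show (⟨g, hgk⟩ : χ.ker) ^ p ^ j = 1 from Subtype.ext hj, map_one] at this
          exact congrArg Units.val this
        intro u
        obtain ⟨i, hi⟩ := Subgroup.mem_zpowers_iff.1 u.2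
        exact ⟨j, Subtype.ext (by
          rw [Subgroup.coe_pow, Subgroup.coe_one, ← hi, ← zpow_natCast, zpow_comm, zpow_natCast,
            hy1, _root_.one_zpow])⟩
      obtain ⟨W', hW'⟩ := hyp.exists_le_sylow
      rw [Subsingleton.elim W' W] at hW'
      exact hW' (Subgroup.mem_zpowers y)
    have hρinj : Function.Injective ρ := fun g g' he => by
      refine Subtype.ext (hχB (Prod.ext ?_ (congrArg Units.val he)))
      exact (MonoidHom.mem_ker.1 g.2).trans (MonoidHom.mem_ker.1 g'.2).symm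
    have hKp : IsPGroup p K :=
      ((W.isPGroup'.map H.subtype).map SpecialLinearGroup.toGL).comap_of_injective ρ hρinj
    have hcl : IsPGroup p (Subgroup.closure E) :=
      (hKp.map χ.ker.subtype).to_le ((Subgroup.closure_le _).2 hE)
    haveI : (Subgroup.closure E).Normal := ⟨fun g hg a => by
      have h1 : Subgroup.closure E ≤ (Subgroup.closure E).comap (MulAut.conj a).toMonoidHom := by
        refine (Subgroup.closure_le _).2 ?_
        rintro e ⟨j, hj⟩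
        refine Subgroup.subset_closure ⟨j, ?_⟩
        rw [MulEquiv.coe_toMonoidHom, ← map_pow, hj, map_one]
      exact h1 hg⟩
    have h2 : (⟨t, htX⟩ : X) ∈ Subgroup.closure E := Subgroup.subset_closure ⟨k, htp'⟩
    rw [hnormal _ inferInstance hcl, Subgroup.mem_bot] at h2
    exact ht1 (congrArg Subtype.val h2)
  obtain ⟨z, hz⟩ : (-1 : SpecialLinearGroup (Fin 2) (ZMod p)) ∈ H := htop ▸ Subgroup.mem_top _
  have hBz : B (z : X) = -1 := by
    rw [← hρ, hz]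
    simp
  obtain ⟨htk, -⟩ := hpel ⟨t, htX⟩ ⟨k, htp'⟩
  have hzt : (z : X) * ⟨t, htX⟩ = ⟨t, htX⟩ * (z : X) := by
    refine hχB ?_
    rw [map_mul, map_mul]
    refine Prod.ext ?_ ?_
    · simp only [Prod.fst_mul, MonoidHom.prod_apply]
      rw [MonoidHom.mem_ker.1 z.2, one_mul, mul_one]
    · simp only [Prod.snd_mul, MonoidHom.prod_apply]
      rw [hBz, neg_one_mul, mul_neg_one]
  have h4 := congrArg (fun g : X => h g 0 1) hzt
  simp only [Subgroup.coe_mul, hhmul, hJ] at h4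
  simp [Matrix.mul_apply, Fin.sum_univ_three, hcol _ (z : X).2] at h4
  have e00 : h (z : X) 0 0 = 1 := MonoidHom.mem_ker.1 z.2
  have e11 : h (z : X) 1 1 = -1 := by
    have := congrFun (congrFun hBz 0) 0
    simpa [B] using this
  rw [e00, e11] at h4
  have h2 : ((2 : ℕ) : ZMod p) = 0 := by push_cast; linear_combination h4
  rw [ZMod.natCast_eq_zero_iff] at h2
  exact hp2 ((Nat.prime_dvd_prime_iff_eq hp.out Nat.prime_two).1 h2)

end CfsgLib.RankThree.Linear
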