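import Cfsg.Agent.Lib.RankThree.Frame

/-!
A self-centralising normal `p^(1+2) × C_p` with a torus has no outer transvection in sectional rank
three.
-/

set_option autoImplicit false
set_option linter.style.haveILetI false
set_option linter.unusedSectionVars false

namespace CfsgLib.RankThree

open Subgroup
open scoped commutatorElement

variable {G : Type*} [Group G] [Finite G] {p : ℕ} [hp : Fact p.Prime] {N : Subgroup G} [N.Normal]

/-- The action of `g` on the frame. -/
structure Act (F : QFrame p N) (g : G) (α β γ δ ε : ZMod p) : Prop where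
  hx : MulAut.conjNormal g F.x = F.x * pw F.u γ * pw F.l δ
  he : ∃ η : ZMod p, MulAut.conjNormal g F.e = pw F.x α * F.e * pw F.u ε * pw F.l η
  hu : MulAut.conjNormal g F.u = F.u * pw F.l β
  hl : MulAut.conjNormal g F.l = F.l

variable {F : QFrame p N} {g h : G} {α β γ δ ε α' β' γ' δ' ε' : ZMod p}

theorem commute_u (F : QFrame p N) (s : ZMod p) (q : N) : Commute (pw F.u s) q :=
  (F.u_central q).pow_left _

theorem commute_l (F : QFrame p N) (s : ZMod p) (q : N) : Commute (pw F.l s) q :=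
  (F.l_central q).pow_left _

theorem conjNormal_mul_apply (g h : G) (q : N) :
    MulAut.conjNormal (g * h) q = MulAut.conjNormal g (MulAut.conjNormal h q) := by
  rw [map_mul, MulAut.mul_apply]

theorem Act.mul (a : Act F g α β γ δ ε) (b : Act F h α' β' γ' δ' ε') :
    Act F (g * h) (α + α') (β + β') (γ + γ') (δ + δ' + β * γ') (ε + ε' + γ * α') := by
  have hl := F.l_central
  have hu := F.u_central
  obtain ⟨η, ae⟩ := a.he
  obtain ⟨η', be⟩ := b.he
  refine ⟨?_, ⟨η + η' + δ * α' + β * ε', ?_⟩, ?_, ?_⟩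
  · rw [conjNormal_mul_apply, b.hx, map_mul, map_mul, map_pw, map_pw, a.hx, a.hu, a.hl,
      mul_pw (hu (pw F.l β)) γ', pw_pw (F.exp _), pw_add (F.exp _),
      pw_add (F.exp _), pw_add (F.exp _)]
    simp only [mul_assoc]
    congr 2
    rw [← mul_assoc (pw F.l δ), (commute_l F δ (pw F.u γ')).eq]
    simp only [mul_assoc]
    congr 2
    rw [(commute_l F (β * γ') (pw F.l δ')).eq]
  · rw [conjNormal_mul_apply, be, map_mul, map_mul, map_mul, map_pw, map_pw, map_pw, a.hx, ae,
      a.hu, a.hl]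
    have hxu : Commute (F.x * pw F.u γ) (pw F.l δ) := ((hl _).pow_left δ.val).symm
    have hx' : Commute F.x (pw F.u γ) := ((hu _).pow_left γ.val).symm
    rw [mul_pw hxu, mul_pw hx', mul_pw (hu (pw F.l β)), pw_pw (F.exp _) γ, pw_pw (F.exp _) δ,
      pw_pw (F.exp _) β, pw_add (F.exp F.x), pw_add (F.exp F.u), pw_add (F.exp F.u),
      pw_add (F.exp F.l), pw_add (F.exp F.l), pw_add (F.exp F.l)]
    have cu : ∀ (s : ZMod p) (q : N), Commute (pw F.u s) q := fun s q => (hu q).pow_left _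
    have cl : ∀ (s : ZMod p) (q : N), Commute (pw F.l s) q := fun s q => (hl q).pow_left _
    have c1 := fun q => (cl (δ * α') q).eq
    simp only [mul_assoc]
    rw [← mul_assoc (pw F.u (γ * α')) (pw F.l (δ * α')),
      ← mul_assoc (pw F.u (γ * α') * pw F.l (δ * α')) (pw F.x α),
      ((cu (γ * α') _).mul_left (cl (δ * α') (pw F.x α))).eq]
    simp only [mul_assoc]
    rw [← mul_assoc (pw F.x α') (pw F.x α), ← pw_add (F.exp F.x), add_comm α' α,
      pw_add (F.exp F.x)]
    simp only [mul_assoc]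
    congr 2
    rw [← mul_assoc (pw F.u (γ * α')) (pw F.l (δ * α')) (F.e * _), ← mul_assoc _ F.e,
      ((cu (γ * α') F.e).mul_left (cl (δ * α') F.e)).eq]
    simp only [mul_assoc]
    congr 1
    rw [← mul_assoc (pw F.l (δ * α')) (pw F.u ε), (cl (δ * α') (pw F.u ε)).eq]
    simp only [← mul_assoc]
    rw [(cu (γ * α') (pw F.u ε)).eq]
    simp only [mul_assoc]
    rw [← mul_assoc (pw F.l η) (pw F.u ε'), (cl η (pw F.u ε')).eq]
    simp only [mul_assoc]
    rw [← mul_assoc (pw F.l (δ * α')) (pw F.u ε'), (cl (δ * α') (pw F.u ε')).eq]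
    simp only [mul_assoc]
    rw [← mul_assoc (pw F.u (γ * α')) (pw F.u ε'), (cu (γ * α') (pw F.u ε')).eq]
    simp only [mul_assoc]
    congr 3
    simp only [← pw_add (F.exp F.l), ← mul_assoc]
    congr 1
    ring
  · rw [conjNormal_mul_apply, b.hu, map_mul, map_pw, a.hu, a.hl, mul_assoc, ← pw_add (F.exp _)]
  · rw [conjNormal_mul_apply, b.hl, a.hl]

theorem Act.one : Act F (1 : G) 0 0 0 0 0 := by
  refine ⟨?_, ⟨0, ?_⟩, ?_, ?_⟩ <;> simp

theorem Act.pow (a : Act F g α 0 0 δ ε) (n : ℕ) :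
    Act F (g ^ n) ((n : ZMod p) * α) 0 0 ((n : ZMod p) * δ) ((n : ZMod p) * ε) := by
  induction n with
  | zero => simpa using Act.one
  | succ n ih =>
    have h := ih.mul a
    simp only [mul_zero, zero_mul, add_zero] at h
    rw [pow_succ, Nat.cast_succ, add_one_mul, add_one_mul, add_one_mul]
    exact h

theorem Act.pow_some (a : Act F g α β γ δ ε) (n : ℕ) :
    ∃ δ' ε' : ZMod p, Act F (g ^ n) ((n : ZMod p) * α) ((n : ZMod p) * β) ((n : ZMod p) * γ) δ' ε' := by
  induction n with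
  | zero => exact ⟨0, 0, by simpa using Act.one⟩
  | succ n ih =>
    obtain ⟨δ', ε', ih⟩ := ih
    refine ⟨δ' + δ + (n : ZMod p) * β * γ, ε' + ε + (n : ZMod p) * γ * α, ?_⟩
    rw [pow_succ, Nat.cast_succ, add_one_mul, add_one_mul, add_one_mul]
    exact ih.mul a

theorem Act.theta {θ : MulAut G} {θN : MulAut N} (hθ : ∀ q : N, ((θN q : N) : G) = θ q)
    {a a' : ZMod p} (haa : a * a' = 1) (hx : θN F.x = pw F.x (a * a)) (he : θN F.e = pw F.e a')
    (hu : θN F.u = F.u) (hl : θN F.l = pw F.l a) (A : Act F g α β γ δ ε) :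
    Act F (θ g) (a ^ 3 * α) (a * β) (a' * a' * γ) (a' * δ) (a * ε) := by
  have key : ∀ q : N, MulAut.conjNormal (θ g) (θN q) = θN (MulAut.conjNormal g q) := fun q =>
    Subtype.ext (by
      rw [hθ, MulAut.conjNormal_apply, MulAut.conjNormal_apply, hθ, map_mul, map_mul, map_inv])
  have cu : ∀ (s : ZMod p) (q : N), Commute (pw F.u s) q := fun s q => (F.u_central q).pow_left _
  have cl : ∀ (s : ZMod p) (q : N), Commute (pw F.l s) q := fun s q => (F.l_central q).pow_left _
  have haa2 : a * a * (a' * a') = 1 := by linear_combination (a * a' + 1) * haa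
  obtain ⟨η, Ae⟩ := A.he
  refine ⟨?_, ?_, ?_, ?_⟩
  · have h1 := congrArg (fun q : N => pw q (a' * a')) (key F.x)
    simp only [hx, map_pw, pw_pw (F.exp _), haa2, pw_one] at h1
    rw [h1, A.hx, map_mul, map_mul, map_pw, map_pw, hx, hu, hl,
      pw_pw (F.exp F.l) a δ, mul_pw ((cl _ _).symm), mul_pw ((cu _ _).symm), pw_pw (F.exp _),
      pw_pw (F.exp _), pw_pw (F.exp _), haa2, pw_one, mul_comm γ]
    congr 2
    linear_combination δ * a' * haa
  · have h1 := congrArg (fun q : N => pw q a) (key F.e)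
    simp only [he, map_pw, pw_pw (F.exp _), show a' * a = 1 by rw [mul_comm]; exact haa,
      pw_one] at h1
    rw [h1, Ae, map_mul, map_mul, map_mul, map_pw, map_pw, map_pw, hx, he, hu, hl]
    set w : N := pw (pw F.x (a * a)) α * pw F.e a' with hw
    have hc1 : Commute (w * pw F.u ε) (pw (pw F.l a) η) := (cl a _).pow_left _ |>.symm
    have hc2 : Commute w (pw F.u ε) := (cu ε _).symm
    rw [mul_pw hc1, mul_pw hc2, pw_pw (F.exp _) ε, pw_pw (F.exp _) a, pw_pw (F.exp _) (a * η),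
      mul_comm ε a]
    have hX : Commute (pw F.e a') ⁅pw F.e a', pw (pw F.x (a * a)) α⁆ ∧
        Commute (pw (pw F.x (a * a)) α) ⁅pw F.e a', pw (pw F.x (a * a)) α⁆ ∧
        ∃ m : ZMod p, ⁅pw F.e a', pw (pw F.x (a * a)) α⁆ = pw F.l m := by
      obtain ⟨m, hm⟩ : ∃ m : ZMod p, ⁅pw F.e a', pw (pw F.x (a * a)) α⁆ = pw F.l m := by
        refine F.ker _ ?_ ?_ ?_ <;> rw [commutatorElement_def] <;>
          simp only [F.cx_mul, F.ce_mul, F.cu_mul, QFrame.add_inv F.cx_mul,
            QFrame.add_inv F.ce_mul, QFrame.add_inv F.cu_mul] <;> ring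
      rw [hm]
      exact ⟨(cl m _).symm, (cl m _).symm, m, rfl⟩
    obtain ⟨hX1, hX2, m, hm⟩ := hX
    refine ⟨((a.val.choose 2 : ℕ) : ZMod p) * m + a * η * a, ?_⟩
    rw [show pw w a = w ^ a.val from rfl, hw,
      CfsgLib.Transfer.mul_pow_of_commute_commutator hX2 hX1, hm, pw_pow (F.exp _) m]
    simp only [← show ∀ q : N, pw q a = q ^ a.val from fun q => rfl]
    rw [pw_pw (F.exp _), pw_pw (F.exp _), pw_pw (F.exp _), show a' * a = 1 by
      rw [mul_comm]; exact haa, pw_one,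
      show a * a * (α * a) = a ^ 3 * α by ring,
      mul_assoc (pw F.x (a ^ 3 * α) * F.e), (cl _ (pw F.u (a * ε))).eq, pw_add (F.exp F.l)]
    simp only [mul_assoc]
  · have h1 := key F.u
    rw [hu] at h1
    rw [h1, A.hu, map_mul, map_pw, hu, hl, pw_pw (F.exp _)]
  · have h1 := congrArg (fun q : N => pw q a') (key F.l)
    simp only [hl, map_pw, pw_pw (F.exp _), haa, pw_one] at h1
    rw [h1, A.hl, hl, pw_pw (F.exp _), haa, pw_one]

/-- Every element acts by an `Act`. -/
theorem exists_act (hG : IsPGroup p G) (g : G)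
    (hL : F.ce (MulAut.conjNormal g F.x) = 0) :
    ∃ α β γ δ ε : ZMod p, Act F g α β γ δ ε ∧ α = F.cx (MulAut.conjNormal g F.e) := by
  set c : MulAut N := MulAut.conjNormal g with hc
  obtain ⟨k, hk⟩ := hG g
  have hck : c ^ p ^ k = 1 := by rw [hc, ← map_pow, hk, map_one]
  have hcentral : ∀ q : N, (∀ r, Commute q r) → F.cx q = 0 ∧ F.ce q = 0 := fun q hq =>
    F.coord_of_central (hq _) (hq _)
  have hcu : ∀ r, Commute (c F.u) r := fun r => by
    simpa using (F.u_central (c.symm r)).map c.toMonoidHom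
  obtain ⟨hu1, hu2⟩ := hcentral _ hcu
  have hiter : ∀ j : ℕ, F.cx ((c ^ j) F.x) = F.cx (c F.x) ^ j ∧
      F.ce ((c ^ j) F.x) = 0 ∧ F.ce ((c ^ j) F.e) = F.ce (c F.e) ^ j ∧
      F.cu ((c ^ j) F.u) = F.cu (c F.u) ^ j ∧ F.cx ((c ^ j) F.u) = 0 ∧ F.ce ((c ^ j) F.u) = 0 := by
    intro j
    induction j with
    | zero => simp [F.cx_x, F.ce_x, F.ce_e, F.cu_u, F.cx_u, F.ce_u]
    | succ j ih =>
      obtain ⟨h1, h2, h3, h4, h5, h6⟩ := ih
      simp only [pow_succ', MulAut.mul_apply, F.linear_x c ((c ^ j) F.x),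
        F.linear_e c ((c ^ j) F.x), F.linear_e c ((c ^ j) F.e), F.linear_x c ((c ^ j) F.u),
        F.linear_e c ((c ^ j) F.u), QFrame.linear_u c ((c ^ j) F.u), h1, h2, h3, h4, h5, h6, hL,
        ← hc]
      refine ⟨?_, ?_, ?_, ?_, ?_, ?_⟩ <;> ring
  obtain ⟨h1, -, h3, h4, -, -⟩ := hiter (p ^ k)
  rw [hck, MulAut.one_apply, F.cx_x, ZMod.pow_card_pow] at h1
  rw [hck, MulAut.one_apply, F.ce_e, ZMod.pow_card_pow] at h3
  rw [hck, MulAut.one_apply, F.cu_u, ZMod.pow_card_pow] at h4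
  obtain ⟨mx, hmx⟩ := F.decomp (c F.x)
  obtain ⟨me, hme⟩ := F.decomp (c F.e)
  obtain ⟨mu, hmu⟩ := F.decomp (c F.u)
  rw [← h1, hL, pw_one, pw_zero, mul_one] at hmx
  rw [← h3, pw_one] at hme
  rw [hu1, hu2, ← h4, pw_one, pw_zero, pw_zero, one_mul, one_mul] at hmu
  refine ⟨F.cx (c F.e), mu, F.cu (c F.x), mx, F.cu (c F.e), ⟨hmx, ⟨me, hme⟩, hmu, ?_⟩, rfl⟩
  have cu : ∀ (s : ZMod p) (q : N), Commute (pw F.u s) q := fun s q => (F.u_central q).pow_left _
  have cl : ∀ (s : ZMod p) (q : N), Commute (pw F.l s) q := fun s q => (F.l_central q).pow_left _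
  calc c F.l = ⁅c F.x, c F.e⁆ := by rw [← F.comm, map_commutatorElement]
    _ = ⁅F.x, pw F.x (F.cx (c F.e)) * F.e⁆ := by
      obtain ⟨al, hal⟩ : ∃ al, F.cx (c F.e) = al := ⟨_, rfl⟩
      rw [hal] at hme ⊢
      rw [hmx, hme]
      have hz : ∀ (s t : ZMod p) (w : N), ⁅pw F.u s * pw F.l t, w⁆ = 1 := fun s t w =>
        commutatorElement_eq_one_iff_commute.2 (F.commute_ul s t w)
      have hz' : ∀ (s t : ZMod p) (w : N), ⁅w, pw F.u s * pw F.l t⁆ = 1 := fun s t w =>
        commutatorElement_eq_one_iff_commute.2 (F.commute_ul s t w).symm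
      rw [mul_assoc F.x, mul_assoc (pw F.x _ * F.e),
        comm_mul_left (by rw [hz]; exact Commute.one_right _), hz, one_mul,
        comm_mul_right (by rw [hz']; exact Commute.one_right _), hz', mul_one]
    _ = F.l := by
      rw [comm_mul_right (by rw [F.comm]; exact (F.l_central _).symm), F.comm,
        commutatorElement_eq_one_iff_commute.2 (show Commute F.x (pw F.x (F.cx (c F.e))) from
          (Commute.refl F.x).pow_right _), one_mul]

/-- The contradiction. -/
theorem no_outer (hG : IsPGroup p G) (hsr : Cfsg.SectionalPRankLE p 3 G) (F : QFrame p N)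
    (θ : MulAut G) (θN : MulAut N) (hθ : ∀ q : N, ((θN q : N) : G) = θ q)
    {a a' : ZMod p} (haa : a * a' = 1) (ha2 : a ^ 2 ≠ 1) (ha3 : a ^ 3 ≠ 1) (ha5 : a ^ 5 ≠ 1)
    (hx : θN F.x = pw F.x (a * a)) (he : θN F.e = pw F.e a') (hu : θN F.u = F.u)
    (hl : θN F.l = pw F.l a) (y : G) (hy : F.cx (MulAut.conjNormal y F.e) ≠ 0)
    (hL : ∀ g : G, F.ce (MulAut.conjNormal g F.x) = 0)
    (hC : ∀ g : G, (∀ n ∈ N, g * n = n * g) → g ∈ N) : False := by
  have ha0 : a ≠ 0 := left_ne_zero_of_mul_eq_one haa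
  have hact := fun g => exists_act hG g (hL g)
  have hth := fun {g : G} {α β γ δ ε : ZMod p} (A : Act F g α β γ δ ε) =>
    Act.theta hθ haa hx he hu hl A
  -- successive elimination
  obtain ⟨α0, β0, γ0, δ0, ε0, A0, hα0⟩ := hact y
  rw [← hα0] at hy
  obtain ⟨_, _, P0⟩ := A0.pow_some (-a).val
  have A1 := (hth A0).mul P0
  rw [ZMod.natCast_zmod_val, show a * β0 + -a * β0 = 0 by ring] at A1
  obtain ⟨_, _, P1⟩ := A1.pow_some (-(a' * a')).val
  have A2 := (hth A1).mul P1
  rw [ZMod.natCast_zmod_val, mul_zero, mul_zero, add_zero,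
    show a' * a' * (a' * a' * γ0 + -a * γ0) + -(a' * a') * (a' * a' * γ0 + -a * γ0) = 0 by ring]
    at A2
  have hne1 : a ^ 3 * α0 + -a * α0 ≠ 0 := by
    have : a ^ 3 * α0 + -a * α0 = a * (a ^ 2 - 1) * α0 := by ring
    rw [this]
    exact mul_ne_zero (mul_ne_zero ha0 (sub_ne_zero.2 ha2)) hy
  have hne2 : a ^ 3 * (a ^ 3 * α0 + -a * α0) + -(a' * a') * (a ^ 3 * α0 + -a * α0) ≠ 0 := by
    rw [← add_mul]
    refine mul_ne_zero (fun h => ha5 ?_) hne1
    linear_combination (a * a) * h + (a * a' + 1) * haa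
  revert A2 hne2
  generalize a ^ 3 * (a ^ 3 * α0 + -a * α0) + -(a' * a') * (a ^ 3 * α0 + -a * α0) = α2
  intro A2 hne2
  obtain ⟨δ2, ε2, A2⟩ : ∃ δ ε : ZMod p, Act F _ α2 0 0 δ ε := ⟨_, _, A2⟩
  -- conjugation by `e`
  have Ae : Act F (F.e : G) 0 0 0 (-1) 0 := by
    have hconj : ∀ q : N, MulAut.conjNormal (F.e : G) q = ⁅F.e, q⁆ * q := fun q => Subtype.ext (by
      rw [MulAut.conjNormal_apply, Subgroup.coe_mul, commutatorElement_def]
      simp [mul_assoc])
    refine ⟨?_, ⟨0, ?_⟩, ?_, ?_⟩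
    · rw [hconj, ← commutatorElement_inv, F.comm, pw_zero, mul_one, pw_neg (F.exp _), pw_one]
      exact ((F.l_central _).inv_left).eq
    · rw [hconj, commutatorElement_self]; simp
    · rw [hconj, commutatorElement_eq_one_iff_commute.2 (F.u_central _).symm]; simp
    · rw [hconj, commutatorElement_eq_one_iff_commute.2 (F.l_central _).symm]; simp
  have A3 := A2.mul (Ae.pow δ2.val)
  simp only [ZMod.natCast_zmod_val, mul_zero, zero_mul, add_zero, mul_neg_one,
    add_neg_cancel] at A3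
  have A4 := (hth A3).mul (A3.pow (-a).val)
  simp only [ZMod.natCast_zmod_val, mul_zero, zero_mul, add_zero,
    show a * ε2 + -a * ε2 = 0 by ring] at A4
  have hne4 : a ^ 3 * α2 + -a * α2 ≠ 0 := by
    have : a ^ 3 * α2 + -a * α2 = a * (a ^ 2 - 1) * α2 := by ring
    rw [this]
    exact mul_ne_zero (mul_ne_zero ha0 (sub_ne_zero.2 ha2)) hne2
  revert A4 hne4
  generalize a ^ 3 * α2 + -a * α2 = α4
  intro A4 hne4
  obtain ⟨g, A4⟩ : ∃ g : G, Act F g α4 0 0 0 0 := ⟨_, A4⟩
  -- elements of `N`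
  have hfixN : ∀ {g : G}, MulAut.conjNormal g F.x = F.x → MulAut.conjNormal g F.e = F.e →
      MulAut.conjNormal g F.u = F.u → g ∈ N := by
    intro g h1 h2 h3
    refine hC g fun n hn => ?_
    have h4 : MulAut.conjNormal g F.l = F.l := by
      rw [← F.comm, map_commutatorElement, h1, h2]
    have h5 : MulAut.conjNormal g ⟨n, hn⟩ = (⟨n, hn⟩ : N) := by
      obtain ⟨m, hm⟩ := F.decomp ⟨n, hn⟩
      rw [hm]
      simp [map_pw, h1, h2, h3, h4]
    exact mul_inv_eq_iff_eq_mul.1 ((MulAut.conjNormal_apply g ⟨n, hn⟩).symm.trans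
      (congrArg Subtype.val h5))
  have hself : ∀ q r : N, MulAut.conjNormal (q : G) r = q * r * q⁻¹ := fun q r =>
    Subtype.ext (by rw [MulAut.conjNormal_apply]; rfl)
  have hpre : ∀ (q : N), MulAut.conjNormal (q : G) F.x = F.x → F.ce q = 0 := by
    intro q hq
    obtain ⟨m, hm⟩ := F.decomp q
    have hqx : Commute q F.x := mul_inv_eq_iff_eq_mul.1 ((hself q F.x).symm.trans hq)
    have h1 : Commute (pw F.e (F.ce q)) F.x := by
      have h2 : pw F.e (F.ce q) = (pw F.x (F.cx q))⁻¹ * q * (pw F.u (F.cu q) * pw F.l m)⁻¹ := by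
        conv_rhs => arg 1; arg 2; rw [hm]
        group
      rw [h2]
      exact ((((Commute.refl F.x).pow_left _).inv_left).mul_left hqx).mul_left
        (F.commute_ul _ _ _).inv_left
    have := (F.coord_of_central (q := pw F.e (F.ce q)) h1 ((Commute.refl F.e).pow_left _)).2
    rwa [F.ce_pw, F.ce_e, mul_one] at this
  -- the stabiliser of the torus
  set n : ℕ := (-(a ^ 3)).val with hn
  have AH := (hth A4).mul (A4.pow n)
  rw [hn, ZMod.natCast_zmod_val, ← hn] at AH
  simp only [mul_zero, zero_mul, add_zero, neg_mul, add_neg_cancel] at AH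
  set h : G := θ g * g ^ n with hh
  obtain ⟨η, hη⟩ := AH.he
  rw [pw_zero, one_mul, pw_zero, mul_one] at hη
  have hxh : MulAut.conjNormal h F.x = F.x := by simpa using AH.hx
  have huh : MulAut.conjNormal h F.u = F.u := by simpa using AH.hu
  have hxconj : ∀ s : ZMod p, MulAut.conjNormal ((pw F.x s : N) : G) F.e = F.e * pw F.l s := by
    intro s
    rw [hself, show pw F.x s = F.x ^ s.val from rfl]
    have h1 : ⁅F.x ^ s.val, F.e⁆ = pw F.l s := by
      rw [comm_pow_left (F.comm ▸ (F.l_central F.x).symm), F.comm]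
      rfl
    rw [commutatorElement_def] at h1
    rw [mul_inv_eq_iff_eq_mul.1 h1, (commute_l F s F.e).eq]
  have hhN : h ∈ N := by
    have h1 : h * ((pw F.x (-η) : N) : G) ∈ N := by
      refine hfixN ?_ ?_ ?_
      · rw [conjNormal_mul_apply, hself,
          (show Commute (pw F.x (-η)) F.x from (Commute.refl F.x).pow_left _).eq, mul_inv_cancel_right,
          hxh]
      · rw [conjNormal_mul_apply, hxconj, map_mul, map_pw, hη, AH.hl, mul_assoc,
          ← pw_add (F.exp _), add_neg_cancel, pw_zero, mul_one]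
      · rw [conjNormal_mul_apply, hself, (F.u_central _).symm.eq, mul_inv_cancel_right, huh]
    simpa using N.mul_mem h1 (N.inv_mem (pw F.x (-η)).2)
  have hgx : MulAut.conjNormal g F.x = F.x := by simpa using A4.hx
  have hgu : MulAut.conjNormal g F.u = F.u := by simpa using A4.hu
  have hcomm : ∀ {g : G} {q : N}, MulAut.conjNormal g q = q → Commute g (q : G) := fun hq =>
    mul_inv_eq_iff_eq_mul.1 ((MulAut.conjNormal_apply _ _).symm.trans (congrArg Subtype.val hq))
  have hgh : Commute g h := by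
    obtain ⟨m, hm⟩ := F.decomp ⟨h, hhN⟩
    rw [hpre ⟨h, hhN⟩ hxh, pw_zero, mul_one] at hm
    have := congrArg Subtype.val hm
    rw [show h = ((⟨h, hhN⟩ : N) : G) from rfl, this]
    exact hcomm (by simp [map_pw, hgx, hgu, A4.hl])
  -- `g ^ p`
  have Ap := A4.pow p
  rw [ZMod.natCast_self, zero_mul, zero_mul] at Ap
  have hgpe : MulAut.conjNormal (g ^ p) F.e = F.e := by
    obtain ⟨η4, h4⟩ := A4.he
    rw [pw_zero, mul_one] at h4
    have hit : ∀ j : ℕ, MulAut.conjNormal (g ^ j) F.e =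
        pw F.x ((j : ZMod p) * α4) * F.e * pw F.l ((j : ZMod p) * η4) := by
      intro j
      induction j with
      | zero => simp
      | succ j ih =>
        rw [pow_succ', conjNormal_mul_apply, ih, map_mul, map_mul, map_pw, map_pw, hgx, h4, A4.hl,
          Nat.cast_succ, add_one_mul, add_one_mul, pw_add (F.exp _), add_comm ((j : ZMod p) * η4),
          pw_add (F.exp _)]
        simp only [mul_assoc]
    rw [hit p, ZMod.natCast_self, zero_mul, zero_mul]
    simp
  have hgpx : MulAut.conjNormal (g ^ p) F.x = F.x := by simpa using Ap.hx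
  have hgpu : MulAut.conjNormal (g ^ p) F.u = F.u := by simpa using Ap.hu
  have hgpN : g ^ p ∈ N := hfixN hgpx hgpe hgpu
  set z : N := ⟨g ^ p, hgpN⟩ with hz
  obtain ⟨hzx, hze⟩ := F.coord_of_central (q := z)
    (mul_inv_eq_iff_eq_mul.1 ((hself z F.x).symm.trans hgpx))
    (mul_inv_eq_iff_eq_mul.1 ((hself z F.e).symm.trans hgpe))
  obtain ⟨k, m, hkm⟩ := F.central_of_coord hzx hze
  have hzθ : θN z = pw z (a ^ 3) := Subtype.ext (by
    rw [hθ, show ((pw z (a ^ 3) : N) : G) = (g ^ p) ^ (a ^ 3).val from rfl]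
    show θ (g ^ p) = _
    have hgn : Commute h (g ^ n) := hgh.symm.pow_right n
    have h1 : θ g = h * (g ^ n)⁻¹ := by rw [hh, mul_inv_cancel_right]
    have hhp : h ^ p = 1 := congrArg Subtype.val (F.exp ⟨h, hhN⟩)
    rw [map_pow, h1, hgn.inv_right.mul_pow, hhp, one_mul, inv_pow, ← pow_mul, mul_comm, pow_mul]
    refine inv_eq_of_mul_eq_one_right ?_
    rw [← pow_add]
    have hzp : (g ^ p) ^ p = 1 := congrArg Subtype.val (F.exp z)
    rw [← pw_natCast hzp, Nat.cast_add, hn, ZMod.natCast_zmod_val, ZMod.natCast_zmod_val,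
      neg_add_cancel, pw_zero])
  rw [hkm, map_mul, map_pw, map_pw, hu, hl, pw_pw (F.exp _),
    mul_pw (commute_u F k (pw F.l m)), pw_pw (F.exp _), pw_pw (F.exp _)] at hzθ
  have hk := congrArg F.cu hzθ
  simp only [F.cu_mul, F.cu_pw, F.cu_u, F.cu_l, mul_zero, add_zero, mul_one] at hk
  have hk0 : k = 0 := by
    by_contra h0
    exact ha3 (mul_left_cancel₀ h0 (by rw [mul_one]; exact hk.symm))
  simp only [hk0, zero_mul, pw_zero, one_mul] at hzθ hkm
  have hm0 : m = 0 := by
    have h1 := pw_injective (F.exp _) F.l_ne hzθ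
    by_contra h0
    exact ha2 (mul_left_cancel₀ (mul_ne_zero h0 ha0) (by linear_combination -h1))
  rw [hm0, pw_zero] at hkm
  have hgp : g ^ p = 1 := congrArg Subtype.val hkm
  -- an elementary abelian subgroup of order `p⁴`
  have hgl : Commute g (F.l : G) := hcomm A4.hl
  have hgxc : Commute g (F.x : G) := hcomm hgx
  have hguc : Commute g (F.u : G) := hcomm hgu
  have cG : ∀ {q r : N}, Commute q r → Commute (q : G) (r : G) := fun hqr =>
    hqr.map N.subtype
  have hexp : ∀ q : N, (q : G) ^ p = 1 := fun q => congrArg Subtype.val (F.exp q)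
  let ι : Multiplicative (ZMod p × ZMod p × ZMod p × ZMod p) →* G :=
    { toFun := fun w => pw g w.toAdd.1 * (pw (F.x : G) w.toAdd.2.1 *
        (pw (F.u : G) w.toAdd.2.2.1 * pw (F.l : G) w.toAdd.2.2.2))
      map_one' := by simp
      map_mul' := fun v w => by
        have cxu : Commute (F.x : G) F.u := cG (F.u_central F.x).symm
        have cxl : Commute (F.x : G) F.l := cG (F.l_central F.x).symm
        have cul : Commute (F.u : G) F.l := cG (F.u_central F.l)
        have p1 : ∀ {q r : G} (s t : ZMod p), Commute q r → Commute (pw q s) (pw r t) :=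
          fun s t h => h.pow_pow _ _
        simp only [toAdd_mul, Prod.fst_add, Prod.snd_add, pw_add hgp, pw_add (hexp _)]
        rw [(p1 w.toAdd.2.2.1 v.toAdd.2.2.2 cul).mul_mul_mul_comm,
          ((p1 w.toAdd.2.1 v.toAdd.2.2.1 cxu).mul_right
            (p1 w.toAdd.2.1 v.toAdd.2.2.2 cxl)).mul_mul_mul_comm,
          ((p1 w.toAdd.1 v.toAdd.2.1 hgxc).mul_right ((p1 w.toAdd.1 v.toAdd.2.2.1 hguc).mul_right
            (p1 w.toAdd.1 v.toAdd.2.2.2 hgl))).mul_mul_mul_comm] }
  have hinj : Function.Injective ι := by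
    rw [← MonoidHom.ker_eq_bot_iff, Subgroup.eq_bot_iff_forall]
    intro w hw
    set i := w.toAdd.1
    set j := w.toAdd.2.1
    set r := w.toAdd.2.2.1
    set s := w.toAdd.2.2.2
    set q : N := pw F.x j * (pw F.u r * pw F.l s) with hq
    have hw' : pw g i * (q : G) = 1 := hw
    have hqu : MulAut.conjNormal (q : G) F.e = F.e * pw F.l j := by
      rw [hq, Subgroup.coe_mul, conjNormal_mul_apply, hself (pw F.u r * pw F.l s) F.e,
        (F.commute_ul r s F.e).eq,
        mul_inv_cancel_right, hxconj]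
    obtain ⟨η4, h4⟩ := (A4.pow i.val).he
    rw [ZMod.natCast_zmod_val] at h4
    have h5 : MulAut.conjNormal (pw g i * (q : G)) F.e = F.e := by rw [hw']; simp
    rw [conjNormal_mul_apply, hqu, show pw g i = g ^ i.val from rfl, map_mul, map_pw, h4,
      (A4.pow i.val).hl] at h5
    have h6 := congrArg F.cx h5
    simp only [F.cx_mul, F.cx_pw, F.cx_x, F.cx_e, F.cx_u, F.cx_l, mul_zero, add_zero, mul_one] at h6
    have hi : i = 0 := (mul_eq_zero.1 h6).resolve_right hne4
    rw [hi, pw_zero, one_mul] at hw'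
    have hq1 : q = 1 := Subtype.ext hw'
    have e1 := congrArg F.cx hq1
    have e2 := congrArg F.cu hq1
    rw [← pw_zero (p := p) (g := F.x)] at e1 e2
    simp only [hq, F.cx_mul, F.cu_mul, F.cx_pw, F.cu_pw, F.cx_x, F.cx_u, F.cx_l, F.cu_x, F.cu_u,
      F.cu_l, mul_zero, add_zero, mul_one, zero_add] at e1 e2
    have hs : s = 0 := eq_zero_of_pw_eq_one (F.exp _) F.l_ne (by
      rw [← hq1, hq, e1, e2, pw_zero, pw_zero, one_mul, one_mul])
    exact toAdd_eq_zero.1 (Prod.ext hi (Prod.ext e1 (Prod.ext e2 hs)))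
  have hcard := CfsgLib.StructC.SectionalFour.card_le_of_hom hsr ι
    (MonoidHom.id (Multiplicative (ZMod p × ZMod p × ZMod p × ZMod p))) Function.surjective_id
    (by rw [(MonoidHom.ker_eq_bot_iff _).2 hinj]; exact bot_le) mul_comm fun w =>
      Multiplicative.toAdd.injective (by rw [toAdd_pow, toAdd_one]; ext <;> simp)
  rw [Nat.card_congr Multiplicative.toAdd, Nat.card_prod, Nat.card_prod, Nat.card_prod,
    Nat.card_zmod, show p * (p * (p * p)) = p ^ 4 by ring] at hcard
  exact absurd hcard (not_le.2 (Nat.pow_lt_pow_right hp.out.one_lt (by norm_num)))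

end CfsgLib.RankThree
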