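import Cfsg.Agent.Lib.RankThree.Top
import Cfsg.Agent.Lib.RankThree.FrameBuild
import Cfsg.Agent.Lib.RankThree.Outer

/-!
Essential subgroups needing three generators are normal in `p`-groups of sectional rank three.
-/

set_option autoImplicit false
set_option linter.style.haveILetI false
set_option linter.unusedSectionVars false

namespace CfsgLib.RankThree.Main

open Cfsg Cfsg.FusionSystem Subgroup CfsgLib.Fusion CfsgLib.RankThree.Top
open scoped commutatorElement

theorem exists_bar {N : Type*} [Group N] {Q : Type*} [Group Q] (q : N →* Q)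
    (hq : Function.Surjective q) (hinv : ∀ σ : MulAut N, ∀ n, q n = 1 → q (σ n) = 1) :
    ∃ bar : MulAut N →* MulAut Q, ∀ σ n, bar σ (q n) = q (σ n) := by
  choose g hg using hq
  have hwd : ∀ (σ : MulAut N) {n m : N}, q n = q m → q (σ n) = q (σ m) := fun σ n m h => by
    have h1 := hinv σ (n⁻¹ * m) (by rw [map_mul, map_inv, h, inv_mul_cancel])
    rwa [map_mul σ, map_inv σ, map_mul, map_inv, inv_mul_eq_one] at h1
  let bar : MulAut N → MulAut Q := fun σ =>
    { toFun := fun r => q (σ (g r))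
      invFun := fun r => q (σ⁻¹ (g r))
      left_inv := fun r => by
        show q (σ⁻¹ (g (q (σ (g r))))) = r
        rw [hwd σ⁻¹ (hg _), MulAut.inv_apply_self, hg]
      right_inv := fun r => by
        show q (σ (g (q (σ⁻¹ (g r))))) = r
        rw [hwd σ (hg _), MulAut.apply_inv_self, hg]
      map_mul' := fun r s => by
        rw [← map_mul, ← map_mul]
        exact hwd σ (by rw [map_mul, hg, hg, hg]) }
  refine ⟨{ toFun := bar, map_one' := MulEquiv.ext fun r => hg r,
            map_mul' := fun σ τ => MulEquiv.ext fun r => ?_ }, fun σ n => hwd σ (hg _)⟩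
  show q ((σ * τ) (g r)) = q (σ (g (q (τ (g r)))))
  rw [MulAut.mul_apply]
  exact (hwd σ (hg _)).symm

theorem map_frattini {A B : Type*} [Group A] [Group B] (f : A ≃* B) :
    (frattini A).map f.toMonoidHom = frattini B := by
  refine le_antisymm ?_ ?_
  · rw [Subgroup.map_le_iff_le_comap]
    exact frattini_le_comap_frattini_of_surjective f.surjective
  · intro b hb
    have h1 : f.symm b ∈ frattini A :=
      frattini_le_comap_frattini_of_surjective (φ := f.symm.toMonoidHom) f.symm.surjective hb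
    exact ⟨_, h1, f.apply_symm_apply b⟩

variable {Ω : Type*} [Group Ω] {S : Subgroup Ω} [Finite S] {F : FusionSystem S} {p : ℕ}
  [hp : Fact p.Prime] {E : Subgroup Ω}

theorem false_of_trans (hS : IsPGroup p S) (hp5 : 5 ≤ p) (hsr : Cfsg.SectionalPRankLE p 3 S)
    (hF : F.IsSaturated p) (hE : F.IsEssential p E)
    (hNn : F.IsFullyNormalized (normalizerIn S E)) (hlt : normalizerIn S E < S)
    {θ : MulAut (normalizerIn S E)} {x e u : normalizerIn S E} {a a' : ℕ}
    (h : TransData p (inN S E) (phiN S E) θ x e u a a')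
    (hθ : θ ∈ F.autGroup (normalizerIn S E)) (ha3 : (a : ZMod p) ^ 3 ≠ 1)
    (ha5 : (a : ZMod p) ^ 5 ≠ 1) : False := by
  classical
  have hES := hE.1.1
  have hNS : normalizerIn S E ≤ S := inf_le_left
  haveI := finite_of_le hES
  haveI := finite_normalizerIn (S := S) (P := E)
  haveI := finite_normalizerIn (S := S) (P := normalizerIn S E)
  set GΩ := normalizerIn S (normalizerIn S E) with hG
  have hNG : (normalizerIn S E) ≤ GΩ := le_normalizerIn hNS
  have hNp : IsPGroup p (normalizerIn S E) := hS.to_le hNS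
  have hGS : GΩ ≤ S := inf_le_left
  have hGp : IsPGroup p GΩ := hS.to_le hGS
  have hinvD := h.invariant hNp hp5 (sectional_of hsr (Subgroup.inclusion hNS)
    (Subgroup.inclusion_injective hNS) (MonoidHom.id (normalizerIn S E)) Function.surjective_id)
  -- conjugation of `(normalizerIn S E)` by its normalizer
  let cjN : GΩ →* MulAut (normalizerIn S E) := act S (normalizerIn S E)
  -- the Frattini subgroup of `E` in `GΩ`
  let ι : (normalizerIn S E) →* GΩ := Subgroup.inclusion hNG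
  set DG : Subgroup GΩ := (phiN S E).map ι with hDG
  haveI hDGn : DG.Normal := ⟨by
    rintro _ ⟨d, hd, rfl⟩ g
    exact ⟨cjN g d, hinvD (cjN g) d hd, Subtype.ext rfl⟩⟩
  set π := QuotientGroup.mk' DG with hπ
  set Nbar : Subgroup (GΩ ⧸ DG) := ι.range.map π with hNbar
  haveI : ι.range.Normal := ⟨by
    rintro _ ⟨n, rfl⟩ g
    exact ⟨cjN g n, Subtype.ext rfl⟩⟩
  haveI : Nbar.Normal := Subgroup.Normal.map inferInstance _ (QuotientGroup.mk'_surjective _)
  let q : (normalizerIn S E) →* Nbar := (π.comp ι).codRestrict Nbar fun n => mem_map_of_mem π ⟨n, rfl⟩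
  have hq : Function.Surjective q := by
    rintro ⟨_, _, ⟨n, rfl⟩, rfl⟩
    exact ⟨n, Subtype.ext rfl⟩
  have hqk : ∀ n, q n = 1 ↔ n ∈ phiN S E := fun n => by
    rw [Subtype.ext_iff]
    show π (ι n) = 1 ↔ _
    rw [hπ, QuotientGroup.mk'_apply, QuotientGroup.eq_one_iff, hDG,
      Subgroup.mem_map_iff_mem (Subgroup.inclusion_injective hNG)]
  obtain ⟨bar, hbar⟩ := exists_bar q hq fun σ n hn => (hqk _).2 (hinvD σ n ((hqk n).1 hn))
  have hconj : ∀ g : GΩ, bar (cjN g) = MulAut.conjNormal (π g) := fun g => MulEquiv.ext fun r => by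
    obtain ⟨n, rfl⟩ := hq r
    rw [hbar]
    refine Subtype.ext ?_
    rw [MulAut.conjNormal_apply]
    show π (ι (cjN g n)) = π g * π (ι n) * (π g)⁻¹
    rw [← map_inv, ← map_mul, ← map_mul]
    rfl
  have hGbar : IsPGroup p (GΩ ⧸ DG) := hGp.to_quotient DG
  -- the frame
  obtain ⟨F0, hx0, he0, hu0, hl0, hcx0⟩ := h.exists_frame hp5 q hq hqk
  have hqpow : ∀ (n : (normalizerIn S E)) (k : ℕ), q (n ^ k) = pw (q n) (k : ZMod p) := fun n k => by
    rw [map_pow, pw_natCast (F0.exp _)]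
  have hcoe : ∀ {n m : (normalizerIn S E)} {k : ℕ}, (m ^ k)⁻¹ * θ n ∈ phiN S E →
      bar θ (q n) = pw (q m) (k : ZMod p) := fun {n m k} hh => by
    have h1 := (hqk _).2 hh
    rw [map_mul, map_inv, inv_mul_eq_one] at h1
    rw [hbar, ← h1, hqpow]
  have hbx : F0.cx (bar θ F0.x) = (a : ZMod p) * a := by
    have h1 := (hcx0 _).2 h.θx
    rw [map_mul, F0.cx_mul, map_inv, QFrame.add_inv F0.cx_mul, hqpow, F0.cx_pw, ← hx0, F0.cx_x,
      mul_one, neg_add_eq_zero] at h1
    rw [hx0, hbar, ← h1]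
    push_cast
    ring
  have hbe : bar θ F0.e = pw F0.e (a' : ZMod p) := by rw [he0]; exact hcoe h.θe
  have hbu : bar θ F0.u = F0.u := by
    have h1 := hcoe (n := u) (m := u) (k := 1) (by rw [pow_one]; exact h.θu)
    rw [hu0, h1, Nat.cast_one, pw_one]
  have hbl : bar θ F0.l = pw F0.l (a : ZMod p) := by rw [hl0]; exact hcoe h.θl
  obtain ⟨F1, hF1e, hF1u, hF1l, hF1cx, hF1x⟩ :=
    F0.exists_eigen (bar θ) h.haa h.ha1 ha3 hbx hbe hbu hbl
  rw [← hF1e] at hbe
  rw [← hF1u] at hbu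
  rw [← hF1l] at hbl
  -- an element moving `E`
  obtain ⟨y, hy, hyN⟩ := SetLike.exists_of_lt (lt_normalizerIn hS hlt)
  set c : MulAut Nbar := MulAut.conjNormal (π ⟨y, hy⟩) with hc
  obtain ⟨v, hv, hyv⟩ : ∃ v ∈ E, y * v * y⁻¹ ∉ E := by
    by_contra hcon
    push Not at hcon
    refine hyN ⟨hy.1, ?_⟩
    haveI : Finite (E : Set Ω) := inferInstanceAs (Finite E)
    exact Subgroup.mem_normalizer_fintype hcon
  set vN : (normalizerIn S E) := ⟨v, le_normalizerIn hES hv⟩ with hvN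
  have hcv : F1.cx (c (q vN)) ≠ 0 := by
    rw [hF1cx, hc, ← hconj, hbar]
    exact fun h0 => hyv ((hcx0 _).1 h0)
  have hce : F1.cx (c F1.e) ≠ 0 := by
    intro h0
    apply hcv
    rw [F1.linear_x c, h0, mul_zero, add_zero,
      show F1.cx (q vN) = 0 by rw [hF1cx]; exact (hcx0 _).2 hv, zero_mul]
  -- a line fixed by the normalizer
  set Z : Subgroup (GΩ ⧸ DG) := (Subgroup.center Nbar).map Nbar.subtype with hZ
  haveI : Z.Normal := ⟨by
    rintro _ ⟨z, hz, rfl⟩ g
    refine ⟨MulAut.conjNormal g z, ?_, MulAut.conjNormal_apply g z⟩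
    have h1 := mem_map_of_mem (MulAut.conjNormal g : MulAut Nbar).toMonoidHom hz
    rwa [Subgroup.characteristic_iff_map_eq.1 inferInstance] at h1⟩
  have hZlt : Z < Nbar := lt_of_le_of_ne (map_subtype_le _) fun he' => F1.l_ne (by
    have h1 : (F1.x : GΩ ⧸ DG) ∈ Z := by rw [he']; exact F1.x.2
    obtain ⟨z, hz, hzx⟩ := h1
    rw [← F1.comm, ← Subtype.ext hzx, commutatorElement_eq_one_iff_commute]
    exact (Subgroup.mem_center_iff.1 hz F1.e).symm)
  obtain ⟨n0, hn0, hn0Z, hn0c⟩ := CfsgLib.OddLocal.exists_central_mod hGbar Z Nbar hZlt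
  set n : Nbar := ⟨n0, hn0⟩ with hn
  have hfix : ∀ g, F1.cx (MulAut.conjNormal g n) = F1.cx n ∧
      F1.ce (MulAut.conjNormal g n) = F1.ce n := by
    intro g
    obtain ⟨z, hz, hzn⟩ := hn0c g
    have h1 : MulAut.conjNormal g n = z * n := Subtype.ext (by
      rw [MulAut.conjNormal_apply, Subgroup.coe_mul]
      show g * n0 * g⁻¹ = (z : GΩ ⧸ DG) * n0
      rw [show (z : GΩ ⧸ DG) = g * n0 * g⁻¹ * n0⁻¹ from hzn, inv_mul_cancel_right])
    obtain ⟨hz1, hz2⟩ := F1.coord_of_central (q := z)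
      (Subgroup.mem_center_iff.1 hz _).symm (Subgroup.mem_center_iff.1 hz _).symm
    rw [h1, F1.cx_mul, F1.ce_mul, hz1, hz2, zero_add, zero_add]
    exact ⟨rfl, rfl⟩
  have hn1 : F1.cx n ≠ 0 := by
    intro h0
    have h1 := F1.linear_x c n
    rw [(hfix _).1, h0, zero_mul, zero_add] at h1
    obtain ⟨k, m, hkm⟩ := F1.central_of_coord h0 ((mul_eq_zero.1 h1.symm).resolve_right hce)
    exact hn0Z ⟨n, Subgroup.mem_center_iff.2 fun r => (hkm ▸ F1.commute_ul k m r).eq.symm, rfl⟩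
  -- the new frame
  obtain ⟨α, hα, s, hs1, hs2⟩ : ∃ α ∈ (F.autGroup (normalizerIn S E)).map bar, ∃ s : ZMod p,
      F1.cx (α F1.x) = s * F1.cx n ∧ F1.ce (α F1.x) = s * F1.ce n := by
    by_cases hn2 : F1.ce n = 0
    · refine ⟨1, one_mem _, (F1.cx n)⁻¹, ?_, ?_⟩
      · rw [MulAut.one_apply, F1.cx_x, inv_mul_cancel₀ hn1]
      · rw [MulAut.one_apply, F1.ce_x, hn2, mul_zero]
    have hinv : ∀ r, F1.ce n * F1.cx (c r) - F1.cx n * F1.ce (c r) =
        F1.ce n * F1.cx r - F1.cx n * F1.ce r := by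
      have hlx := F1.linear_x c n
      have hly := F1.linear_e c n
      rw [(hfix _).1] at hlx
      rw [(hfix _).2] at hly
      set φ : Nbar → ZMod p := fun r => F1.ce n * F1.cx r - F1.cx n * F1.ce r with hφ
      set lam := -(F1.ce n * F1.cx (c F1.e) - F1.cx n * F1.ce (c F1.e)) / F1.cx n with hlam
      have hlam' : lam * F1.cx n =
          -(F1.ce n * F1.cx (c F1.e) - F1.cx n * F1.ce (c F1.e)) := div_mul_cancel₀ _ hn1
      have hstep : ∀ r, φ (c r) = lam * φ r := fun r => by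
        simp only [hφ]
        rw [F1.linear_x c r, F1.linear_e c r]
        refine mul_left_cancel₀ hn1 ?_
        linear_combination (F1.cx n * F1.ce r - F1.ce n * F1.cx r) * hlam' -
          F1.cx r * F1.ce n * hlx + F1.cx r * F1.cx n * hly
      obtain ⟨k, hk⟩ := hGbar (π ⟨y, hy⟩)
      have hit : ∀ (j : ℕ) r, φ ((c ^ j) r) = lam ^ j * φ r := fun j => by
        induction j with
        | zero => intro r; simp
        | succ j ih => intro r; rw [pow_succ, MulAut.mul_apply, ih, hstep, pow_succ, mul_assoc]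
      have h1 := hit (p ^ k) F1.e
      rw [hc, ← map_pow, hk, map_one, MulAut.one_apply, ZMod.pow_card_pow] at h1
      have hlam1 : lam = 1 := by
        refine mul_right_cancel₀ (b := φ F1.e) ?_ (by rw [one_mul]; exact h1.symm)
        simp only [hφ, F1.cx_e, F1.ce_e, mul_zero, mul_one, zero_sub]
        exact neg_ne_zero.2 hn1
      intro r
      have h2 := hstep r
      rwa [hlam1, one_mul] at h2
    obtain ⟨α, hα, hs⟩ := F1.exists_twist h.haa ha3 hF1x hbe hn2 (hfix _).1 (hfix _).2 hinv hce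
    refine ⟨α, (Subgroup.closure_le _).2 ?_ hα, hs⟩
    rintro β (hβ | hβ)
    · rw [hβ]; exact mem_map_of_mem bar hθ
    · rw [Set.mem_singleton_iff.1 hβ, ← hconj]
      exact mem_map_of_mem bar (autInducedBy_le_autGroup hNS
        (mem_autInducedBy_iff.2 ⟨y, hy.1, fun r => rfl⟩))
  obtain ⟨α0, hα0, hbα⟩ := hα
  set θ1 := α0 * θ * α0⁻¹ with hθ1
  have hθ1mem : θ1 ∈ F.autGroup (normalizerIn S E) := mul_mem (mul_mem hα0 hθ) (inv_mem hα0)
  set F2 := F1.map α with hF2
  have hb1 : ∀ r, bar θ1 (α r) = α (bar θ r) := fun r => by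
    rw [hθ1, map_mul, map_mul, map_inv, hbα, MulAut.mul_apply, MulAut.mul_apply,
      MulAut.inv_apply_self]
  have h2x : bar θ1 F2.x = pw F2.x ((a : ZMod p) * (a : ZMod p)) := by
    show bar θ1 (α F1.x) = pw (α F1.x) _
    rw [hb1, hF1x, map_pw]
  have h2e : bar θ1 F2.e = pw F2.e (a' : ZMod p) := by
    show bar θ1 (α F1.e) = pw (α F1.e) _
    rw [hb1, hbe, map_pw]
  have h2u : bar θ1 F2.u = F2.u := by
    show bar θ1 (α F1.u) = α F1.u
    rw [hb1, hbu]
  have h2l : bar θ1 F2.l = pw F2.l (a : ZMod p) := by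
    show bar θ1 (α F1.l) = pw (α F1.l) _
    rw [hb1, hbl, map_pw]
  have hsame : ∀ g, F1.cx (MulAut.conjNormal g (α F1.x)) = F1.cx (α F1.x) ∧
      F1.ce (MulAut.conjNormal g (α F1.x)) = F1.ce (α F1.x) := by
    intro g
    have h1 := F1.linear_x (MulAut.conjNormal g) n
    have h2 := F1.linear_e (MulAut.conjNormal g) n
    rw [(hfix g).1] at h1
    rw [(hfix g).2] at h2
    rw [F1.linear_x (MulAut.conjNormal g) (α F1.x), F1.linear_e (MulAut.conjNormal g) (α F1.x),
      hs1, hs2]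
    constructor
    · linear_combination -s * h1
    · linear_combination -s * h2
  have hL2 : ∀ g, F2.ce (MulAut.conjNormal g F2.x) = 0 := by
    intro g
    show F1.ce (α.symm (MulAut.conjNormal g (α F1.x))) = 0
    rw [F1.linear_e α.symm, (hsame g).1, (hsame g).2, ← F1.linear_e α.symm, α.symm_apply_apply,
      F1.ce_x]
  have hy2 : F2.cx (c F2.e) ≠ 0 := by
    intro h0
    obtain ⟨α', β, γ, δ, ε, hA, -⟩ := exists_act (F := F2) hGbar (π ⟨y, hy⟩) (hL2 _)
    obtain ⟨η, hη⟩ := hA.he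
    have hxx : F2.cx (c F2.x) = 1 := by
      rw [hc, hA.hx]
      simp [F2.cx_mul, F2.cx_pw, F2.cx_x, F2.cx_u, QFrame.cx_l]
    have hee : F2.ce (c F2.e) = 1 := by
      rw [hc, hη]
      simp [F2.ce_mul, F2.ce_pw, F2.ce_x, F2.ce_e, F2.ce_u, QFrame.ce_l]
    have hpair : ∀ r, F2.cx (c r) = F2.cx r ∧ F2.ce (c r) = F2.ce r := fun r => by
      rw [F2.linear_x c r, F2.linear_e c r, hxx, h0, hL2, hee]
      constructor <;> ring
    refine hce ?_
    have e1 : F1.cx (c F1.e) = F2.cx (c F1.e) * F1.cx (α F1.x) + F2.ce (c F1.e) * F1.cx (α F1.e) := by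
      have h1 := F1.linear_x α (α.symm (c F1.e))
      rwa [α.apply_symm_apply] at h1
    rw [e1, (hpair _).1, (hpair _).2]
    have h1 := F1.linear_x α (α.symm F1.e)
    rw [α.apply_symm_apply, F1.cx_e] at h1
    exact h1.symm
  -- the induced automorphisms form the unipotent group
  haveI : Finite (MulAut (normalizerIn S E)) := Finite.of_injective (fun e => (e : (normalizerIn S E) → (normalizerIn S E))) DFunLike.coe_injective
  let M : Submonoid (MulAut (normalizerIn S E)) :=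
    { carrier := {β | β ∈ F.autGroup (normalizerIn S E) ∧ F2.Uni (bar β)}
      one_mem' := ⟨one_mem _, by rw [map_one]; exact QFrame.Uni.one⟩
      mul_mem' := fun {β γ} hβ hγ => ⟨mul_mem hβ.1 hγ.1, by rw [map_mul]; exact hβ.2.mul hγ.2⟩ }
  let R : Subgroup (MulAut (normalizerIn S E)) :=
    { M with
      inv_mem' := fun {β} hβ => by
        have h1 : β⁻¹ = β ^ (orderOf β - 1) := by
          refine inv_eq_of_mul_eq_one_right ?_
          rw [← pow_succ', Nat.sub_add_cancel (orderOf_pos β), pow_orderOf_eq_one]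
        rw [h1]
        exact M.pow_mem hβ _ }
  have hR : ∀ {β}, β ∈ R ↔ β ∈ F.autGroup (normalizerIn S E) ∧ F2.Uni (bar β) := Iff.rfl
  have hDfr : phiN S E ≤ frattini (normalizerIn S E) := phiN_minimal hS hES _ inferInstance
    (fun b _ d _ => commutator_mem_frattini hNp b d)
    (fun b _ => CfsgLib.StructC.pow_mem_frattini hNp b)
  have hRp : IsPGroup p R := by
    rintro ⟨β, hβ⟩
    have h1 : β ^ p ∈ CfsgLib.Invol.FrattiniKernel.frattiniKer (normalizerIn S E) := by
      intro w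
      obtain ⟨m, hm⟩ := (hR.1 hβ).2.pow_prime (by omega) (q w)
      rw [← map_pow, hbar, ← map_inv, ← map_mul] at hm
      obtain ⟨nx, hnx⟩ := hq F2.x
      obtain ⟨ne, hne⟩ := hq F2.e
      have h2 : q (⁅nx, ne⁆ ^ m.val) = pw F2.l m := by
        rw [map_pow, map_commutatorElement, hnx, hne, F2.comm]; rfl
      rw [← h2] at hm
      have h3 : (⁅nx, ne⁆ ^ m.val)⁻¹ * (w⁻¹ * (β ^ p) w) ∈ phiN S E := (hqk _).1 (by
        rw [map_mul, map_inv, hm, inv_mul_cancel])
      have h4 := mul_mem (Subgroup.pow_mem _ (commutator_mem_frattini hNp nx ne) m.val) (hDfr h3)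
      rwa [mul_inv_cancel_left] at h4
    obtain ⟨k, hk⟩ := CfsgLib.Invol.FrattiniKernel.isPGroup_frattiniKer hNp ⟨_, h1⟩
    refine ⟨k + 1, Subtype.ext ?_⟩
    show β ^ p ^ (k + 1) = 1
    rw [pow_succ', pow_mul]
    exact congrArg Subtype.val hk
  have hUni : ∀ g, F2.Uni (MulAut.conjNormal g) := by
    intro g
    obtain ⟨α', β, γ, δ, ε, hA, -⟩ := exists_act (F := F2) hGbar g (hL2 g)
    obtain ⟨η, hη⟩ := hA.he
    refine ⟨?_, hL2 g, ?_, ?_, ?_, ?_⟩
    · rw [hA.hx]; simp [F2.cx_mul, F2.cx_pw, F2.cx_x, F2.cx_u, QFrame.cx_l]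
    · rw [hη]; simp [F2.ce_mul, F2.ce_pw, F2.ce_x, F2.ce_e, F2.ce_u, QFrame.ce_l]
    · rw [hA.hu]; simp [F2.cx_mul, F2.cx_pw, F2.cx_u, QFrame.cx_l]
    · rw [hA.hu]; simp [F2.ce_mul, F2.ce_pw, F2.ce_u, QFrame.ce_l]
    · rw [hA.hu]; simp [F2.cu_mul, F2.cu_pw, F2.cu_u, QFrame.cu_l]
  have hind : autInducedBy S (normalizerIn S E) ≤ R := by
    intro β hβ
    obtain ⟨g, hg, hgx⟩ := mem_autInducedBy_iff.1 hβ
    refine hR.2 ⟨autInducedBy_le_autGroup hNS hβ, ?_⟩
    have hgG : g ∈ GΩ := ⟨hg, mem_normalizer_of_aut hgx⟩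
    rw [show β = cjN ⟨g, hgG⟩ from MulEquiv.ext fun r => Subtype.ext (hgx r), hconj]
    exact hUni _
  have hRind : autInducedBy S (normalizerIn S E) = R := by
    obtain ⟨b, -, hb⟩ := exists_conj_le_autInducedBy
      (fullyAutomized_of_fullyNormalized hS hF hNn) R hRp fun β hβ => (hR.1 hβ).1
    refine Subgroup.eq_of_le_of_card_ge hind ?_
    rw [← Subgroup.card_map_of_injective (K := R) (f := (MulAut.conj b).toMonoidHom)
      (MulAut.conj b).injective]
    refine Subgroup.card_le_of_le ?_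
    rintro _ ⟨β, hβ, rfl⟩
    exact hb β hβ
  -- extend the torus to the normalizer
  obtain ⟨ψ, hψ, hψN⟩ := receptive_extend (receptive_of_fullyNormalized hS hF hNn)
    (isMap_of_autGroup hNS hθ1mem) (img_toFun_aut θ1) (R := GΩ) hNG fun g hg => by
      refine ⟨hg.1, hg.2, ?_⟩
      have h1 : θ1 * cjN ⟨g, hg⟩ * θ1⁻¹ ∈ R := by
        refine hR.2 ⟨mul_mem (mul_mem hθ1mem (autInducedBy_le_autGroup hNS
          (mem_autInducedBy_iff.2 ⟨g, hg.1, fun r => rfl⟩))) (inv_mem hθ1mem), ?_⟩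
        rw [map_mul, map_mul, map_inv, hconj]
        exact (hUni _).conj h.haa h2x h2e h2u
      rw [← hRind] at h1
      obtain ⟨b, hb, hbx⟩ := mem_autInducedBy_iff.1 h1
      refine ⟨b, hb, fun w hw => ?_⟩
      have h2 := hbx (θ1 ⟨w, hw⟩)
      rw [MulAut.mul_apply, MulAut.mul_apply, MulAut.inv_apply_self] at h2
      rw [toFun_aut_apply θ1 hw, toFun_aut_apply θ1 ((hg.2 w).1 hw)]
      exact h2
  have hψimg : img (normalizerIn S E) ψ = (normalizerIn S E) := (img_congr hψN).trans (img_toFun_aut θ1)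
  have himgG : img GΩ ψ = GΩ := CfsgLib.Fusion.eq_of_le_of_card_le (fun z hz => by
      obtain ⟨g, hg, rfl⟩ := hψ.mem_img.1 hz
      have h1 := hψ.apply_mem_normalizerIn hNG hg hg.2
      rwa [hψimg] at h1) hψ.card_img.ge
  set Θ := hψ.toAut himgG with hΘ
  have hΘι : ∀ w : (normalizerIn S E), Θ (ι w) = ι (θ1 w) := fun w => Subtype.ext (by
    rw [hψ.toAut_apply himgG]
    show ψ (w : Ω) = _
    rw [hψN _ w.2, toFun_aut_apply θ1 w.2]
    rfl)
  have hmapD : DG.map Θ.toMonoidHom = DG := by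
    refine Subgroup.eq_of_le_of_card_ge ?_ (card_map_of_injective Θ.injective).ge
    rintro _ ⟨_, ⟨d, hd, rfl⟩, rfl⟩
    exact ⟨θ1 d, hinvD θ1 d hd, (hΘι d).symm⟩
  set Θbar : MulAut (GΩ ⧸ DG) := QuotientGroup.congr DG DG Θ hmapD with hΘbar
  have hΘq : ∀ r : Nbar, ((bar θ1 r : Nbar) : GΩ ⧸ DG) = Θbar r := fun r => by
    obtain ⟨w, rfl⟩ := hq r
    rw [hbar]
    show π (ι (θ1 w)) = Θbar (π (ι w))
    rw [← hΘι]
    rfl
  refine no_outer hGbar (sectional_of hsr (Subgroup.inclusion hGS)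
    (Subgroup.inclusion_injective hGS) π (QuotientGroup.mk'_surjective _)) F2 Θbar (bar θ1) hΘq
    h.haa h.ha1 ha3 ha5 h2x h2e h2u h2l (π ⟨y, hy⟩) hy2 hL2 fun gb hgb => ?_
  obtain ⟨⟨g, hg⟩, rfl⟩ := QuotientGroup.mk'_surjective DG gb
  haveI : Finite (E : Set Ω) := inferInstanceAs (Finite E)
  have hgE : g ∈ (normalizerIn S E) := by
    refine ⟨hg.1, Subgroup.mem_normalizer_fintype fun w hw => ?_⟩
    set wN : (normalizerIn S E) := ⟨w, le_normalizerIn hES hw⟩ with hwN
    have h1 := hgb _ (q wN).2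
    have h2 : q (wN⁻¹ * cjN ⟨g, hg⟩ wN) = 1 := by
      rw [map_mul, map_inv, ← hbar, hconj, inv_mul_eq_one]
      refine (Subtype.ext ?_).symm
      rw [MulAut.conjNormal_apply, h1, mul_inv_cancel_right]
    obtain ⟨h3, -⟩ := mem_phiN.1 ((hqk _).1 h2)
    have h4 := E.mul_mem hw h3
    show g * w * g⁻¹ ∈ E
    rw [Subgroup.coe_mul, Subgroup.coe_inv] at h4
    change w * (w⁻¹ * (g * w * g⁻¹)) ∈ E at h4
    rwa [mul_inv_cancel_left] at h4
  exact ⟨ι ⟨g, hgE⟩, ⟨_, rfl⟩, rfl⟩

theorem false_of_regular (hS : IsPGroup p S) (hp5 : 5 ≤ p) (hsr : Cfsg.SectionalPRankLE p 3 S)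
    (hF : F.IsSaturated p) (hE : F.IsEssential p E) (hidx : (frattini E).index = p ^ 3)
    (hlt : normalizerIn S E < S) (h : Regular.Special p (inN S E) (phiN S E)) : False := by
  classical
  have hES := hE.1.1
  have hNS : normalizerIn S E ≤ S := inf_le_left
  haveI := finite_of_le hES
  haveI := finite_normalizerIn (S := S) (P := E)
  set N := normalizerIn S E
  obtain ⟨y, hy, hyN⟩ := SetLike.exists_of_lt (lt_normalizerIn hS hlt)
  haveI : Finite (E : Set Ω) := inferInstanceAs (Finite E)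
  let σ : MulAut N := act S N ⟨y, hy⟩
  have hmove : ∀ (g : Ω) (hg : g ∈ normalizerIn S N),
      (inN S E).map (act S N ⟨g, hg⟩).toMonoidHom = inN S E → g ∈ N := by
    intro g hg he
    refine ⟨hg.1, Subgroup.mem_normalizer_fintype fun w hw => ?_⟩
    have h1 : act S N ⟨g, hg⟩ ⟨w, le_normalizerIn hES hw⟩ ∈ inN S E :=
      he ▸ mem_map_of_mem _ (show (⟨w, le_normalizerIn hES hw⟩ : N) ∈ inN S E from hw)
    exact h1
  have h1 : inN S E ≠ (inN S E).map σ.toMonoidHom := fun he => hyN (hmove y hy he.symm)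
  have hy2 : y * y ∈ normalizerIn S N := mul_mem hy hy
  have hσσ : (σ * σ) = act S N ⟨y * y, hy2⟩ := (map_mul (act S N) ⟨y, hy⟩ ⟨y, hy⟩).symm
  have h2 : inN S E ≠ (inN S E).map (σ * σ).toMonoidHom := by
    intro he
    rw [hσσ] at he
    have h3 := hmove _ hy2 he.symm
    obtain ⟨k, hk⟩ := hS ⟨y, hy.1⟩
    have hk' : y ^ p ^ k = 1 := congrArg Subtype.val hk
    obtain ⟨m, hm⟩ : Odd (p ^ k) := (hp.out.odd_of_ne_two (by omega)).pow
    refine hyN ?_
    have e1 : y = (y * y) ^ (m + 1) := by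
      rw [← pow_two, ← pow_mul, show 2 * (m + 1) = (2 * m + 1) + 1 by ring, pow_succ, ← hm, hk',
        one_mul]
    rw [e1]
    exact Subgroup.pow_mem _ h3 _
  have h3 : (inN S E).map σ.toMonoidHom ≠ (inN S E).map (σ * σ).toMonoidHom := by
    intro he
    apply h1
    have e1 : (inN S E).map (σ * σ).toMonoidHom =
        ((inN S E).map σ.toMonoidHom).map σ.toMonoidHom := by
      rw [Subgroup.map_map]; rfl
    rw [e1] at he
    exact (Subgroup.map_injective σ.injective he.symm).symm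
  obtain ⟨x, -, e, he, hd, hcen, hline⟩ := Regular.shape (hS.to_le hNS) hp5
    (sectional_of hsr (Subgroup.inclusion hNS) (Subgroup.inclusion_injective hNS)
      (MonoidHom.id N) Function.surjective_id) h (h.map σ) (h.map (σ * σ)) h1 h2 h3
  exact false_of_center_line hS hF hE hidx (by omega) he hd hcen hline

/-- The main theorem. -/
theorem normal_of_index (hS : IsPGroup p S) (hp5 : 5 ≤ p) (hsr : Cfsg.SectionalPRankLE p 3 S)
    (hF : F.IsSaturated p) (hE : F.IsEssential p E) (hidx : (frattini E).index = p ^ 3) :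
    S ≤ Subgroup.normalizer (E : Set Ω) := by
  classical
  by_contra hnot
  have hES := hE.1.1
  haveI := finite_of_le hES
  set N := normalizerIn S E with hN
  have hNS : N ≤ S := inf_le_left
  haveI := finite_of_le hNS
  obtain ⟨N', hconj, hfn⟩ := exists_fullyNormalized_conj F hNS
  obtain ⟨ψ, hψ, hψN, -⟩ := exists_map_normalizerIn_of_fullyNormalized hS hF hfn hconj
  have hψN' : IsMap F N ψ := hψ.mono (le_normalizerIn hNS)
  have hf : IsMap F E ψ := hψN'.mono (le_normalizerIn hES)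
  set E' := img E ψ
  have hle : N' ≤ normalizerIn S E' := by
    rw [← hψN]
    intro z hz
    obtain ⟨g, hg, rfl⟩ := hψN'.mem_img.1 hz
    exact hψN'.apply_mem_normalizerIn (le_normalizerIn hES) hg hg.2
  haveI := finite_normalizerIn (S := S) (P := E')
  have hcard : Nat.card N' = Nat.card N := by rw [← hψN]; exact hψN'.card_img
  have heq : N' = normalizerIn S E' := CfsgLib.Fusion.eq_of_le_of_card_le hle
    ((hE.2.1.2 E' hf.isConj).trans hcard.ge)
  have hfn' : F.IsFullyNormalized E' := ⟨hf.img_le, fun R hR => by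
    rw [← heq, hcard]
    exact hE.2.1.2 R (isConj_trans hf.isConj hR)⟩
  have hE' := Top.essential_img hS hF hE hf hfn'
  have hidx' : (frattini E').index = p ^ 3 := by
    rw [← hidx]
    have h1 : (frattini E).map hf.equivImg.toMonoidHom = frattini E' :=
      CfsgLib.RankThree.Main.map_frattini hf.equivImg
    rw [← h1]
    exact Subgroup.index_map_of_bijective (f := hf.equivImg.toMonoidHom) hf.equivImg.bijective _
  have hlt : normalizerIn S E' < S := by
    refine lt_of_le_of_ne inf_le_left fun he => hnot ?_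
    have h1 : N = S := CfsgLib.Fusion.eq_of_le_of_card_le hNS (by rw [← hcard, heq, he])
    rw [← h1]
    exact inf_le_right
  have hfnN : F.IsFullyNormalized (normalizerIn S E') := heq ▸ hfn
  rcases Top.cases hS hF hE' hidx' hp5 with h | ⟨θ, x, e, u, a, a', h, hθ, ha3, ha5⟩
  · exact false_of_regular hS hp5 hsr hF hE' hidx' hlt h
  · exact false_of_trans hS hp5 hsr hF hE' hfnN hlt h hθ ha3 ha5

end CfsgLib.RankThree.Main
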