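import Cfsg.Agent.Lib.RankThree.Basic
import Cfsg.Agent.Lib.OddLocal.RankTwoSmall
import Cfsg.Agent.Lib.Coprime.BlackburnSplit

/-!
Groups with three maximal subgroups needing three generators, on each of which the outside acts by
a single block, in sectional rank three.
-/

set_option autoImplicit false
set_option linter.style.haveILetI false
set_option linter.unusedSectionVars false

namespace CfsgLib.RankThree.Regular

open Subgroup
open scoped commutatorElement

variable {N : Type*} [Group N] [Finite N] {p : ℕ} [hp : Fact p.Prime]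

/-- A maximal subgroup `E` with `E / D` elementary of order `p³`, on which the outside acts by a
single block. -/
structure Special (p : ℕ) (E D : Subgroup N) : Prop where
  index : E.index = p
  normal : E.Normal
  normalD : D.Normal
  le : D ≤ E
  le_frattini : D ≤ frattini N
  comm : ∀ a ∈ E, ∀ b ∈ E, ⁅a, b⁆ ∈ D
  pow : ∀ a ∈ E, a ^ p ∈ D
  relIndex : D.relIndex E = p ^ 3
  block : ∃ x : N, x ∉ E ∧ ∃ e ∈ E, ⁅⁅e, x⁆, x⁆ ∉ D

theorem Special.map {E D : Subgroup N} (h : Special p E D) (σ : MulAut N) :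
    Special p (E.map σ.toMonoidHom) (D.map σ.toMonoidHom) where
  index := by
    rw [Subgroup.index_map_of_bijective σ.bijective]
    exact h.index
  normal := h.normal.map _ σ.surjective
  normalD := h.normalD.map _ σ.surjective
  le := Subgroup.map_mono h.le
  le_frattini := (Subgroup.map_mono h.le_frattini).trans
    (Subgroup.characteristic_iff_map_le.1 inferInstance σ)
  comm := by
    rintro _ ⟨a, ha, rfl⟩ _ ⟨b, hb, rfl⟩
    exact ⟨_, h.comm a ha b hb, map_commutatorElement _ _ _⟩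
  pow := by
    rintro _ ⟨a, ha, rfl⟩
    exact ⟨_, h.pow a ha, map_pow _ _ _⟩
  relIndex := by rw [Subgroup.relIndex_map_map_of_injective _ _ σ.injective]; exact h.relIndex
  block := by
    obtain ⟨x, hx, e, he, hd⟩ := h.block
    refine ⟨σ x, fun h' => hx ((Subgroup.mem_map_iff_mem σ.injective).1 h'), σ e,
      mem_map_of_mem _ he, fun h' => hd ?_⟩
    rw [← map_commutatorElement, ← map_commutatorElement] at h'
    exact (Subgroup.mem_map_iff_mem σ.injective).1 h'

theorem Special.chain (hN : IsPGroup p N) {E D : Subgroup N} (h : Special p E D) :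
    ∃ A : Subgroup N, A.Normal ∧ D ≤ A ∧ A ≤ frattini N ∧ frattini N ≤ E ∧
      D.relIndex A = p ∧ A.relIndex (frattini N) = p ∧ (frattini N).relIndex E = p ∧
      (∀ g : N, ∀ a ∈ frattini N, ⁅g, a⁆ ∈ A) ∧ (∀ g : N, ∀ a ∈ A, ⁅g, a⁆ ∈ D) ∧
      ∀ x : N, x ∉ E → ∀ e ∈ E, e ∉ frattini N → ⁅⁅e, x⁆, x⁆ ∉ D := by
  haveI := h.normal
  haveI := h.normalD
  have hpp := hp.out
  have hlt : D < E := lt_of_le_of_ne h.le fun e => by
    have h1 := h.relIndex
    rw [e, Subgroup.relIndex_self] at h1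
    exact (Nat.one_lt_pow three_ne_zero hpp.one_lt).ne h1
  obtain ⟨B1, hB1, hDB1, hB1E, hi1, hc1, -⟩ := exists_chief_rel hN hlt
  have hm1 := Subgroup.relIndex_mul_relIndex D B1 E hDB1 hB1E
  rw [hi1, h.relIndex, pow_succ, Nat.mul_right_cancel_iff hpp.pos] at hm1
  have hlt1 : D < B1 := lt_of_le_of_ne hDB1 fun e => by
    rw [e, Subgroup.relIndex_self] at hm1
    exact (Nat.one_lt_pow two_ne_zero hpp.one_lt).ne hm1
  obtain ⟨B2, hB2, hDB2, hB21, hi2, hc2, -⟩ := exists_chief_rel hN hlt1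
  have hm2 := Subgroup.relIndex_mul_relIndex D B2 B1 hDB2 hB21
  rw [hi2, hm1, pow_two, Nat.mul_right_cancel_iff hpp.pos] at hm2
  have hlt2 : D < B2 := lt_of_le_of_ne hDB2 fun e => by
    rw [e, Subgroup.relIndex_self] at hm2
    exact hpp.one_lt.ne hm2
  obtain ⟨B3, hB3, hDB3, hB32, hi3, hc3, -⟩ := exists_chief_rel hN hlt2
  have hm3 := Subgroup.relIndex_mul_relIndex D B3 B2 hDB3 hB32
  rw [hi3, hm2, Nat.mul_eq_right hpp.ne_zero, Subgroup.relIndex_eq_one] at hm3
  have hc3' : ∀ g : N, ∀ a ∈ B2, ⁅g, a⁆ ∈ D := fun g a ha => hm3 (hc3 g a ha)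
  have hinv : ∀ {B : Subgroup N} {a b : N}, ⁅a, b⁆ ∈ B → ⁅b, a⁆ ∈ B := fun h' => by
    rw [← commutatorElement_inv]
    exact inv_mem h'
  obtain ⟨x0, hx0, e0, he0, hd0⟩ := h.block
  set c0 := ⁅e0, x0⁆ with hc0
  set d0 := ⁅c0, x0⁆ with hd0'
  have hc0B : c0 ∈ B1 := hinv (hc1 x0 e0 he0)
  have hd0B : d0 ∈ B2 := hinv (hc2 x0 c0 hc0B)
  have hc0n : c0 ∉ B2 := fun h' => hd0 (hinv (hc3' x0 c0 h'))
  have he0n : e0 ∉ B1 := fun h' => hc0n (hinv (hc2 x0 e0 h'))
  have hfr : ∀ a b : N, ⁅a, b⁆ ∈ frattini N := commutator_mem_frattini hN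
  have hB2M : B2 ≤ frattini N := fun b hb => by
    obtain ⟨i, -, d, hd, rfl⟩ := exists_pow_mul hm2 hd0B hd0 hb
    exact mul_mem (pow_mem (hfr _ _) i) (h.le_frattini hd)
  have hB1M : B1 ≤ frattini N := fun b hb => by
    obtain ⟨i, -, d, hd, rfl⟩ := exists_pow_mul hi2 hc0B hc0n hb
    exact mul_mem (pow_mem (hfr _ _) i) (hB2M hd)
  have hME : frattini N ≤ E := frattini_le_of_index h.index
  have htop : E.relIndex ⊤ = p := by rw [Subgroup.relIndex_top_right]; exact h.index
  have he0M : e0 ∉ frattini N := by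
    intro h'
    have hE : E ≤ frattini N := fun b hb => by
      obtain ⟨i, -, d, hd, rfl⟩ := exists_pow_mul hi1 he0 he0n hb
      exact mul_mem (pow_mem h' i) (hB1M hd)
    have h1 : zpowers x0 ⊔ frattini N = ⊤ := eq_top_iff.2 fun g _ => by
      obtain ⟨i, -, d, hd, rfl⟩ := exists_pow_mul htop (mem_top x0) hx0 (mem_top g)
      exact mul_mem (mem_sup_left (npow_mem_zpowers x0 i)) (mem_sup_right (hE hd))
    have h2 := frattini_nongenerating h1
    obtain ⟨i, hi⟩ := mem_zpowers_iff.1 (h2.ge (mem_top e0) : e0 ∈ zpowers x0)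
    refine hc0n ?_
    rw [hc0, ← hi, commutatorElement_eq_one_iff_commute.2 ((Commute.refl x0).zpow_left i)]
    exact one_mem B2
  have hM1 := Subgroup.relIndex_mul_relIndex B1 (frattini N) E hB1M hME
  rw [hi1] at hM1
  have hMEp : (frattini N).relIndex E = p := by
    rcases (Nat.dvd_prime hpp).1 (Dvd.intro_left _ hM1) with h' | h'
    · exact absurd (Subgroup.relIndex_eq_one.1 h' he0) he0M
    · exact h'
  rw [hMEp, Nat.mul_eq_right hpp.ne_zero, Subgroup.relIndex_eq_one] at hM1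
  refine ⟨B2, hB2, hDB2, hB2M, hME, hm2,
    by rw [le_antisymm hM1 hB1M]; exact hi2, hMEp, fun g a ha => hc2 g a (hM1 ha), hc3', ?_⟩
  intro x hx e he heM
  obtain ⟨i, hip, v, hv, rfl⟩ := exists_pow_mul htop (mem_top x0) hx0 (mem_top x)
  obtain ⟨j, hjp, a, ha, rfl⟩ := exists_pow_mul hi1 he0 he0n he
  have hi0 : ¬ p ∣ i := fun h' => hx (by
    rw [Nat.eq_zero_of_dvd_of_lt h' hip, pow_zero, one_mul]
    exact hv)
  have hj0 : ¬ p ∣ j := fun h' => heM (by
    rw [Nat.eq_zero_of_dvd_of_lt h' hjp, pow_zero, one_mul]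
    exact hB1M ha)
  -- modulo `B2` the group has class two
  set π := QuotientGroup.mk' B2 with hπ
  have hcl : ∀ u w : N ⧸ B2, ⁅u, w⁆ ∈ center (N ⧸ B2) := by
    intro u w
    obtain ⟨u, rfl⟩ := QuotientGroup.mk'_surjective B2 u
    obtain ⟨w, rfl⟩ := QuotientGroup.mk'_surjective B2 w
    refine Subgroup.mem_center_iff.2 fun g => ?_
    obtain ⟨g, rfl⟩ := QuotientGroup.mk'_surjective B2 g
    rw [← commutatorElement_eq_one_iff_mul_comm, ← map_commutatorElement, ← map_commutatorElement]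
    exact (QuotientGroup.eq_one_iff _).2 (hc2 g _ (hM1 (hfr u w)))
  have hone : ∀ {g : N}, g ∈ B2 → π g = 1 := fun hg => (QuotientGroup.eq_one_iff _).2 hg
  have hc : π ⁅e0 ^ j * a, x0 ^ i * v⁆ = π (c0 ^ (i * j)) := by
    rw [map_commutatorElement, map_mul π (e0 ^ j) a, map_mul π (x0 ^ i) v,
      CfsgLib.Transfer.commutatorElement_mul_left hcl,
      CfsgLib.Transfer.commutatorElement_mul_right hcl,
      CfsgLib.Transfer.commutatorElement_mul_right hcl]
    simp only [← map_commutatorElement]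
    rw [hone (hDB2 (h.comm _ (pow_mem he0 j) v hv)), hone (hinv (hc2 _ a ha)),
      hone (hinv (hc2 v a ha)), mul_one, mul_one, mul_one, map_commutatorElement, map_pow, map_pow,
      CfsgLib.Transfer.commutatorElement_pow_left hcl,
      CfsgLib.Transfer.commutatorElement_pow_right hcl, ← map_commutatorElement, map_pow, ← pow_mul]
  have hmem : (c0 ^ (i * j))⁻¹ * ⁅e0 ^ j * a, x0 ^ i * v⁆ ∈ B2 := QuotientGroup.eq.1 hc.symm
  set q := QuotientGroup.mk' D with hq
  have hqone : ∀ {g : N}, g ∈ D → q g = 1 := fun hg => (QuotientGroup.eq_one_iff _).2 hg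
  have hqcomm : ∀ {g g' : N}, ⁅g, g'⁆ ∈ D → Commute (q g) (q g') := fun hg => by
    rw [← commutatorElement_eq_one_iff_commute, ← map_commutatorElement]
    exact hqone hg
  intro hcon
  have h1 : q ⁅e0 ^ j * a, x0 ^ i * v⁆ = q (c0 ^ (i * j)) *
      q ((c0 ^ (i * j))⁻¹ * ⁅e0 ^ j * a, x0 ^ i * v⁆) := by
    rw [← map_mul, mul_inv_cancel_left]
  have hcc : Commute (q c0) ⁅q c0, q x0⁆ := by
    rw [← map_commutatorElement]
    exact hqcomm (hc3' c0 _ hd0B)
  have hxc : Commute (q x0) ⁅q c0, q x0⁆ := by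
    rw [← map_commutatorElement]
    exact hqcomm (hc3' x0 _ hd0B)
  have hyc : ⁅q c0 ^ (i * j), q v⁆ = 1 :=
    commutatorElement_eq_one_iff_commute.2 ((hqcomm (h.comm _ (hB1E hc0B) v hv)).pow_left _)
  have hzc : ∀ g : N, ⁅q ((c0 ^ (i * j))⁻¹ * ⁅e0 ^ j * a, x0 ^ i * v⁆), q g⁆ = 1 := fun g => by
    rw [← map_commutatorElement]
    exact hqone (hinv (hc3' g _ hmem))
  have hd : q (d0 ^ (i * j * i)) = 1 := by
    have h2 : q ⁅⁅e0 ^ j * a, x0 ^ i * v⁆, x0 ^ i * v⁆ = 1 := hqone hcon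
    rw [map_commutatorElement, h1, comm_mul_left (by rw [hzc]; exact Commute.one_right _), hzc,
      one_mul, map_pow, map_mul, comm_mul_right (by rw [hyc]; exact Commute.one_right _), hyc,
      mul_one, map_pow] at h2
    rw [comm_pow_left (by rw [comm_pow_right hxc]; exact hcc.pow_right i), comm_pow_right hxc,
      ← pow_mul] at h2
    rw [map_pow, hd0', map_commutatorElement, ← h2]
    ring_nf
  have := dvd_of_pow_mem (h.pow _ (hME (hB2M hd0B))) hd0 ((QuotientGroup.eq_one_iff _).1 hd)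
  rcases (Nat.Prime.dvd_mul hpp).1 this with h' | h'
  · exact (Nat.Prime.dvd_mul hpp).1 h' |>.elim hi0 hj0
  · exact hi0 h'

theorem fun_commute_center {G : Type*} [Group G] {z : G} (hz : z ∈ center G) (g : G) : Commute z g :=
  (Subgroup.mem_center_iff.1 hz g).symm

/-- Three special maximal subgroups force order `p⁵`. -/
theorem shape (hN : IsPGroup p N) (hp5 : 5 ≤ p) (hsr : Cfsg.SectionalPRankLE p 3 N)
    {E₁ D₁ E₂ D₂ E₃ D₃ : Subgroup N} (h₁ : Special p E₁ D₁) (h₂ : Special p E₂ D₂)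
    (h₃ : Special p E₃ D₃) (h12 : E₁ ≠ E₂) (h13 : E₁ ≠ E₃) (h23 : E₂ ≠ E₃) :
    ∃ x : N, x ∉ E₁ ∧ ∃ e ∈ E₁, ⁅⁅e, x⁆, x⁆ ∉ D₁ ∧ (∀ g : N, Commute ⁅⁅e, x⁆, x⁆ g) ∧
      ∀ z ∈ E₁, (∀ w ∈ E₁, Commute z w) → ∃ i : ℕ, (⁅⁅e, x⁆, x⁆ ^ i)⁻¹ * z ∈ D₁ := by
  classical
  have hpp := hp.out
  haveI := h₁.normal
  haveI := h₁.normalD
  haveI := h₂.normalD
  haveI := h₃.normalD
  obtain ⟨P, hPn, hDP, hPM, hME, hiDP, hiPM, hiME, hMP, hPD, hblock⟩ := h₁.chain hN
  obtain ⟨P', hPn', hDP', hPM', hME', hiDP', hiPM', hiME', hMP', hPD', hblock'⟩ := h₂.chain hN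
  obtain ⟨P'', hPn'', hDP'', hPM'', hME'', hiDP'', hiPM'', hiME'', hMP'', hPD'', hblock''⟩ :=
    h₃.chain hN
  set M := frattini N with hMdef
  have hsub : ∀ {E E' : Subgroup N}, E.index = p → E'.index = p → E ≤ E' → E = E' := by
    intro E E' h h' hle
    refine Subgroup.eq_of_le_of_card_ge hle (le_of_eq ?_)
    have a := E.card_mul_index
    have b := E'.card_mul_index
    rw [h] at a
    rw [h'] at b
    exact Nat.eq_of_mul_eq_mul_right hpp.pos (b.trans a.symm)
  -- elements of one of the subgroups outside another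
  have hout : ∀ {E E' : Subgroup N}, E.index = p → E'.index = p → E ≠ E' →
      ∃ g ∈ E, g ∉ E' := fun h h' hne => by
    by_contra hc
    push Not at hc
    exact hne (hsub h h' hc)
  obtain ⟨e, he, he2⟩ := hout h₁.index h₂.index h12
  obtain ⟨x, hx, hx1⟩ := hout h₂.index h₁.index (Ne.symm h12)
  have heM : e ∉ M := fun h => he2 (hME' h)
  have hxM : x ∉ M := fun h => hx1 (hME h)
  set c := ⁅e, x⁆ with hcdef
  set d := ⁅c, x⁆ with hddef
  set f := ⁅c, e⁆ with hfdef
  have hfr : ∀ a b : N, ⁅a, b⁆ ∈ M := commutator_mem_frattini hN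
  have hinv : ∀ {B : Subgroup N} {a b : N}, ⁅a, b⁆ ∈ B → ⁅b, a⁆ ∈ B := fun h' => by
    rw [← commutatorElement_inv]
    exact inv_mem h'
  have hcM : c ∈ M := hfr _ _
  have hd1 : d ∉ D₁ := hblock x hx1 e he heM
  have hf2 : f ∉ D₂ := by
    intro hf
    refine hblock' e he2 x hx hxM ?_
    rw [← commutatorElement_inv e x, ← hcdef,
      show ⁅c⁻¹, e⁆ = c⁻¹ * f⁻¹ * c by rw [hfdef]; simp only [commutatorElement_def]; group]
    simpa using h₂.normalD.conj_mem _ (inv_mem hf) c⁻¹
  have hf1 : f ∈ D₁ := h₁.comm _ (hME hcM) _ he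
  have hd2 : d ∈ D₂ := h₂.comm _ (hME' hcM) _ hx
  set K := D₁ ⊓ D₂ with hK
  haveI : K.Normal := inferInstance
  have hsec : ∀ {D D' : Subgroup N}, (∀ a ∈ M, ∀ b ∈ M, ⁅a, b⁆ ∈ D ⊓ D') →
      (∀ a ∈ M, a ^ p ∈ D ⊓ D') → (D ⊓ D').Normal → (D ⊓ D').relIndex M ≤ p ^ 3 :=
    fun a b hn => by haveI := hn; exact relIndex_le hsr a b
  have hDM : D₁.relIndex M = p ^ 2 := by
    rw [← Subgroup.relIndex_mul_relIndex D₁ P M hDP hPM, hiDP, hiPM, pow_two]
  have hKM : K.relIndex M ≤ p ^ 3 := hsec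
    (fun a ha b hb => ⟨h₁.comm _ (hME ha) _ (hME hb), h₂.comm _ (hME' ha) _ (hME' hb)⟩)
    (fun a ha => ⟨h₁.pow _ (hME ha), h₂.pow _ (hME' ha)⟩) inferInstance
  have hKD : K.relIndex D₁ = p := by
    have h := Subgroup.relIndex_mul_relIndex K D₁ M inf_le_left h₁.le_frattini
    rw [hDM] at h
    have hle : K.relIndex D₁ ≤ p := Nat.le_of_mul_le_mul_right
      (by rw [h, ← pow_succ']; exact hKM) (pow_pos hpp.pos 2)
    obtain ⟨m, hm⟩ := IsPGroup.iff_card.1 ((hN.to_subgroup D₁).to_quotient (K.subgroupOf D₁))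
    rw [← Subgroup.index_eq_card] at hm
    change K.relIndex D₁ = p ^ m at hm
    rw [hm] at hle
    rcases Nat.lt_or_ge 1 m with h' | h'
    · exact absurd hle (not_le.2 (lt_of_eq_of_lt (pow_one p).symm (Nat.pow_lt_pow_right hpp.one_lt h')))
    interval_cases m
    · rw [pow_zero] at hm
      exact absurd (Subgroup.relIndex_eq_one.1 hm hf1).2 hf2
    · rw [hm, pow_one]
  have hKM3 : K.relIndex M = p ^ 3 := by
    rw [← Subgroup.relIndex_mul_relIndex K D₁ M inf_le_left h₁.le_frattini, hKD, hDM, ← pow_succ']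
  have hfK : f ∉ K := fun h => hf2 h.2
  have hdK : d ∉ K := fun h => hd1 h.1
  have hdP : d ∈ P := hinv (hMP x c hcM)
  have hfP : f ∈ P := hDP hf1
  have hPK : ∀ a ∈ P, ∃ i j : ℕ, ∃ z ∈ K, a = d ^ i * (f ^ j * z) := fun a ha => by
    obtain ⟨i, -, b, hb, rfl⟩ := exists_pow_mul hiDP hdP hd1 ha
    obtain ⟨j, -, z, hz, rfl⟩ := exists_pow_mul hKD hf1 hfK hb
    exact ⟨i, j, z, hz, rfl⟩
  have hKP : K ≤ P := inf_le_left.trans hDP
  have hKM' : K ≤ M := hKP.trans hPM
  -- `[P, N] ≤ K`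
  have hdN : ∀ g, ⁅g, d⁆ ∈ K := fun g => ⟨hPD g d hdP,
    hPD' g d (hinv (hMP' x c hcM))⟩
  have hfN : ∀ g, ⁅g, f⁆ ∈ K := fun g => ⟨hPD g f hfP,
    hPD' g f (hinv (hMP' e c hcM))⟩
  -- the quotient by `K`
  set π := QuotientGroup.mk' K with hπ
  have hone : ∀ {g : N}, g ∈ K → π g = 1 := fun hg => (QuotientGroup.eq_one_iff _).2 hg
  have hPc : ∀ a ∈ P, ∀ g : N, Commute (π a) (π g) := by
    intro a ha g
    obtain ⟨i, j, z, hz, rfl⟩ := hPK a ha
    have hd' : Commute (π d) (π g) := by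
      rw [← commutatorElement_eq_one_iff_commute, ← map_commutatorElement]
      exact hone (hinv (hdN g))
    have hf' : Commute (π f) (π g) := by
      rw [← commutatorElement_eq_one_iff_commute, ← map_commutatorElement]
      exact hone (hinv (hfN g))
    rw [map_mul, map_mul, map_pow, map_pow, hone hz, mul_one]
    exact (hd'.pow_left i).mul_left (hf'.pow_left j)
  have hPp : ∀ a ∈ P, π a ^ p = 1 := fun a ha => by
    obtain ⟨i, j, z, hz, rfl⟩ := hPK a ha
    have hdp : π d ^ p = 1 := by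
      rw [← map_pow]; exact hone ⟨h₁.pow _ (hME (hPM hdP)), h₂.pow _ (h₂.le hd2)⟩
    have hfp : π f ^ p = 1 := by
      rw [← map_pow]; exact hone ⟨h₁.pow _ (h₁.le hf1), h₂.pow _ (hME' (hfr c e))⟩
    rw [map_mul, map_mul, map_pow, map_pow, hone hz, mul_one,
      ((hPc d hdP f).pow_pow i j).mul_pow, ← pow_mul, ← pow_mul, mul_comm i, mul_comm j, pow_mul,
      pow_mul, hdp, hfp, one_pow, one_pow, one_mul]
  have hK2 : K.relIndex D₂ = p := by
    have h := Subgroup.relIndex_mul_relIndex K D₂ M inf_le_right h₂.le_frattini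
    rw [← Subgroup.relIndex_mul_relIndex D₂ P' M hDP' hPM', hiDP', hiPM', hKM3, pow_succ',
      ← pow_two, Nat.mul_right_cancel_iff (pow_pos hpp.pos 2)] at h
    exact h
  have hpow2 : ∀ {a : N}, a ∈ E₂ → a ^ p ∈ P := fun {a} ha => by
    obtain ⟨i, -, b, hb, hab⟩ := exists_pow_mul hK2 hd2 hdK (h₂.pow a ha)
    rw [hab]
    exact mul_mem (pow_mem hdP i) (hKP hb)
  -- powers are multiplicative modulo `K`
  have htop : E₁.relIndex ⊤ = p := by rw [Subgroup.relIndex_top_right]; exact h₁.index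
  have hdec : ∀ g : N, ∃ i j : ℕ, ∃ m ∈ M, g = x ^ i * (e ^ j * m) := fun g => by
    obtain ⟨i, -, v, hv, rfl⟩ := exists_pow_mul htop (mem_top x) hx1 (mem_top g)
    obtain ⟨j, -, m, hm, rfl⟩ := exists_pow_mul hiME he heM hv
    exact ⟨i, j, m, hm, rfl⟩
  have hppow : ∀ g : N, g ^ p ∈ P := by
    have hcl : ∀ u w : N ⧸ P, ⁅u, w⁆ ∈ center (N ⧸ P) := by
      intro u w
      obtain ⟨u, rfl⟩ := QuotientGroup.mk'_surjective P u
      obtain ⟨w, rfl⟩ := QuotientGroup.mk'_surjective P w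
      refine Subgroup.mem_center_iff.2 fun g => ?_
      obtain ⟨g, rfl⟩ := QuotientGroup.mk'_surjective P g
      rw [← commutatorElement_eq_one_iff_mul_comm, ← map_commutatorElement,
        ← map_commutatorElement]
      exact (QuotientGroup.eq_one_iff _).2 (hMP g _ (hfr u w))
    intro g
    obtain ⟨i, j, m, hm, rfl⟩ := hdec g
    have hcp : ∀ u w : N, ⁅QuotientGroup.mk' P u, QuotientGroup.mk' P w⁆ ^ p = 1 := fun u w => by
      rw [← map_commutatorElement, ← map_pow]
      exact (QuotientGroup.eq_one_iff _).2 (hDP (h₁.pow _ (hME (hfr u w))))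
    rw [← QuotientGroup.eq_one_iff, ← QuotientGroup.mk'_apply, map_pow, map_mul,
      CfsgLib.Transfer.mul_pow_prime_class_two hcl hpp (by omega) _ _ (hcp _ _), map_mul,
      CfsgLib.Transfer.mul_pow_prime_class_two hcl hpp (by omega) _ _ (hcp _ _), ← map_pow,
      ← map_pow, ← map_pow, ← map_mul, ← map_mul, QuotientGroup.mk'_apply,
      QuotientGroup.eq_one_iff]
    refine mul_mem ?_ (mul_mem ?_ (hDP (h₁.pow _ (hME hm))))
    · exact hpow2 (pow_mem hx i)
    · exact hDP (h₁.pow _ (pow_mem he j))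
  have hmul : ∀ u w : N, π (u * w) ^ p = π u ^ p * π w ^ p := by
    intro u w
    rw [map_mul]
    refine CfsgLib.OddLocal.mul_pow_of_quotient (by omega) (Z := P.map π) ?_ ?_ ?_ ?_ _ _
    · rintro _ ⟨a, ha, rfl⟩ g
      obtain ⟨g, rfl⟩ := QuotientGroup.mk'_surjective K g
      exact hPc a ha g
    · rintro _ ⟨a, ha, rfl⟩
      exact hPp a ha
    · intro y
      obtain ⟨y, rfl⟩ := QuotientGroup.mk'_surjective K y
      exact ⟨y ^ p, hppow y, map_pow π y p⟩
    · intro a b g
      obtain ⟨a, rfl⟩ := QuotientGroup.mk'_surjective K a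
      obtain ⟨b, rfl⟩ := QuotientGroup.mk'_surjective K b
      obtain ⟨g, rfl⟩ := QuotientGroup.mk'_surjective K g
      exact ⟨⁅⁅a, b⁆, g⁆, hinv (hMP g _ (hfr a b)), by simp only [map_commutatorElement, hπ]⟩
  -- the exponent
  obtain ⟨k, hkp, z, hz, hek⟩ := exists_pow_mul hKD hf1 hfK (h₁.pow e he)
  obtain ⟨k', -, z', hz', hxk⟩ := exists_pow_mul hK2 hd2 hdK (h₂.pow x hx)
  have hmM : ∀ m ∈ M, π m ^ p = 1 := fun m hm => by
    rw [← map_pow]
    exact hone ⟨h₁.pow _ (hME hm), h₂.pow _ (hME' hm)⟩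
  have hpe : π e ^ p = π f ^ k := by rw [← map_pow, hek, map_mul, hone hz, mul_one, map_pow]
  have hpx : π x ^ p = π d ^ k' := by rw [← map_pow, hxk, map_mul, hone hz', mul_one, map_pow]
  have hpowg : ∀ i j : ℕ, ∀ m ∈ M,
      π (x ^ i * (e ^ j * m)) ^ p = π d ^ (k' * i) * π f ^ (k * j) := by
    intro i j m hm
    rw [hmul, hmul, hmM m hm, mul_one, map_pow, map_pow, ← pow_mul, ← pow_mul, mul_comm i,
      mul_comm j, pow_mul, pow_mul, hpx, hpe, ← pow_mul, ← pow_mul]
  have hcomg : ∀ i j : ℕ, ∀ m ∈ M,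
      π ⁅c, x ^ i * (e ^ j * m)⁆ = π d ^ i * π f ^ j := by
    intro i j m hm
    have e1 : ⁅π c, π x⁆ = π d := (map_commutatorElement π c x).symm
    have e2 : ⁅π c, π e⁆ = π f := (map_commutatorElement π c e).symm
    have h0 : ⁅π c, π m⁆ = 1 := by
      rw [← map_commutatorElement]
      exact hone ⟨h₁.comm _ (hME hcM) _ (hME hm), h₂.comm _ (hME' hcM) _ (hME' hm)⟩
    have hcx : Commute (π x) ⁅π c, π x⁆ := by rw [e1]; exact (hPc d hdP x).symm
    have hce : Commute (π e) ⁅π c, π e⁆ := by rw [e2]; exact (hPc f hfP e).symm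
    rw [map_commutatorElement, map_mul, map_mul, map_pow, map_pow,
      comm_mul_right (by
        rw [comm_mul_right (by rw [h0]; exact Commute.one_right _), h0, mul_one,
          comm_pow_right hce, e2]
        exact ((hPc f hfP x).symm.pow_pow i j)),
      comm_mul_right (by rw [h0]; exact Commute.one_right _), h0, mul_one, comm_pow_right hcx,
      comm_pow_right hce, e1, e2]
  -- the third subgroup
  have hK3le : K ≤ D₃ := by
    have h : (K ⊓ D₃).relIndex M ≤ p ^ 3 := hsec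
      (fun a ha b hb => ⟨⟨h₁.comm _ (hME ha) _ (hME hb), h₂.comm _ (hME' ha) _ (hME' hb)⟩,
        h₃.comm _ (hME'' ha) _ (hME'' hb)⟩)
      (fun a ha => ⟨⟨h₁.pow _ (hME ha), h₂.pow _ (hME' ha)⟩, h₃.pow _ (hME'' ha)⟩) inferInstance
    have h1 := Subgroup.relIndex_mul_relIndex (K ⊓ D₃) K M inf_le_left hKM'
    rw [hKM3] at h1
    have h2 : (K ⊓ D₃).relIndex K = 1 := by
      refine le_antisymm (Nat.le_of_mul_le_mul_right (by rw [h1, one_mul]; exact h)
        (pow_pos hpp.pos 3)) (Nat.one_le_iff_ne_zero.2 fun h0 => ?_)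
      exact Subgroup.index_ne_zero_of_finite (H := (K ⊓ D₃).subgroupOf K) h0
    exact fun a ha => (Subgroup.relIndex_eq_one.1 h2 ha).2
  obtain ⟨v, hv, hvM⟩ : ∃ v ∈ E₃, v ∉ M := by
    by_contra hc
    push Not at hc
    exact h13 (hsub h₃.index h₁.index fun a ha => hME (hc a ha)).symm
  obtain ⟨a, ha, v1, hv1, hveq⟩ := exists_pow_mul htop (mem_top x) hx1 (mem_top v)
  obtain ⟨b, hb, m, hm, rfl⟩ := exists_pow_mul hiME he heM hv1
  subst hveq
  have hgen3 : ∀ u ∈ E₃, ∃ i : ℕ, ∃ q ∈ M, u = (x ^ a * (e ^ b * m)) ^ i * q := fun u hu => by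
    obtain ⟨i, -, q, hq, rfl⟩ := exists_pow_mul hiME'' hv hvM hu
    exact ⟨i, q, hq, rfl⟩
  have ha0 : ¬ p ∣ a := fun h => h13 (hsub h₃.index h₁.index fun u hu => by
    obtain ⟨i, q, hq, rfl⟩ := hgen3 u hu
    rw [Nat.eq_zero_of_dvd_of_lt h ha, pow_zero, one_mul]
    exact mul_mem (pow_mem (mul_mem (pow_mem he b) (hME hm)) i) (hME hq)).symm
  have hb0 : ¬ p ∣ b := fun h => h23 (hsub h₃.index h₂.index fun u hu => by
    obtain ⟨i, q, hq, rfl⟩ := hgen3 u hu
    rw [Nat.eq_zero_of_dvd_of_lt h hb, pow_zero, one_mul]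
    exact mul_mem (pow_mem (mul_mem (pow_mem hx a) (hME' hm)) i) (hME' hq)).symm
  have hindep : ∀ i j : ℕ, π d ^ i * π f ^ j = 1 → p ∣ i ∧ p ∣ j := by
    intro i j h
    rw [← map_pow, ← map_pow, ← map_mul] at h
    have h' : d ^ i * f ^ j ∈ K := (QuotientGroup.eq_one_iff _).1 h
    have hi : p ∣ i := dvd_of_pow_mem (h₁.pow _ (hME (hPM hdP))) hd1 (by
      have h2 := mul_mem ((Subgroup.mem_inf.1 h').1 : d ^ i * f ^ j ∈ D₁) (inv_mem (pow_mem hf1 j))
      rwa [mul_inv_cancel_right] at h2)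
    refine ⟨hi, dvd_of_pow_mem (A := K) (x := f) ?_ hfK ?_⟩
    · rw [← QuotientGroup.eq_one_iff (N := K), ← QuotientGroup.mk'_apply, map_pow]
      exact hPp f hfP
    · obtain ⟨r, hr⟩ := hi
      rw [← QuotientGroup.eq_one_iff (N := K), ← QuotientGroup.mk'_apply]
      have h2 : π (d ^ i * f ^ j) = 1 := hone h'
      rwa [map_mul, map_pow π d, hr, pow_mul, hPp d hdP, one_pow, one_mul] at h2
  have hkk : (k' : ZMod p) = k := by
    have h3pow := h₃.pow _ hv
    have h3com : ⁅c, x ^ a * (e ^ b * m)⁆ ∈ D₃ := h₃.comm _ (hME'' hcM) _ hv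
    have hK3 : K.relIndex D₃ = p := by
      have h := Subgroup.relIndex_mul_relIndex K D₃ M hK3le h₃.le_frattini
      rw [← Subgroup.relIndex_mul_relIndex D₃ P'' M hDP'' hPM'', hiDP'', hiPM'', hKM3, pow_succ',
        ← pow_two, Nat.mul_right_cancel_iff (pow_pos hpp.pos 2)] at h
      exact h
    have hnot : ⁅c, x ^ a * (e ^ b * m)⁆ ∉ K := fun h => by
      have h' := hone h
      rw [hcomg a b m hm] at h'
      exact ha0 (hindep a b h').1
    obtain ⟨r, -, w, hw, hrw⟩ := exists_pow_mul hK3 h3com hnot h3pow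
    have h := congrArg π hrw
    rw [map_pow, hpowg a b m hm, map_mul, hone hw, mul_one, map_pow, hcomg a b m hm,
      ((hPc d hdP f).pow_pow a b).mul_pow, ← pow_mul, ← pow_mul] at h
    have hcast : ∀ u w u' w' : ℕ, π d ^ u * π f ^ w = π d ^ u' * π f ^ w' →
        (u : ZMod p) = u' ∧ (w : ZMod p) = w' := by
      intro u w u' w' h
      have hd' : π d ^ u' * π d ^ ((p - 1) * u') = 1 := by
        rw [← pow_add, show u' + (p - 1) * u' = p * u' by
          rw [← one_add_mul, Nat.add_sub_cancel' hpp.one_le], pow_mul, hPp d hdP, one_pow]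
      have hf' : π f ^ w' * π f ^ ((p - 1) * w') = 1 := by
        rw [← pow_add, show w' + (p - 1) * w' = p * w' by
          rw [← one_add_mul, Nat.add_sub_cancel' hpp.one_le], pow_mul, hPp f hfP, one_pow]
      have h1 : π d ^ (u + (p - 1) * u') * π f ^ (w + (p - 1) * w') = 1 := by
        rw [pow_add, pow_add, ((hPc d hdP f).pow_pow ((p - 1) * u') w).mul_mul_mul_comm, h,
          ((hPc d hdP f).symm.pow_pow w' ((p - 1) * u')).mul_mul_mul_comm, hd', hf', one_mul]
      obtain ⟨h2, h3⟩ := hindep _ _ h1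
      rw [← ZMod.natCast_eq_zero_iff] at h2 h3
      push_cast [Nat.cast_sub hpp.one_le, ZMod.natCast_self] at h2 h3
      constructor
      · linear_combination h2
      · linear_combination h3
    obtain ⟨e1, e2⟩ := hcast _ _ _ _ h
    push_cast at e1 e2
    have hane : (a : ZMod p) ≠ 0 := fun h => ha0 ((ZMod.natCast_eq_zero_iff _ _).1 h)
    have hbne : (b : ZMod p) ≠ 0 := fun h => hb0 ((ZMod.natCast_eq_zero_iff _ _).1 h)
    have f1 : (k' : ZMod p) = r := mul_right_cancel₀ hane (by linear_combination e1)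
    have f2 : (k : ZMod p) = r := mul_right_cancel₀ hbne (by linear_combination e2)
    rw [f1, f2]
  have hkey : ∀ g : N, ((⁅c, g⁆) ^ k)⁻¹ * g ^ p ∈ K := fun g => by
    obtain ⟨i, j, m, hm, rfl⟩ := hdec g
    refine QuotientGroup.eq.1 ?_
    show π (⁅c, x ^ i * (e ^ j * m)⁆ ^ k) = π ((x ^ i * (e ^ j * m)) ^ p)
    rw [map_pow, map_pow, hcomg i j m hm, hpowg i j m hm, ((hPc d hdP f).pow_pow i j).mul_pow,
      ← pow_mul, ← pow_mul]
    congr 1
    · exact pow_eq_pow_zmod (hPp d hdP) (by push_cast; rw [hkk]; ring)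
    · exact pow_eq_pow_zmod (hPp f hfP) (by push_cast; ring)
  -- the collapse
  have hKbot : K = ⊥ := by
    by_contra hne
    obtain ⟨R, hRn, hRK, hRcard, hRc, hRp⟩ := CfsgLib.Transfer.exists_chief_below hN K hne
    haveI := hRn
    set q := QuotientGroup.mk' R with hq
    have hq1 : ∀ {g : N}, g ∈ R → q g = 1 := fun hg => (QuotientGroup.eq_one_iff _).2 hg
    have hKc : ∀ z ∈ K, q z ∈ center (N ⧸ R) := fun z hz => Subgroup.mem_center_iff.2 fun g => by
      obtain ⟨g, rfl⟩ := QuotientGroup.mk'_surjective R g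
      rw [← commutatorElement_eq_one_iff_mul_comm, ← map_commutatorElement]
      exact hq1 (by rw [commutatorElement_def]; exact hRc z hz g)
    have hKp : ∀ z ∈ K, q z ^ p = 1 := fun z hz => by rw [← map_pow]; exact hq1 (hRp z hz)
    have hPQ : ∀ a ∈ P, ∀ g : N ⧸ R, ⁅g, q a⁆ ∈ center (N ⧸ R) ∧ ⁅g, q a⁆ ^ p = 1 := by
      intro a ha g
      obtain ⟨g, rfl⟩ := QuotientGroup.mk'_surjective R g
      have hK' : ⁅g, a⁆ ∈ K := (QuotientGroup.eq_one_iff _).1 (by
        rw [← QuotientGroup.mk'_apply, map_commutatorElement]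
        exact commutatorElement_eq_one_iff_commute.2 (hPc a ha g).symm)
      rw [← map_commutatorElement]
      exact ⟨hKc _ hK', hKp _ hK'⟩
    -- commutators centralise `P`
    have hder : ∀ a ∈ P, ∀ u w : N, Commute (q ⁅u, w⁆) (q a) := by
      intro a ha u w
      let χ : N ⧸ R →* center (N ⧸ R) :=
        { toFun := fun g => ⟨⁅g, q a⁆, (hPQ a ha g).1⟩
          map_one' := Subtype.ext (commutatorElement_one_left _)
          map_mul' := fun g g' => Subtype.ext (by
            show ⁅g * g', q a⁆ = ⁅g, q a⁆ * ⁅g', q a⁆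
            rw [comm_mul_left (Subgroup.mem_center_iff.1 (hPQ a ha g').1 g)]
            exact (Subgroup.mem_center_iff.1 (hPQ a ha g).1 _).symm ▸ rfl) }
      have h1 : χ (q ⁅u, w⁆) = 1 := by
        rw [map_commutatorElement q, map_commutatorElement]
        exact commutatorElement_eq_one_iff_mul_comm.2
          (Subtype.ext (Subgroup.mem_center_iff.1 (χ (q w)).2 _))
      exact commutatorElement_eq_one_iff_commute.1 (congrArg Subtype.val h1)
    have hcP : ∀ a ∈ P, Commute (q c) (q a) := fun a ha => hder a ha e x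
    have hfP' : ∀ a ∈ P, Commute (q f) (q a) := fun a ha => hder a ha c e
    have hdP' : ∀ a ∈ P, Commute (q d) (q a) := fun a ha => hder a ha c x
    have hMel : ∀ m ∈ M, ∃ r i j : ℕ, ∃ z ∈ K, m = c ^ r * (d ^ i * (f ^ j * z)) := by
      intro m hm
      have hcP' : c ∉ P := fun hh => hd1 (hinv (hPD x c hh))
      obtain ⟨r, -, a, ha, rfl⟩ := exists_pow_mul hiPM hcM hcP' hm
      obtain ⟨i, j, z, hz, rfl⟩ := hPK a ha
      exact ⟨r, i, j, z, hz, rfl⟩
    have hMc : ∀ m ∈ M, Commute (q c) (q m) := by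
      intro m hm
      obtain ⟨r, i, j, z, hz, rfl⟩ := hMel m hm
      rw [map_mul, map_pow]
      exact (Commute.pow_right (Commute.refl _) r).mul_right
        (hcP _ (mul_mem (pow_mem hdP i) (mul_mem (pow_mem hfP j) (hKP hz))))
    have hMM : ∀ m ∈ M, ∀ m' ∈ M, Commute (q m) (q m') := by
      intro m hm m' hm'
      obtain ⟨r, i, j, z, hz, rfl⟩ := hMel m hm
      have hcm' := hMc m' hm'
      obtain ⟨r', i', j', z', hz', rfl⟩ := hMel m' hm'
      have hw : ∀ (g : N), (∀ a ∈ P, Commute (q g) (q a)) → Commute (q c) (q g) →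
          Commute (q g) (q (c ^ r' * (d ^ i' * (f ^ j' * z')))) := fun g hg hgc => by
        rw [map_mul, map_pow]
        exact (hgc.symm.pow_right r').mul_right
          (hg _ (mul_mem (pow_mem hdP i') (mul_mem (pow_mem hfP j') (hKP hz'))))
      simp only [map_mul q (c ^ r), map_mul q (d ^ i), map_mul q (f ^ j), map_pow q c r,
        map_pow q d i, map_pow q f j]
      refine (hcm'.pow_left r).mul_left ((Commute.pow_left ?_ i).mul_left
        ((Commute.pow_left ?_ j).mul_left ?_))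
      · exact hw d hdP' (hcP d hdP)
      · exact hw f hfP' (hcP f hfP)
      · exact fun_commute_center (hKc z hz) _
    set φx := ⁅q x, q f⁆ with hφx
    set δe := ⁅q e, q d⁆ with hδe
    set φe := ⁅q e, q f⁆ with hφe
    set δx := ⁅q x, q d⁆ with hδx
    have hφd : φx = δe := by
      have hxc : q x * q c * (q x)⁻¹ = (q d)⁻¹ * q c := by
        rw [show q d = ⁅q c, q x⁆ from map_commutatorElement q c x, commutatorElement_def]; group
      have hec : q e * q c * (q e)⁻¹ = (q f)⁻¹ * q c := by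
        rw [show q f = ⁅q c, q e⁆ from map_commutatorElement q c e, commutatorElement_def]; group
      have hxf : q x * q f * (q x)⁻¹ = φx * q f := by rw [hφx, commutatorElement_def]; group
      have hed : q e * q d * (q e)⁻¹ = δe * q d := by rw [hδe, commutatorElement_def]; group
      have hm : q ((x * e) * c * (x * e)⁻¹) = q ((e * x) * c * (e * x)⁻¹) := by
        have e1 : (x * e) * c * (x * e)⁻¹ = c⁻¹ * ((e * x) * c * (e * x)⁻¹) * c := by
          rw [hcdef]; simp only [commutatorElement_def]; group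
        rw [e1, map_mul, map_mul, map_inv,
          (hMc _ ((inferInstance : M.Normal).conj_mem c hcM (e * x))).inv_left.eq,
          inv_mul_cancel_right]
      have l1 : q ((x * e) * c * (x * e)⁻¹) = (φx * q f)⁻¹ * ((q d)⁻¹ * q c) := by
        rw [← hxf, ← hxc, map_mul, map_mul, map_inv, map_mul,
          show q x * q e * q c * (q x * q e)⁻¹ = q x * (q e * q c * (q e)⁻¹) * (q x)⁻¹ by group,
          hec]
        group
      have l2 : q ((e * x) * c * (e * x)⁻¹) = (δe * q d)⁻¹ * ((q f)⁻¹ * q c) := by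
        rw [← hed, ← hec, map_mul, map_mul, map_inv, map_mul,
          show q e * q x * q c * (q e * q x)⁻¹ = q e * (q x * q c * (q x)⁻¹) * (q e)⁻¹ by group,
          hxc]
        group
      rw [l1, l2] at hm
      have hφc := (hPQ f hfP (q x)).1
      have hδc := (hPQ d hdP (q e)).1
      rw [← hφx] at hφc
      rw [← hδe] at hδc
      rw [mul_inv_rev, mul_inv_rev, ← mul_assoc, ← mul_assoc, mul_left_inj,
        mul_assoc, ← (fun_commute_center (inv_mem hφc) (q d)⁻¹).symm.eq, ← mul_assoc,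
        mul_assoc ((q d)⁻¹), ← (fun_commute_center (inv_mem hδc) (q f)⁻¹).symm.eq, ← mul_assoc,
        ((hfP' d hdP).inv_inv).eq] at hm
      exact inv_injective (mul_left_cancel hm)
    have hcentral : k ≠ 0 → φe = 1 ∧ φx = 1 := by
      intro hk0
      have hk : ¬ p ∣ k := fun h => hk0 (Nat.eq_zero_of_dvd_of_lt h hkp)
      have hall : ∀ y : N, ⁅q y, q ⁅c, y⁆⁆ = 1 := by
        intro y
        have hmem := hkey y
        have hP' : ⁅c, y⁆ ∈ P := hinv (hMP y c hcM)
        have h1 : Commute (q y) (q ⁅c, y⁆ ^ k) := by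
          have h2 : q ⁅c, y⁆ ^ k = q y ^ p * (q ((⁅c, y⁆ ^ k)⁻¹ * y ^ p))⁻¹ := by
            rw [map_mul, map_inv, map_pow, map_pow, mul_inv_rev, inv_inv, mul_inv_cancel_left]
          rw [h2]
          exact (Commute.pow_right (Commute.refl _) p).mul_right
            (fun_commute_center (inv_mem (hKc _ hmem)) _).symm
        rw [← commutatorElement_eq_one_iff_commute,
          comm_pow_right (fun_commute_center (hPQ _ hP' _).1 _).symm] at h1
        by_contra hne'
        exact hk (dvd_of_pow_mem (A := (⊥ : Subgroup (N ⧸ R))) ((hPQ _ hP' _).2 ▸ one_mem _)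
          (fun h => hne' (Subgroup.mem_bot.1 h)) (h1 ▸ one_mem _))
      have h1 : φe = 1 := hall e
      have h2 : δx = 1 := hall x
      have h3 := hall (x * e)
      have hcc : q ⁅c, x * e⁆ = q d * φx * q f := by
        have e1 : ⁅c, x * e⁆ = d * (x * f * x⁻¹) := by
          rw [hddef, hfdef]; simp only [commutatorElement_def]; group
        rw [e1, map_mul, map_mul, map_mul, map_inv,
          show q x * q f * (q x)⁻¹ = φx * q f by rw [hφx, commutatorElement_def]; group,
          mul_assoc]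
      have cφ : ⁅q x * q e, φx⁆ = 1 :=
        commutatorElement_eq_one_iff_commute.2 (fun_commute_center (hPQ f hfP _).1 _).symm
      have cf : ⁅q x * q e, q f⁆ = φx := by
        rw [comm_mul_left (fun_commute_center (hPQ f hfP _).1 _).symm, ← hφe, h1, one_mul]
      have cd : ⁅q x * q e, q d⁆ = δe := by
        rw [comm_mul_left (fun_commute_center (hPQ d hdP _).1 _).symm, ← hδx, h2, mul_one]
      rw [hcc, map_mul q x e, comm_mul_right (by rw [cf]; exact
          (fun_commute_center (hPQ f hfP _).1 _).symm),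
        comm_mul_right (by rw [cφ]; exact Commute.one_right _), cd, cφ, cf, mul_one, ← hφd,
        ← pow_two] at h3
      refine ⟨h1, ?_⟩
      by_contra hne'
      have := dvd_of_pow_mem (A := (⊥ : Subgroup (N ⧸ R)))
        ((hPQ f hfP (q x)).2 ▸ one_mem _) (fun h => hne' (Subgroup.mem_bot.1 h))
        (h3 ▸ one_mem _)
      have := Nat.le_of_dvd two_pos this
      omega
    have hpd : p ∣ p.choose 2 := Nat.Prime.dvd_choose_self hpp (by norm_num) (by omega)
    have hexp : ∀ {g : N ⧸ R} {j : ℕ}, g ^ p = 1 → p ∣ j → g ^ j = 1 := fun hg ⟨t, ht⟩ => by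
      rw [ht, pow_mul, hg, one_pow]
    have hxpM : x ^ p ∈ M := hPM (hppow x)
    have hepM : e ^ p ∈ M := hPM (hppow e)
    have hgen : ∀ a ∈ P, ∀ g : N, g ^ p ∈ M → q c * q g * (q c)⁻¹ = q a * q g →
        q a ^ p = 1 := by
      intro a ha g hgM hcg
      have h1 : (q a * q g) ^ p = q g ^ p := by
        rw [← hcg, conj_pow, ← map_pow, (hMc _ hgM).eq, mul_inv_cancel_right]
      have hc' := (hPQ a ha (q g))
      rw [CfsgLib.Transfer.mul_pow_of_commute_commutator (fun_commute_center hc'.1 _).symm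
        (fun_commute_center hc'.1 _).symm, hexp hc'.2 hpd, mul_one, mul_eq_right] at h1
      exact h1
    have hdp : q d ^ p = 1 := hgen d hdP x hxpM (by
      rw [show q d = ⁅q c, q x⁆ from map_commutatorElement q c x, commutatorElement_def]; group)
    have hfp : q f ^ p = 1 := hgen f hfP e hepM (by
      rw [show q f = ⁅q c, q e⁆ from map_commutatorElement q c e, commutatorElement_def]; group)
    have hep : Commute (q x) (q e ^ p) := by
      have h1 : q e ^ p = q f ^ k * q z := by rw [← map_pow, hek, map_mul, map_pow]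
      rw [h1]
      refine Commute.mul_right ?_ (fun_commute_center (hKc z hz) _).symm
      rcases Nat.eq_zero_or_pos k with hk0 | hk0
      · rw [hk0, pow_zero]; exact Commute.one_right _
      · exact (commutatorElement_eq_one_iff_commute.1 (hcentral hk0.ne').2).pow_right k
    have hcp : q c ^ p = 1 := by
      have hconj : q x * q e * (q x)⁻¹ = (q c)⁻¹ * q e := by
        rw [hcdef, map_commutatorElement, commutatorElement_def]; group
      have h1 : ((q c)⁻¹ * q e) ^ p = q e ^ p := by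
        rw [← hconj, conj_pow, hep.eq, mul_inv_cancel_right]
      have u1 : q e * (q c)⁻¹ = q f * (q c)⁻¹ * q e := by
        have hcf := (hcP f hfP).eq
        have : q f = q c * q e * (q c)⁻¹ * (q e)⁻¹ := by
          rw [hfdef, map_commutatorElement, commutatorElement_def]
        have hcf' : q f * (q c)⁻¹ = (q c)⁻¹ * q f := ((hcP f hfP).inv_left).eq.symm
        rw [hcf', this]
        group
      have u2 : q e * q f = φe * q f * q e := by rw [hφe, commutatorElement_def]; group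
      have hφc := (hPQ f hfP (q e))
      have u3 : q e * φe = φe * q e := (fun_commute_center hφc.1 _).symm.eq
      rw [CfsgLib.BlackburnRankTwo.mul_pow_unipotent u1 u2 u3 ((hcP f hfP).inv_left)
        (fun_commute_center hφc.1 _).symm (fun_commute_center hφc.1 _).symm p, hexp hfp hpd,
        hexp hφc.2 (Nat.Prime.dvd_choose_self hpp (by norm_num) (by omega)), mul_one, mul_one,
        mul_eq_right, inv_pow, inv_eq_one] at h1
      exact h1
    -- `M` is elementary of order `p⁴` modulo `R`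
    have hR4 : R.relIndex M ≤ p ^ 3 := relIndex_le hsr
      (fun a ha b hb => (QuotientGroup.eq_one_iff _).1 (by
        rw [← QuotientGroup.mk'_apply, map_commutatorElement]
        exact commutatorElement_eq_one_iff_commute.2 (hMM a ha b hb)))
      (fun a ha => (QuotientGroup.eq_one_iff _).1 (by
        obtain ⟨r, i, j, w, hw, rfl⟩ := hMel a ha
        have hcM' : Commute (q c ^ r) (q (d ^ i * (f ^ j * w))) :=
          (hMc _ (hPM (mul_mem (pow_mem hdP i) (mul_mem (pow_mem hfP j) (hKP hw))))).pow_left r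
        have hdM' : Commute (q d ^ i) (q (f ^ j * w)) :=
          (hMM _ (hPM hdP) _ (hPM (mul_mem (pow_mem hfP j) (hKP hw)))).pow_left i
        have hfM' : Commute (q f ^ j) (q w) := (fun_commute_center (hKc w hw) _).symm
        rw [← QuotientGroup.mk'_apply, map_pow, map_mul, map_pow, hcM'.mul_pow, map_mul, map_pow,
          hdM'.mul_pow, map_mul, map_pow, hfM'.mul_pow, ← pow_mul, ← pow_mul, ← pow_mul,
          mul_comm r, mul_comm i, mul_comm j, pow_mul, pow_mul, pow_mul, hcp, hdp, hfp,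
          hKp w hw, one_pow, one_pow, one_pow, one_mul, one_mul, one_mul]))
    have hRK' : R.relIndex K = p := by
      have h := Subgroup.card_mul_index (R.subgroupOf K)
      rw [Nat.card_congr (Subgroup.subgroupOfEquivOfLe hRK).toEquiv, hRcard, mul_comm p] at h
      exact Nat.eq_of_mul_eq_mul_left Nat.card_pos h
    rw [← Subgroup.relIndex_mul_relIndex R K M hRK hKM', hRK', hKM3, ← pow_succ'] at hR4
    exact absurd hR4 (not_le.2 (Nat.pow_lt_pow_right hpp.one_lt (by omega)))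
  -- conclusion
  have hKmem : ∀ {g : N}, g ∈ K → g = 1 := fun hg => by rwa [hKbot, Subgroup.mem_bot] at hg
  refine ⟨x, hx1, e, he, hd1, fun g =>
    (commutatorElement_eq_one_iff_commute.1 (hKmem (hdN g))).symm, fun z hz hzc => ?_⟩
  obtain ⟨j, hjp, m, hm, rfl⟩ := exists_pow_mul hiME he heM hz
  have hqc : ∀ {a b : N}, ⁅a, b⁆ ∈ K → Commute a b := fun h =>
    commutatorElement_eq_one_iff_commute.1 (hKmem h)
  have hcm : Commute c m :=
    hqc ⟨h₁.comm _ (hME hcM) _ (hME hm), h₂.comm _ (hME' hcM) _ (hME' hm)⟩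
  have hfN' : ∀ g : N, Commute g f := fun g => hqc (hfN g)
  have hfp : f ^ p = 1 := hKmem ⟨h₁.pow _ (h₁.le hf1), h₂.pow _ (hME' (hfr c e))⟩
  have hej : p ∣ j := by
    have h1 : ⁅c, e ^ j⁆ = 1 := by
      have h0 := commutatorElement_eq_one_iff_commute.2 (hzc c (hME hcM)).symm
      rwa [comm_mul_right (by rw [commutatorElement_eq_one_iff_commute.2 hcm]; exact Commute.one_right _),
        commutatorElement_eq_one_iff_commute.2 hcm, mul_one] at h0
    rw [comm_pow_right (hfN' e)] at h1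
    exact dvd_of_pow_mem (A := (⊥ : Subgroup N)) (hfp ▸ one_mem _)
      (fun h => hfK (by rw [Subgroup.mem_bot.1 h]; exact one_mem K)) (h1 ▸ one_mem _)
  rw [Nat.eq_zero_of_dvd_of_lt hej hjp, pow_zero, one_mul] at hzc ⊢
  have hcP' : c ∉ P := fun hh => hd1 (hinv (hPD x c hh))
  obtain ⟨r, hrp, a, ha, rfl⟩ := exists_pow_mul hiPM hcM hcP' hm
  obtain ⟨i, j', w, hw, rfl⟩ := hPK a ha
  have hae : Commute (d ^ i * (f ^ j' * w)) e := by
    rw [hKmem hw, mul_one]
    exact (((hqc (hdN e)).symm).pow_left i).mul_left ((hfN' e).symm.pow_left j')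
  have hr : p ∣ r := by
    have h0 := commutatorElement_eq_one_iff_commute.2 (hzc e he)
    rw [comm_mul_left (by rw [commutatorElement_eq_one_iff_commute.2 hae]; exact Commute.one_right _),
      commutatorElement_eq_one_iff_commute.2 hae, one_mul, comm_pow_left (hfN' c)] at h0
    exact dvd_of_pow_mem (A := (⊥ : Subgroup N)) (hfp ▸ one_mem _)
      (fun h => hfK (by rw [Subgroup.mem_bot.1 h]; exact one_mem K)) (h0 ▸ one_mem _)
  refine ⟨i, ?_⟩
  rw [Nat.eq_zero_of_dvd_of_lt hr hrp, pow_zero, one_mul, hKmem hw, mul_one, ← mul_assoc,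
    inv_mul_cancel, one_mul]
  exact pow_mem hf1 j'

end CfsgLib.RankThree.Regular
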