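import Cfsg.Agent.Lib.RankThree.Linear
import Cfsg.Agent.Lib.RankThree.Regular
import Cfsg.Agent.Lib.RankThree.Collapse
import Cfsg.Agent.Lib.Fusion.EssentialCube
import Cfsg.Agent.Lib.Invol.FrattiniKernel

/-!
Essential subgroups needing three generators: the action on the Frattini quotient.
-/

set_option autoImplicit false
set_option linter.style.haveILetI false
set_option linter.unusedSectionVars false

namespace CfsgLib.RankThree.Top

open Cfsg Cfsg.FusionSystem Subgroup CfsgLib.Fusion CfsgLib.Fusion.CubeGL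
open scoped Matrix commutatorElement

theorem exists_coord {G : Type*} [Group G] [Finite G] {p : ℕ} [hp : Fact p.Prime]
    (hG : IsPGroup p G) (hidx : (frattini G).index = p ^ 3) :
    ∃ (ε : G → (Fin 3 → ZMod p)) (ρ : MulAut G →* GL (Fin 3) (ZMod p)),
      Function.Surjective ε ∧ (∀ x y, ε (x * y) = ε x + ε y) ∧ (∀ x, ε x = 0 ↔ x ∈ frattini G) ∧
      ∀ α x, (ρ α : Matrix (Fin 3) (Fin 3) (ZMod p)) *ᵥ ε x = ε (α x) := by
  classical
  set Q := G ⧸ frattini G with hQ
  have hc : ∀ a b : Q, a * b = b * a := by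
    intro a b
    obtain ⟨a, rfl⟩ := QuotientGroup.mk'_surjective _ a
    obtain ⟨b, rfl⟩ := QuotientGroup.mk'_surjective _ b
    rw [← commutatorElement_eq_one_iff_mul_comm, ← map_commutatorElement]
    exact (QuotientGroup.eq_one_iff _).2 (commutator_mem_frattini hG a b)
  letI : CommGroup Q := { (inferInstance : Group Q) with mul_comm := hc }
  have hexp' : ∀ x : Additive Q, p • x = 0 := fun x => by
    obtain ⟨g, hg⟩ := QuotientGroup.mk'_surjective (frattini G) (Additive.toMul x)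
    show Additive.ofMul ((Additive.toMul x) ^ p) = 0
    rw [← hg, ← map_pow, QuotientGroup.mk'_apply,
      (QuotientGroup.eq_one_iff _).2 (CfsgLib.StructC.pow_mem_frattini hG g), ofMul_one]
  letI : Module (ZMod p) (Additive Q) := AddCommGroup.zmodModule (n := p) hexp'
  haveI : Finite (Additive Q) := inferInstanceAs (Finite Q)
  haveI : Module.Finite (ZMod p) (Additive Q) :=
    Module.Finite.of_finite (R := ZMod p) (M := Additive Q)
  have hfr : Module.finrank (ZMod p) (Additive Q) = 3 := by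
    have h := Module.natCard_eq_pow_finrank (K := ZMod p) (V := Additive Q)
    rw [Nat.card_zmod, show Nat.card (Additive Q) = p ^ 3 by
      rw [← hidx, Subgroup.index_eq_card]; rfl] at h
    exact (Nat.pow_right_injective hp.out.two_le h).symm
  let b : Module.Basis (Fin 3) (ZMod p) (Additive Q) :=
    @Module.finBasisOfFinrankEq (ZMod p) (Additive Q) _ _ _ _ _ _ 3 hfr
  let toQ : MulAut G →* MulAut Q :=
    { toFun := fun α => QuotientGroup.congr (frattini G) (frattini G) α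
        (Subgroup.characteristic_iff_map_eq.1 inferInstance α)
      map_one' := MulEquiv.ext fun q => by
        obtain ⟨q, rfl⟩ := QuotientGroup.mk'_surjective _ q
        rfl
      map_mul' := fun α β => MulEquiv.ext fun q => by
        obtain ⟨q, rfl⟩ := QuotientGroup.mk'_surjective _ q
        rfl }
  let ρ₀ : MulAut G →* Matrix (Fin 3) (Fin 3) (ZMod p) :=
    ((LinearMap.toMatrixAlgEquiv b).toMonoidHom.comp (CfsgLib.PLocal.autRep p Q)).comp toQ
  let q : G → Q := QuotientGroup.mk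
  have hρ : ∀ α x, ρ₀ α *ᵥ b.repr (Additive.ofMul (q x)) = b.repr (Additive.ofMul (q (α x))) :=
    fun α x =>
      LinearMap.toMatrix_mulVec_repr b b (CfsgLib.PLocal.autRep p Q (toQ α)) (Additive.ofMul (q x))
  refine ⟨fun x => b.repr (Additive.ofMul (q x)), ρ₀.toHomUnits, ?_, fun x y => ?_,
    fun x => ?_, hρ⟩
  · exact (b.equivFun.surjective.comp Additive.ofMul.surjective).comp QuotientGroup.mk_surjective
  · beta_reduce
    rw [show q (x * y) = q x * q y from QuotientGroup.mk_mul _ x y]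
    simp only [ofMul_mul, map_add, Finsupp.coe_add]
  · rw [← QuotientGroup.eq_one_iff]
    constructor
    · intro h
      have h1 : b.repr (Additive.ofMul (q x)) = 0 := DFunLike.coe_injective h
      rw [map_eq_zero_iff _ b.repr.injective] at h1
      exact ofMul_eq_zero.1 h1
    · intro h
      beta_reduce
      rw [show q x = 1 from h, ofMul_one, map_zero]
      rfl

theorem containsLocals_map {A B : Type*} [Group A] [Group B] {T Y : Subgroup A} (f : A ≃* B)
    (h : ContainsLocals T Y) : ContainsLocals (T.map f.toMonoidHom) (Y.map f.toMonoidHom) := by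
  intro U hU hne b hb
  refine ⟨f.symm b, h (U.comap f.toMonoidHom) ?_ ?_ fun a => ?_, f.apply_symm_apply b⟩
  · intro a ha
    exact (Subgroup.mem_map_iff_mem f.injective).1 (hU ha)
  · intro he
    refine hne ?_
    rw [← Subgroup.map_comap_eq_self_of_surjective (f := f.toMonoidHom) f.surjective U, he,
      Subgroup.map_bot]
  · simp only [SetLike.mem_coe, Subgroup.mem_comap, MulEquiv.coe_toMonoidHom, map_mul, map_inv,
      f.apply_symm_apply]
    exact hb (f a)

theorem locals_of_equiv {A B : Type*} [Group A] [Group B] [Finite A] {p : ℕ} [Fact p.Prime]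
    (f : A ≃* B) {Y₀ : Subgroup A} (h : IsStronglyPEmbedded p Y₀) (T : Sylow p B) :
    ∃ Y : Subgroup B, Y ≠ ⊤ ∧ ContainsLocals (T : Subgroup B) Y := by
  haveI : Finite B := Finite.of_equiv A f.toEquiv
  set T' : Sylow p A := T.comapOfInjective f.toMonoidHom f.injective
    (by rw [MonoidHom.range_eq_top.2 f.surjective]; exact le_top) with hT'
  obtain ⟨Y, hY, hloc⟩ := exists_containsLocals_of_isStronglyPEmbedded h T'
  refine ⟨Y.map f.toMonoidHom, fun he => hY ?_, ?_⟩
  · rw [← Subgroup.comap_map_eq_self_of_injective (f := f.toMonoidHom) f.injective Y, he,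
      Subgroup.comap_top]
  · have h1 := containsLocals_map f hloc
    change ContainsLocals (((T : Subgroup B).comap f.toMonoidHom).map f.toMonoidHom) _ at h1
    rwa [Subgroup.map_comap_eq_self_of_surjective (f := f.toMonoidHom) f.surjective] at h1

variable {Ω : Type*} [Group Ω] {S : Subgroup Ω} {F : FusionSystem S} {p : ℕ} [hp : Fact p.Prime]
  [Finite S] {E : Subgroup Ω}

/-- A fully normalized image of an essential subgroup is essential. -/
theorem essential_img (hS : IsPGroup p S) (hF : F.IsSaturated p) (hE : F.IsEssential p E)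
    {f : Ω → Ω} (hf : IsMap F E f) (hn : F.IsFullyNormalized (img E f)) :
    F.IsEssential p (img E f) := by
  haveI := finite_of_le hE.1.1
  haveI := finite_of_le hf.img_le
  refine ⟨centric_of_isConj hE.1 hf.isConj, hn, ?_⟩
  obtain ⟨hnE, Y₀, hY₀⟩ := hE.2.2
  let κ : MulAut E ≃* MulAut (img E f) := MulAut.congr hf.equivImg
  have hinn : ∀ (P : Subgroup Ω) (α : MulAut P) (g : P), α * MulAut.conj g * α⁻¹ = MulAut.conj (α g) :=
    fun P α g => MulEquiv.ext fun x => by
      simp [MulAut.conj_apply, map_mul, map_inv]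
  have hnorm : ((Inn (img E f)).subgroupOf (F.autGroup (img E f))).Normal := ⟨fun β hβ a => by
    obtain ⟨g, hg⟩ := hβ
    exact ⟨(a : MulAut (img E f)) g, by
      rw [← hinn, hg]; rfl⟩⟩
  let e : F.autGroup E ≃* F.autGroup (img E f) :=
    (Subgroup.equivMapOfInjective (F.autGroup E) κ.toMonoidHom κ.injective).trans
      (MulEquiv.subgroupCongr hf.map_autGroup)
  have hconj : ∀ g : E, κ (MulAut.conj g) = MulAut.conj (hf.equivImg g) := fun g =>
    MulEquiv.ext fun x => by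
      show hf.equivImg (g * hf.equivImg.symm x * g⁻¹) = _
      simp [MulAut.conj_apply]
  have he : ((Inn E).subgroupOf (F.autGroup E)).map e.toMonoidHom =
      (Inn (img E f)).subgroupOf (F.autGroup (img E f)) := by
    ext β
    constructor
    · rintro ⟨α, ⟨g, hg⟩, rfl⟩
      exact ⟨hf.equivImg g, by rw [← hconj, hg]; rfl⟩
    · rintro ⟨g, hg⟩
      refine ⟨e.symm β, ⟨hf.equivImg.symm g, ?_⟩, e.apply_symm_apply β⟩
      refine κ.injective ?_
      rw [hconj, MulEquiv.apply_symm_apply, hg]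
      exact (congrArg Subtype.val (e.apply_symm_apply β)).symm
  let eOut := QuotientGroup.congr _ _ e he
  obtain ⟨T⟩ : Nonempty (Sylow p (F.autGroup (img E f) ⧸
    (Inn (img E f)).subgroupOf (F.autGroup (img E f)))) := inferInstance
  obtain ⟨Y, hY, hloc⟩ := locals_of_equiv eOut hY₀ T
  refine ⟨hnorm, Y, isStronglyPEmbedded_of_containsLocals T ?_ hY hloc⟩
  intro hbot
  have h1 : p ∣ Nat.card (F.autGroup (img E f) ⧸
      (Inn (img E f)).subgroupOf (F.autGroup (img E f))) := by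
    rw [← Nat.card_congr eOut.toEquiv]
    exact hY₀.1.trans (dvd_refl _)
  have h2 := T.not_dvd_index
  rw [hbot, Subgroup.index_bot] at h2
  exact h2 h1

section Image

variable (hS : IsPGroup p S) (hF : F.IsSaturated p) (hE : F.IsEssential p E)
  {ε : E → (Fin 3 → ZMod p)} {ρ : MulAut E →* GL (Fin 3) (ZMod p)}
  (hε : Function.Surjective ε) (hadd : ∀ x y, ε (x * y) = ε x + ε y)
  (hker : ∀ x, ε x = 0 ↔ x ∈ frattini E)
  (hρ : ∀ α x, (ρ α : Matrix (Fin 3) (Fin 3) (ZMod p)) *ᵥ ε x = ε (α x))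

/-- The action of the normalizer in `S`. -/
noncomputable def act (S E : Subgroup Ω) : normalizerIn S E →* MulAut E :=
  E.normalizerMonoidHom.comp (Subgroup.inclusion inf_le_right)

theorem act_apply (g : normalizerIn S E) (x : E) :
    ((act S E g x : E) : Ω) = g * x * (g : Ω)⁻¹ := rfl

include hadd in
theorem coord_one : ε 1 = 0 := by
  have := hadd 1 1
  rwa [one_mul, left_eq_add] at this

include hadd in
theorem coord_inv (x : E) : ε x⁻¹ = - ε x := by
  have := hadd x⁻¹ x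
  rw [inv_mul_cancel, coord_one hadd] at this
  exact eq_neg_of_add_eq_zero_left this.symm

include hadd in
theorem coord_pow (x : E) (k : ℕ) : ε (x ^ k) = (k : ZMod p) • ε x := by
  induction k with
  | zero => simp [coord_one hadd]
  | succ k ih => rw [pow_succ, hadd, ih, Nat.cast_succ, add_smul, one_smul]

include hε hadd hker hρ in
theorem mem_ker_iff {α : MulAut E} :
    α ∈ ρ.ker ↔ α ∈ CfsgLib.Invol.FrattiniKernel.frattiniKer E := by
  rw [MonoidHom.mem_ker, CfsgLib.Invol.FrattiniKernel.mem_frattiniKer]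
  constructor
  · intro h x
    rw [← hker, hadd, coord_inv hadd, ← hρ, h, Units.val_one, Matrix.one_mulVec, neg_add_cancel]
  · intro h
    refine Units.ext (ext_mulVec fun v => ?_)
    obtain ⟨x, rfl⟩ := hε v
    have h1 := (hker _).2 (h x)
    rw [hadd, coord_inv hadd, neg_add_eq_zero] at h1
    rw [hρ, Units.val_one, Matrix.one_mulVec, h1]

include hS hF hE hε hadd hker hρ in
theorem ker_le_inn {α : MulAut E} (hα : α ∈ F.autGroup E) (h : ρ α = 1) : α ∈ Inn E := by
  haveI := finite_of_le hE.1.1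
  refine (CfsgLib.Invol.EssentialSmall.exists_pElement hS hF hE).1
    ((ρ.comp (F.autGroup E).subtype).ker) inferInstance ?_ ⟨α, hα⟩ h
  refine ((CfsgLib.Invol.FrattiniKernel.isPGroup_frattiniKer
    (hS.to_le hE.1.1)).comap_of_injective (F.autGroup E).subtype
      (Subgroup.subtype_injective _)).to_le fun a ha => ?_
  exact (mem_ker_iff hε hadd hker hρ).1 ha

include hε hadd hker hρ in
theorem inn_map_eq_one {α : MulAut E} (hE' : IsPGroup p E) [Finite E] (h : α ∈ Inn E) :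
    ρ α = 1 := by
  refine MonoidHom.mem_ker.1 ((mem_ker_iff hε hadd hker hρ).2 fun u => ?_)
  obtain ⟨g, rfl⟩ := h
  rw [MulAut.conj_apply, show u⁻¹ * (g * u * g⁻¹) = ⁅u⁻¹, g⁆ by
    simp only [commutatorElement_def]; group]
  exact commutator_mem_frattini hE' _ _

include hS hF hE hε hadd hker hρ in
/-- The image of the automizer. -/
theorem image_facts :
    (∀ N : Subgroup ↥((F.autGroup E).map ρ), N.Normal → IsPGroup p N → N = ⊥) ∧
    NoPair ((F.autGroup E).map ρ) ∧
    Nat.card (ρ.comp (act S E)).range = p ∧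
    (∀ g : normalizerIn S E, ρ (act S E g) = 1 ↔ (g : Ω) ∈ E) ∧
    (∀ g : normalizerIn S E, ρ (act S E g) ∈ (F.autGroup E).map ρ) := by
  classical
  have hES := hE.1.1
  haveI := finite_of_le hES
  haveI := finite_normalizerIn (S := S) (P := E)
  have hEp : IsPGroup p E := hS.to_le hES
  let f : F.autGroup E →* ↥((F.autGroup E).map ρ) :=
    ρ.subgroupMap (F.autGroup E)
  have hfs : Function.Surjective f := ρ.subgroupMap_surjective (F.autGroup E)
  have hfker : ∀ a : F.autGroup E, a ∈ f.ker ↔ (a : MulAut E) ∈ Inn E := fun a => by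
    constructor
    · intro h
      exact ker_le_inn hS hF hE hε hadd hker hρ a.2 (congrArg Subtype.val h)
    · intro h
      exact Subtype.ext (inn_map_eq_one hε hadd hker hρ hEp h)
  have hnormal : ∀ N : Subgroup ↥((F.autGroup E).map ρ), N.Normal → IsPGroup p N → N = ⊥ := by
    intro N hN hNp
    have hkp : IsPGroup p f.ker := (((isPGroup_autInducedBy hS E).to_le
      (inn_le_autInducedBy hES)).comap_of_injective (F.autGroup E).subtype
        (Subgroup.subtype_injective _)).to_le fun a ha => (hfker a).1 ha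
    rw [Subgroup.eq_bot_iff_forall]
    intro x hx
    obtain ⟨a, rfl⟩ := hfs x
    exact (hfker a).2 ((CfsgLib.Invol.EssentialSmall.exists_pElement hS hF hE).1
      (N.comap f) inferInstance (hNp.comap_of_ker_isPGroup f hkp) a hx)
  obtain ⟨hnE, Y₀, hY₀⟩ := hE.2.2
  have hk : f.ker = (Inn E).subgroupOf (F.autGroup E) := Subgroup.ext hfker
  have hloc := locals_of_equiv
    ((QuotientGroup.quotientMulEquivOfEq hk.symm).trans
      (QuotientGroup.quotientKerEquivOfSurjective f hfs)) hY₀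
  have hpair := Linear.noPair_of_locals hloc
  have hmem : ∀ g : normalizerIn S E, ρ (act S E g) ∈ (F.autGroup E).map ρ := fun g =>
    mem_map_of_mem ρ (autInducedBy_le_autGroup hES
      (mem_autInducedBy_iff.2 ⟨g, g.2.1, fun x => rfl⟩))
  have hkiff : ∀ g : normalizerIn S E, ρ (act S E g) = 1 ↔ (g : Ω) ∈ E := by
    intro g
    constructor
    · intro h
      obtain ⟨a, ha⟩ := ker_le_inn hS hF hE hε hadd hker hρ (autInducedBy_le_autGroup hES
        (mem_autInducedBy_iff.2 ⟨g, g.2.1, fun x => rfl⟩)) h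
      have h1 : (a : Ω)⁻¹ * g ∈ centralizerIn S E := by
        refine ⟨S.mul_mem (S.inv_mem (hES a.2)) g.2.1, fun x hx => ?_⟩
        have h2 := congrArg Subtype.val (DFunLike.congr_fun ha ⟨x, hx⟩)
        rw [act_apply] at h2
        simp only [MulAut.conj_apply, Subgroup.coe_mul, Subgroup.coe_inv] at h2
        show x * ((a : Ω)⁻¹ * g) = (a : Ω)⁻¹ * g * x
        have h3 : (g : Ω) * x = a * x * (a : Ω)⁻¹ * g := by rw [h2]; group
        rw [mul_assoc (a : Ω)⁻¹, h3]
        group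
      have h2 := E.mul_mem a.2 (hE.1.2 E (isConj_refl hES) h1)
      rwa [mul_inv_cancel_left] at h2
    · intro h
      exact inn_map_eq_one hε hadd hker hρ hEp ⟨⟨g, h⟩, MulEquiv.ext fun x => rfl⟩
  refine ⟨hnormal, hpair, ?_, hkiff, hmem⟩
  refine Linear.card_eq_prime hnormal hpair (by rintro _ ⟨g, rfl⟩; exact hmem g)
    ((hS.to_le inf_le_left).of_surjective _ (ρ.comp (act S E)).rangeRestrict_surjective) ?_
  intro hbot
  obtain ⟨g, hg, hgE⟩ := SetLike.exists_of_lt (lt_normalizerIn hS (lt_of_essential hS hF hE))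
  refine hgE ((hkiff ⟨g, hg⟩).1 ?_)
  exact Subgroup.mem_bot.1 (hbot ▸ ⟨⟨g, hg⟩, rfl⟩ : ρ (act S E ⟨g, hg⟩) ∈ (⊥ : Subgroup _))

end Image

/-- The Frattini subgroup of `E` inside the normalizer. -/
def phiN (S E : Subgroup Ω) : Subgroup (normalizerIn S E) :=
  ((frattini E).map E.subtype).subgroupOf (normalizerIn S E)

/-- `E` inside the normalizer. -/
def inN (S E : Subgroup Ω) : Subgroup (normalizerIn S E) := E.subgroupOf (normalizerIn S E)

theorem mem_inN {g : normalizerIn S E} : g ∈ inN S E ↔ (g : Ω) ∈ E := Iff.rfl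

theorem mem_phiN {g : normalizerIn S E} :
    g ∈ phiN S E ↔ ∃ h : (g : Ω) ∈ E, (⟨g, h⟩ : E) ∈ frattini E := by
  constructor
  · rintro ⟨⟨a, ha⟩, hm, he⟩
    subst he
    exact ⟨ha, hm⟩
  · rintro ⟨h, hm⟩
    exact ⟨⟨g, h⟩, hm, rfl⟩

theorem inN_normal : (inN S E).Normal := ⟨fun a ha g => (g.2.2 (a : Ω)).1 ha⟩

theorem phiN_normal : (phiN S E).Normal := ⟨fun a ha g => by
  obtain ⟨h, hm⟩ := mem_phiN.1 ha
  refine mem_phiN.2 ⟨(g.2.2 (a : Ω)).1 h, ?_⟩
  have h1 := mem_map_of_mem (act S E g).toMonoidHom hm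
  rwa [Subgroup.characteristic_iff_map_eq.1 inferInstance (act S E g)] at h1⟩

theorem phiN_minimal (hS : IsPGroup p S) (hES : E ≤ S) (L : Subgroup (normalizerIn S E))
    (hL : L.Normal) (hc : ∀ a ∈ inN S E, ∀ b ∈ inN S E, ⁅a, b⁆ ∈ L)
    (hpow : ∀ a ∈ inN S E, a ^ p ∈ L) : phiN S E ≤ L := by
  haveI := finite_of_le hES
  let ι : E →* normalizerIn S E := Subgroup.inclusion (le_normalizerIn hES)
  haveI : (L.comap ι).Normal := hL.comap ι
  have h1 : frattini E ≤ L.comap ι := by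
    refine CfsgLib.Transfer.frattini_le_of_elementary_quotient (p := p) _ (fun x y => ?_) fun x => ?_
    · show ι ⁅x, y⁆ ∈ L
      rw [map_commutatorElement]
      exact hc _ x.2 _ y.2
    · show ι (x ^ p) ∈ L
      rw [map_pow]
      exact hpow _ x.2
  intro g hg
  obtain ⟨h, hm⟩ := mem_phiN.1 hg
  exact (h1 hm : ι ⟨g, h⟩ ∈ L)

theorem normalizer_props (hS : IsPGroup p S) (hE : F.IsEssential p E)
    (hidx : (frattini E).index = p ^ 3) :
    (∀ a ∈ inN S E, ∀ b ∈ inN S E, ⁅a, b⁆ ∈ phiN S E) ∧ (∀ a ∈ inN S E, a ^ p ∈ phiN S E) ∧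
    phiN S E ≤ inN S E ∧ (phiN S E).relIndex (inN S E) = p ^ 3 := by
  have hES := hE.1.1
  haveI := finite_of_le hES
  have hEp : IsPGroup p E := hS.to_le hES
  refine ⟨fun a ha b hb => ?_, fun a ha => ?_, ?_, ?_⟩
  · refine mem_phiN.2 ⟨?_, commutator_mem_frattini hEp ⟨a, ha⟩ ⟨b, hb⟩⟩
    show ((⁅a, b⁆ : normalizerIn S E) : Ω) ∈ E
    exact (⁅(⟨(a : Ω), ha⟩ : E), (⟨(b : Ω), hb⟩ : E)⁆).2
  · exact mem_phiN.2 ⟨pow_mem ha p, CfsgLib.StructC.pow_mem_frattini hEp ⟨a, ha⟩⟩
  · intro g hg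
    exact (mem_phiN.1 hg).1
  · rw [phiN, inN, Subgroup.relIndex_subgroupOf (le_normalizerIn hES)]
    show (((frattini E).map E.subtype).subgroupOf E).index = p ^ 3
    rw [show ((frattini E).map E.subtype).subgroupOf E = frattini E from
      Subgroup.comap_map_eq_self_of_injective E.subtype_injective _]
    exact hidx

/-- The two possible actions of the normalizer. -/
theorem cases (hS : IsPGroup p S) (hF : F.IsSaturated p) (hE : F.IsEssential p E)
    (hidx : (frattini E).index = p ^ 3) (hp5 : 5 ≤ p) :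
    Regular.Special p (inN S E) (phiN S E) ∨
    ∃ (θ : MulAut (normalizerIn S E)) (x e u : normalizerIn S E) (a a' : ℕ),
      TransData p (inN S E) (phiN S E) θ x e u a a' ∧ θ ∈ F.autGroup (normalizerIn S E) ∧
      (a : ZMod p) ^ 3 ≠ 1 ∧ (a : ZMod p) ^ 5 ≠ 1 := by
  classical
  have hES := hE.1.1
  haveI := finite_of_le hES
  haveI := finite_normalizerIn (S := S) (P := E)
  have hEp : IsPGroup p E := hS.to_le hES
  have hNp : IsPGroup p (normalizerIn S E) := hS.to_le inf_le_left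
  obtain ⟨ε, ρ, hε, hadd, hker, hρ⟩ := exists_coord hEp hidx
  obtain ⟨hnormal, hpair, hcard, hkiff, hmem⟩ := image_facts hS hF hE hε hadd hker hρ
  obtain ⟨hcomm, hpow, hle, hrel⟩ := normalizer_props hS hE hidx
  have hindex : (inN S E).index = p := by
    have h : (ρ.comp (act S E)).ker = inN S E := Subgroup.ext fun g => hkiff g
    rw [← h, Subgroup.index_ker, hcard]
  obtain ⟨x, hx, hxE⟩ := SetLike.exists_of_lt (lt_normalizerIn hS (lt_of_essential hS hF hE))
  set xN : normalizerIn S E := ⟨x, hx⟩ with hxN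
  set z := ρ (act S E xN) with hzdef
  have hz1 : z ≠ 1 := fun h => hxE ((hkiff xN).1 h)
  obtain ⟨k, hk⟩ := hNp xN
  have hzk : z ^ p ^ k = 1 := by rw [hzdef, ← map_pow, ← map_pow, hk, map_one, map_one]
  -- commutators with `x` in coordinates
  have hco : ∀ v : E, ∀ h : ⁅(x : Ω), (v : Ω)⁆ ∈ E,
      ε ⟨⁅(x : Ω), (v : Ω)⁆, h⟩ = ((z : Matrix (Fin 3) (Fin 3) (ZMod p)) - 1) *ᵥ ε v := by
    intro v h
    rw [Matrix.sub_mulVec, Matrix.one_mulVec, hzdef, hρ, eq_sub_iff_add_eq, ← hadd]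
    congr 1
    refine Subtype.ext ?_
    rw [Subgroup.coe_mul, act_apply]
    show ⁅(x : Ω), (v : Ω)⁆ * v = x * v * x⁻¹
    simp [commutatorElement_def]
  obtain ⟨hn3, ⟨v, φ, hv, hφ, hφv, hztr⟩ | ⟨w, hw⟩⟩ := Linear.tr_or_regular hzk hz1
  swap
  · left
    refine ⟨hindex, inN_normal, phiN_normal, hle, ?_, hcomm, hpow, hrel, ?_⟩
    · refine phiN_minimal hS hES _ inferInstance
        (fun a _ b _ => commutator_mem_frattini hNp a b)
        fun a _ => CfsgLib.StructC.pow_mem_frattini hNp a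
    · obtain ⟨e, he⟩ := hε w
      set eN : normalizerIn S E := ⟨e, le_normalizerIn hES e.2⟩ with heN
      refine ⟨xN, hxE, eN, e.2, fun h => ?_⟩
      have hc : ⁅(x : Ω), (e : Ω)⁆ ∈ E := by
        rw [commutatorElement_def]
        exact E.mul_mem ((hx.2 (e : Ω)).1 e.2) (E.inv_mem e.2)
      have hd : ⁅(x : Ω), ⁅(x : Ω), (e : Ω)⁆⁆ ∈ E := by
        rw [commutatorElement_def (x : Ω) ⁅(x : Ω), (e : Ω)⁆]
        exact E.mul_mem ((hx.2 _).1 hc) (E.inv_mem hc)
      have h1 : ⁅xN, ⁅xN, eN⁆⁆ ∈ phiN S E := by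
        have hn : ⁅eN, xN⁆ ∈ inN S E := by
          rw [← commutatorElement_inv]
          exact inv_mem (show ((⁅xN, eN⁆ : normalizerIn S E) : Ω) ∈ E from hc)
        have e1 : ⁅xN, ⁅xN, eN⁆⁆ = ⁅eN, xN⁆⁻¹ * ⁅⁅eN, xN⁆, xN⁆ * ⁅eN, xN⁆⁻¹⁻¹ := by
          simp only [commutatorElement_def]; group
        rw [e1]
        exact phiN_normal.conj_mem _ h _
      obtain ⟨h2, h3⟩ := mem_phiN.1 h1
      have h4 := (hker _).2 h3
      rw [show (⟨_, h2⟩ : E) = ⟨⁅(x : Ω), ((⟨⁅(x : Ω), (e : Ω)⁆, hc⟩ : E) : Ω)⁆, hd⟩ from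
        Subtype.ext rfl, hco, hco, he] at h4
      exact hw h4
  right
  have ht : Mem ((F.autGroup E).map ρ) (tr v φ) := ⟨z, hmem xN, hztr⟩
  obtain ⟨f⟩ := exists_opposite hφv hv hφ ht hnormal hpair
  -- a primitive root
  obtain ⟨g, hg⟩ := IsCyclic.exists_generator (α := (ZMod p)ˣ)
  have hord : orderOf g = p - 1 := by
    rw [orderOf_eq_card_of_forall_mem_zpowers hg, Nat.card_units, Nat.card_zmod]
  have hroot : ∀ m : ℕ, 0 < m → m ≤ 5 → (g : ZMod p) ^ m = 1 → p - 1 ∣ m := fun m _ _ h => by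
    rw [← hord]
    exact orderOf_dvd_of_pow_eq_one (Units.ext (by rwa [Units.val_pow_eq_pow_val, Units.val_one]))
  set a : ℕ := (g : ZMod p).val with ha
  have hacast : (a : ZMod p) = g := ZMod.natCast_zmod_val _
  set a' : ℕ := ((g⁻¹ : (ZMod p)ˣ) : ZMod p).val with ha'
  have haa : (a : ZMod p) * a' = 1 := by
    rw [hacast, ha', ZMod.natCast_zmod_val, ← Units.val_mul, mul_inv_cancel, Units.val_one]
  have ha1 : (a : ZMod p) ^ 2 ≠ 1 := fun h => by
    rw [hacast] at h
    have := Nat.le_of_dvd two_pos (hroot 2 two_pos (by norm_num) h)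
    omega
  have ha3 : (a : ZMod p) ^ 3 ≠ 1 := fun h => by
    rw [hacast] at h
    have := Nat.le_of_dvd three_pos (hroot 3 three_pos (by norm_num) h)
    omega
  have ha5 : (a : ZMod p) ^ 5 ≠ 1 := fun h => by
    rw [hacast] at h
    have h' := hroot 5 (by norm_num) le_rfl h
    rcases (Nat.dvd_prime (by norm_num : Nat.Prime 5)).1 h' with h1 | h1
    · omega
    · have : p = 6 := by omega
      exact absurd (this ▸ hp.out) (by norm_num)
  obtain ⟨_, ⟨θ, hθ, rfl⟩, g1, g2, g3⟩ := f.torus hφv ht (left_ne_zero_of_mul_eq_one haa)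
  obtain ⟨l₀, hl₀⟩ := hε v
  obtain ⟨u₀, hu₀⟩ := hε f.u
  obtain ⟨e₀, he₀⟩ := hε f.v'
  set eN : normalizerIn S E := ⟨e₀, le_normalizerIn hES e₀.2⟩ with heN
  set uN : normalizerIn S E := ⟨u₀, le_normalizerIn hES u₀.2⟩ with huN
  have hxe : ⁅(x : Ω), (e₀ : Ω)⁆ ∈ E := by
    rw [commutatorElement_def]
    exact E.mul_mem ((hx.2 (e₀ : Ω)).1 e₀.2) (E.inv_mem e₀.2)
  have hnz : ∀ w, ((z : Matrix (Fin 3) (Fin 3) (ZMod p)) - 1) *ᵥ w = (φ ⬝ᵥ w) • v := fun w => by
    rw [Matrix.sub_mulVec, hztr, tr_apply, Matrix.one_mulVec, add_sub_cancel_left]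
  set l : E := ⟨⁅(x : Ω), (e₀ : Ω)⁆, hxe⟩ with hldef
  have hl : ε l = v := by rw [hldef, hco, he₀, hnz, f.φv', one_smul]
  -- the extension of the torus
  have hconjθ : ∀ g : normalizerIn S E, ∃ j : ℕ,
      ρ (θ * act S E g * θ⁻¹) = ρ (act S E g) ^ (j : ℕ) ∧
      ((⟨x, hx⟩ : normalizerIn S E) = g → (j : ZMod p) = (a : ZMod p) * a) := by
    have hmat : ρ (θ * act S E xN * θ⁻¹) = z ^ (a * a) := by
      rw [map_mul, map_mul, map_inv]
      refine Units.ext (ext_mulVec fun w => ?_)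
      have hpowz : ∀ j : ℕ, ((z ^ j : GL (Fin 3) (ZMod p)) : Matrix (Fin 3) (Fin 3) (ZMod p)) =
          tr v ((j : ZMod p) • φ) := fun j => by
        rw [Units.val_pow_eq_pow_val, hztr]
        induction j with
        | zero => rw [pow_zero, Nat.cast_zero, zero_smul, tr, Matrix.vecMulVec_zero, add_zero]
        | succ j ih =>
          rw [pow_succ, ih, tr_mul_tr (by rw [smul_dotProduct, hφv, smul_zero]), Nat.cast_succ,
            add_smul, one_smul]
      rw [← hzdef, hpowz, Units.val_mul, Units.val_mul, hztr, mul_tr, g1, tr_apply, tr_apply,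
        ← Matrix.dotProduct_mulVec, smul_smul, smul_dotProduct, smul_eq_mul]
      congr 2
      obtain ⟨c, hc⟩ := f.expand hφv w
      have e1 : (↑(ρ θ)⁻¹ : Matrix (Fin 3) (Fin 3) (ZMod p)) *ᵥ v = (a : ZMod p)⁻¹ • v := by
        have := congrArg ((↑(ρ θ)⁻¹ : Matrix (Fin 3) (Fin 3) (ZMod p)) *ᵥ ·) g1
        simp only [Matrix.mulVec_mulVec, Units.inv_mul, Matrix.one_mulVec, Matrix.mulVec_smul] at this
        conv_rhs => rw [this, smul_smul, inv_mul_cancel₀ (left_ne_zero_of_mul_eq_one haa), one_smul]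
      have e2 : (↑(ρ θ)⁻¹ : Matrix (Fin 3) (Fin 3) (ZMod p)) *ᵥ f.u = f.u := by
        conv_lhs => rw [← g2, Matrix.mulVec_mulVec, Units.inv_mul, Matrix.one_mulVec]
      have e3 : (↑(ρ θ)⁻¹ : Matrix (Fin 3) (Fin 3) (ZMod p)) *ᵥ f.v' = (a : ZMod p) • f.v' := by
        have := congrArg ((↑(ρ θ)⁻¹ : Matrix (Fin 3) (Fin 3) (ZMod p)) *ᵥ ·) g3
        simp only [Matrix.mulVec_mulVec, Units.inv_mul, Matrix.one_mulVec, Matrix.mulVec_smul] at this
        conv_rhs => rw [this, smul_smul, mul_inv_cancel₀ (left_ne_zero_of_mul_eq_one haa), one_smul]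
      conv_lhs => rw [hc]
      simp only [Matrix.mulVec_add, Matrix.mulVec_smul, e1, e2, e3, dotProduct_add, dotProduct_smul,
        hφv, f.φu, f.φv', smul_eq_mul, mul_zero, zero_add, mul_one]
      push_cast
      ring
    intro g
    haveI := inN_normal (S := S) (E := E)
    obtain ⟨i, -, b, hb, rfl⟩ := exists_pow_mul (p := p) (A := inN S E)
      (by rw [Subgroup.relIndex_top_right]; exact hindex) (mem_top xN) hxE (mem_top g)
    refine ⟨a * a, ?_, fun _ => by push_cast; rfl⟩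
    rw [map_mul (act S E), map_pow, map_mul, map_mul, map_mul, map_pow, (hkiff b).2 hb, mul_one,
      map_inv, ← conj_pow, ← map_inv ρ, ← map_mul, ← map_mul, hmat, ← hzdef, ← pow_mul, ← pow_mul,
      mul_comm]
  have hθ' := isMap_of_autGroup hES hθ
  obtain ⟨ψ, hψ, hψE⟩ := receptive_extend (receptive_of_fullyNormalized hS hF hE.2.1) hθ'
    (img_toFun_aut θ) (R := normalizerIn S E) (le_normalizerIn hES) fun g hg => by
      refine ⟨hg.1, hg.2, ?_⟩
      obtain ⟨j, hj, -⟩ := hconjθ ⟨g, hg⟩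
      have h1 : θ * act S E ⟨g, hg⟩ * θ⁻¹ * (act S E (⟨g, hg⟩ ^ j))⁻¹ ∈ Inn E := by
        refine ker_le_inn hS hF hE hε hadd hker hρ ?_ ?_
        · exact mul_mem (mul_mem (mul_mem hθ (autInducedBy_le_autGroup hES
            (mem_autInducedBy_iff.2 ⟨g, hg.1, fun x => rfl⟩))) (inv_mem hθ))
            (inv_mem (autInducedBy_le_autGroup hES
              (mem_autInducedBy_iff.2 ⟨_, (⟨g, hg⟩ ^ j : normalizerIn S E).2.1, fun x => rfl⟩)))
        · rw [map_mul, hj, map_inv, map_pow, map_pow, mul_inv_cancel]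
      obtain ⟨c, hc⟩ := h1
      refine ⟨c * g ^ j, S.mul_mem (hES c.2) (S.pow_mem hg.1 j), fun w hw => ?_⟩
      rw [eq_mul_inv_iff_mul_eq] at hc
      have h2 := congrArg Subtype.val (DFunLike.congr_fun hc (θ ⟨w, hw⟩))
      simp only [MulAut.mul_apply, MulAut.inv_apply_self, MulAut.conj_apply, Subgroup.coe_mul,
        Subgroup.coe_inv, act_apply, Subgroup.coe_pow] at h2
      rw [toFun_aut_apply θ hw, toFun_aut_apply θ ((hg.2 w).1 hw)]
      rw [show (⟨g * w * g⁻¹, (hg.2 w).1 hw⟩ : E) = act S E ⟨g, hg⟩ ⟨w, hw⟩ from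
        Subtype.ext rfl, ← h2]
      group
  have himgE : img E ψ = E := (img_congr hψE).trans (img_toFun_aut θ)
  have hψN : ∀ g ∈ normalizerIn S E, ψ g ∈ normalizerIn S E := fun g hg => by
    have := hψ.apply_mem_normalizerIn (le_normalizerIn hES) hg hg.2
    rwa [himgE] at this
  have himgN : img (normalizerIn S E) ψ = normalizerIn S E :=
    CfsgLib.Fusion.eq_of_le_of_card_le (fun y hy => by
      obtain ⟨g, hg, rfl⟩ := hψ.mem_img.1 hy
      exact hψN g hg) hψ.card_img.ge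
  set Θ := hψ.toAut himgN with hΘ
  have hΘx : ∀ g, ((Θ g : normalizerIn S E) : Ω) = ψ g := hψ.toAut_apply himgN
  have hΘE : ∀ w : E, Θ ⟨w, le_normalizerIn hES w.2⟩ = ⟨(θ w : E), le_normalizerIn hES (θ w).2⟩ :=
    fun w => Subtype.ext (by rw [hΘx, hψE _ w.2, toFun_aut_apply θ w.2])
  have hD : ∀ w : E, ε w = 0 → (⟨w, le_normalizerIn hES w.2⟩ : normalizerIn S E) ∈ phiN S E :=
    fun w hw => mem_phiN.2 ⟨w.2, (hker w).1 hw⟩
  have hlN : ⁅xN, eN⁆ = ⟨l, le_normalizerIn hES l.2⟩ := Subtype.ext rfl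
  refine ⟨Θ, xN, eN, uN, a, a', ?_, hψ.toAut_mem himgN, ha3, ha5⟩
  refine ⟨hindex, inN_normal, phiN_normal, hle, hcomm, hpow, phiN_minimal hS hES, hxE, ?_, ?_, ?_,
    ?_, ?_, ?_, ?_, ?_, ?_, haa, ha1⟩
  · -- generation
    refine le_antisymm ?_ ((closure_le _).2 ?_)
    · have hgen : Subgroup.closure {l, u₀, e₀} = (⊤ : Subgroup E) := by
        refine frattini_nongenerating (eq_top_iff.2 fun w _ => ?_)
        obtain ⟨c, hc⟩ := f.expand hφv (ε w)
        set y : E := l ^ (f.φ' ⬝ᵥ ε w).val * u₀ ^ c.val * e₀ ^ (φ ⬝ᵥ ε w).val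
        have hy : y ∈ Subgroup.closure {l, u₀, e₀} := mul_mem (mul_mem
          (pow_mem (subset_closure (by simp)) _) (pow_mem (subset_closure (by simp)) _))
          (pow_mem (subset_closure (by simp)) _)
        have h1 : y⁻¹ * w ∈ frattini E := by
          rw [← hker, hadd, coord_inv hadd, hadd, hadd, coord_pow hadd, coord_pow hadd,
            coord_pow hadd, hl, hu₀, he₀, ZMod.natCast_zmod_val, ZMod.natCast_zmod_val,
            ZMod.natCast_zmod_val, ← hc, neg_add_cancel]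
        have h2 := mul_mem_sup hy h1
        rwa [mul_inv_cancel_left] at h2
      intro g hg
      have h1 : (⟨g, hg⟩ : E) ∈ (closure {⁅xN, eN⁆, uN, eN}).comap
          (Subgroup.inclusion (le_normalizerIn hES)) := by
        refine ((closure_le _).2 ?_ : closure {l, u₀, e₀} ≤ _) (hgen ▸ mem_top _)
        rintro w (rfl | rfl | rfl)
        · exact subset_closure (Or.inl hlN.symm)
        · exact subset_closure (Or.inr (Or.inl rfl))
        · exact subset_closure (Or.inr (Or.inr rfl))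
      exact h1
    · rintro w (rfl | rfl | rfl)
      · exact hxe
      · exact u₀.2
      · exact e₀.2
  · intro i j m h
    obtain ⟨h', hm⟩ := mem_phiN.1 h
    have h1 := (hker _).2 hm
    rw [show (⟨_, h'⟩ : E) = l ^ i * u₀ ^ j * e₀ ^ m from Subtype.ext rfl, hadd, hadd,
      coord_pow hadd, coord_pow hadd, coord_pow hadd, hl, hu₀, he₀] at h1
    have h2 := congrArg (f.φ' ⬝ᵥ ·) h1
    have h3 := congrArg (φ ⬝ᵥ ·) h1
    simp [dotProduct_add, f.φ'v, f.φ'u, f.φ'v', hφv, f.φu, f.φv'] at h2 h3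
    rw [h2, h3, zero_smul, zero_smul, zero_add, add_zero, smul_eq_zero] at h1
    exact ⟨(ZMod.natCast_eq_zero_iff _ _).1 h2,
      (ZMod.natCast_eq_zero_iff _ _).1 (h1.resolve_right f.u_ne),
      (ZMod.natCast_eq_zero_iff _ _).1 h3⟩
  · have h1 : ⁅(x : Ω), (u₀ : Ω)⁆ ∈ E := by
      rw [commutatorElement_def]
      exact E.mul_mem ((hx.2 (u₀ : Ω)).1 u₀.2) (E.inv_mem u₀.2)
    rw [show ⁅xN, uN⁆ = ⟨_, le_normalizerIn hES h1⟩ from Subtype.ext rfl]
    exact hD ⟨_, h1⟩ (by rw [hco, hu₀, hnz, f.φu, zero_smul])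
  · have h1 : ⁅(x : Ω), (l : Ω)⁆ ∈ E := by
      rw [commutatorElement_def]
      exact E.mul_mem ((hx.2 (l : Ω)).1 l.2) (E.inv_mem l.2)
    rw [show ⁅xN, ⁅xN, eN⁆⁆ = ⟨_, le_normalizerIn hES h1⟩ from Subtype.ext rfl]
    exact hD ⟨_, h1⟩ (by rw [hco, hl, hnz, hφv, zero_smul])
  · intro d hd
    obtain ⟨h', hm⟩ := mem_phiN.1 hd
    rw [show d = ⟨((⟨(d : Ω), h'⟩ : E) : Ω), le_normalizerIn hES h'⟩ from Subtype.ext rfl, hΘE]
    refine mem_phiN.2 ⟨(θ _).2, ?_⟩
    have h1 := mem_map_of_mem θ.toMonoidHom hm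
    rw [Subgroup.characteristic_iff_map_eq.1 inferInstance θ] at h1
    exact h1
  · -- the weight on `x`
    rw [mem_inN, ← hkiff]
    obtain ⟨j, hj, hja⟩ := hconjθ xN
    have key : act S E (Θ xN) = θ * act S E xN * θ⁻¹ := MulEquiv.ext fun w => Subtype.ext (by
      rw [act_apply, MulAut.mul_apply, MulAut.mul_apply, hΘx]
      have hcoe : ∀ q : E, (((θ q) : E) : Ω) = ψ q := fun q => by
        rw [hψE _ q.2, toFun_aut_apply θ q.2]
      rw [hcoe, act_apply, hψ.map_conj hx (le_normalizerIn hES (θ⁻¹ w).2), ← hcoe,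
        MulAut.apply_inv_self])
    rw [map_mul, map_inv, map_pow, key, map_mul, map_inv, map_pow, hj, ← hzdef, inv_mul_eq_one]
    have hzp : z ^ p = 1 := by
      have h2 : (⟨z, ⟨xN, rfl⟩⟩ : (ρ.comp (act S E)).range) ^ p = 1 := by
        have h3 := pow_card_eq_one' (x := (⟨z, ⟨xN, rfl⟩⟩ : (ρ.comp (act S E)).range))
        rwa [hcard] at h3
      exact congrArg Subtype.val h2
    exact pow_eq_pow_zmod hzp (by push_cast; rw [hja rfl])
  · have h1 : ε ((l ^ a)⁻¹ * θ l) = 0 := by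
      rw [hadd, coord_inv hadd, coord_pow hadd, ← hρ, hl, g1, neg_add_cancel]
    rw [hlN, hΘE]
    exact hD _ h1
  · have h1 : ε (u₀⁻¹ * θ u₀) = 0 := by
      rw [hadd, coord_inv hadd, ← hρ, hu₀, g2, neg_add_cancel]
    rw [huN, hΘE]
    exact hD _ h1
  · have h1 : ε ((e₀ ^ a')⁻¹ * θ e₀) = 0 := by
      rw [hadd, coord_inv hadd, coord_pow hadd, ← hρ, he₀, g3, inv_eq_of_mul_eq_one_right haa,
        neg_add_cancel]
    rw [heN, hΘE]
    exact hD _ h1

/-- A single block fixes no line arising from the centre. -/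
theorem false_of_center_line (hS : IsPGroup p S) (hF : F.IsSaturated p) (hE : F.IsEssential p E)
    (hidx : (frattini E).index = p ^ 3) (hp2 : p ≠ 2) {x e : normalizerIn S E}
    (he : e ∈ inN S E) (hd : ⁅⁅e, x⁆, x⁆ ∉ phiN S E) (hcen : ∀ g, Commute ⁅⁅e, x⁆, x⁆ g)
    (hline : ∀ z ∈ inN S E, (∀ w ∈ inN S E, Commute z w) →
      ∃ i : ℕ, (⁅⁅e, x⁆, x⁆ ^ i)⁻¹ * z ∈ phiN S E) : False := by
  classical
  have hES := hE.1.1
  haveI := finite_of_le hES
  haveI := finite_normalizerIn (S := S) (P := E)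
  obtain ⟨ε, ρ, hε, hadd, hker, hρ⟩ := exists_coord (hS.to_le hES) hidx
  obtain ⟨hnormal, -, -, -, hmem⟩ := image_facts hS hF hE hε hadd hker hρ
  haveI := inN_normal (S := S) (E := E)
  set d := ⁅⁅e, x⁆, x⁆ with hddef
  have hcE : ⁅e, x⁆ ∈ inN S E := by
    rw [commutatorElement_def, mul_assoc e, mul_assoc e]
    exact mul_mem he (inN_normal.conj_mem _ (inv_mem he) x)
  have hdE : d ∈ inN S E := by
    rw [hddef, commutatorElement_def ⁅e, x⁆ x, mul_assoc ⁅e, x⁆, mul_assoc ⁅e, x⁆]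
    exact mul_mem hcE (inN_normal.conj_mem _ (inv_mem hcE) x)
  set z := ρ (act S E x)
  obtain ⟨k, hk⟩ := (hS.to_le (inf_le_left : normalizerIn S E ≤ S)) x
  have hzk : z ^ p ^ k = 1 := by
    rw [← map_pow, ← map_pow, show x ^ p ^ k = 1 from hk, map_one, map_one]
  have hco : ∀ (v : normalizerIn S E) (hv : v ∈ inN S E) (h : ⁅v, x⁆ ∈ inN S E),
      ε ⟨_, h⟩ = -(((z : Matrix (Fin 3) (Fin 3) (ZMod p)) - 1) *ᵥ ε ⟨_, hv⟩) := by
    intro v hv h
    have e1 : (⟨_, h⟩ : E) = ⟨_, hv⟩ * (act S E x ⟨_, hv⟩)⁻¹ := Subtype.ext (by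
      rw [Subgroup.coe_mul, Subgroup.coe_inv, act_apply]
      show ((⁅v, x⁆ : normalizerIn S E) : Ω) = _
      simp [commutatorElement_def, mul_assoc])
    rw [e1, hadd, coord_inv hadd, ← hρ, Matrix.sub_mulVec, Matrix.one_mulVec]
    abel
  have hεd : ε ⟨_, hdE⟩ = ((z : Matrix (Fin 3) (Fin 3) (ZMod p)) - 1) *ᵥ
      (((z : Matrix (Fin 3) (Fin 3) (ZMod p)) - 1) *ᵥ ε ⟨_, he⟩) := by
    rw [hco ⁅e, x⁆ hcE hdE, hco e he hcE, Matrix.mulVec_neg, neg_neg]
  refine Linear.regular_line hp2 hnormal (hmem x) hzk (w := ε ⟨_, he⟩) ?_ fun g hg => ?_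
  · intro h
    rw [← hεd] at h
    exact hd (mem_phiN.2 ⟨hdE, (hker _).1 h⟩)
  obtain ⟨α, -, rfl⟩ := hg
  rw [← hεd, hρ]
  set q : E := α ⟨_, hdE⟩
  have hqc : ∀ w ∈ inN S E,
      Commute (⟨q, le_normalizerIn hES q.2⟩ : normalizerIn S E) w := by
    intro w hw
    have h1 : Commute (⟨_, hdE⟩ : E) (α.symm ⟨_, hw⟩) := Subtype.ext
      (congrArg Subtype.val (hcen ⟨(α.symm ⟨_, hw⟩ : E), le_normalizerIn hES (SetLike.coe_mem _)⟩).eq :)
    have h2 := h1.map α.toMonoidHom
    simp only [MulEquiv.coe_toMonoidHom, MulEquiv.apply_symm_apply] at h2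
    exact Subtype.ext (congrArg Subtype.val h2.eq :)
  obtain ⟨i, hi⟩ := hline _ q.2 hqc
  obtain ⟨h', hm⟩ := mem_phiN.1 hi
  refine ⟨(i : ZMod p), ?_⟩
  have h1 := (hker _).2 hm
  rw [show (⟨_, h'⟩ : E) = (⟨_, hdE⟩ ^ i)⁻¹ * q from Subtype.ext rfl, hadd, coord_inv hadd,
    coord_pow hadd, neg_add_eq_zero] at h1
  exact h1.symm

end CfsgLib.RankThree.Top
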